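import Cfsg.Agent.GH.L2AutFix
import Cfsg.Agent.OddHalf.D6.SubFix
import Cfsg.Agent.OddHalf.D6.PumpDown

/-!
# UGT, inner L2: facts on `Aut L`, `L ≅ PSL(2,F)`, `F` finite of odd order

* `pgl_four`: a four-group of `PGL(2,F)` is its own centralizer in `PGL(2,F)`.
* `perfect_comm`: the centralizer in `Aut L` of an involution of `PGL(2,F)` has no perfect subgroups.
* `four_fix`: a four-group of `L` is its own centralizer in `L`.
* `odd_normal_eq_bot`: no normal subgroup of odd order.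
* `field_bal`: local 1-balance for a field involution.
-/

set_option autoImplicit false

open Subgroup
open Cfsg.Agent.Lib.SL2Mat
open Cfsg.Agent.GH.L2Aut

namespace Cfsg.Agent.UGT.L2Inner.WBAut

variable {F : Type*} [Field F] [Finite F] {L : Type*} [Group L] (R : GH.L2Aut.Rep F L)

local notation "M2" => Matrix (Fin 2) (Fin 2) F

/-- what commutes with an anticommuting pair is scalar -/
theorem gl_eq_one_of_comm {g h k : GL (Fin 2) F} (hs : ∀ c : F, g.1 ≠ c • (1 : M2))
    (hgh : h.1 * g.1 = -(g.1 * h.1)) (hkg : g.1 * k.1 = k.1 * g.1) (hkh : h.1 * k.1 = k.1 * h.1) :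
    R.gl k = 1 := by
  obtain ⟨a, b, hab⟩ := exists_ab hs hkg
  rw [R.gl_eq_one_iff]
  refine ⟨a, ?_⟩
  have h1 : (2 * b) • (g.1 * h.1) = 0 := by
    have h2 : h.1 * k.1 = a • h.1 - b • (g.1 * h.1) := by
      rw [hab, Matrix.mul_add, Matrix.mul_smul, Matrix.mul_smul, Matrix.mul_one, hgh, smul_neg,
        ← sub_eq_add_neg]
    have h3 : k.1 * h.1 = a • h.1 + b • (g.1 * h.1) := by
      rw [hab, Matrix.add_mul, Matrix.smul_mul, Matrix.smul_mul, Matrix.one_mul]
    rw [h2, h3] at hkh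
    have h4 : b • (g.1 * h.1) + b • (g.1 * h.1) = 0 := by
      have h5 : a • h.1 - b • (g.1 * h.1) = a • h.1 + b • (g.1 * h.1) := hkh
      have h6 := sub_eq_zero.mpr h5.symm
      rw [← h6]
      abel
    rw [two_mul, add_smul]
    exact h4
  have h2 : g.1 * h.1 ≠ 0 := by
    intro h0
    have h3 : (g * h).1.det = 0 := by
      rw [Units.val_mul, h0]
      simp
    exact (Matrix.GeneralLinearGroup.det (g * h)).ne_zero h3
  have h3 : 2 * b = 0 := (smul_eq_zero.mp h1).resolve_right h2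
  have h4 : b = 0 := (mul_eq_zero.mp h3).resolve_left R.two
  rw [hab, h4, zero_smul, add_zero]

/-- a four-group of `PGL(2,F)` is its own centralizer in `PGL(2,F)` -/
theorem pgl_four {φ ψ α : MulAut L} (hφ : φ ∈ R.PGL) (hψ : ψ ∈ R.PGL) (hα : α ∈ R.PGL)
    (hφ1 : φ ≠ 1) (hψ1 : ψ ≠ 1) (hne : φ ≠ ψ) (hφφ : φ * φ = 1) (hψψ : ψ * ψ = 1)
    (hc : φ * ψ = ψ * φ) (h1 : α * φ = φ * α) (h2 : α * ψ = ψ * α) :
    α = 1 ∨ α = φ ∨ α = ψ ∨ α = φ * ψ := by
  obtain ⟨g, rfl⟩ := R.mem_PGL.1 hφ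
  obtain ⟨h, rfl⟩ := R.mem_PGL.1 hψ
  obtain ⟨k, rfl⟩ := R.mem_PGL.1 hα
  have hs := R.not_scalar_of_ne hφ1
  have htr := R.tr_of_inv hφ1 hφφ
  have hgh : h.1 * g.1 = -(g.1 * h.1) := by
    rcases R.comm_cases hc.symm with h3 | h3
    · rcases R.torus_inv hs htr h3.symm hψψ with h4 | h4
      · exact absurd h4 hψ1
      · exact absurd h4.symm hne
    · exact h3
  have hgi : (R.gl g)⁻¹ = R.gl g := inv_eq_of_mul_eq_one_left hφφ
  have hhi : (R.gl h)⁻¹ = R.gl h := inv_eq_of_mul_eq_one_left hψψ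
  rcases R.comm_cases h1 with h3 | h3 <;> rcases R.comm_cases h2 with h4 | h4
  · left
    exact gl_eq_one_of_comm R hs hgh h3.symm h4.symm
  · right; left
    have h5 : R.gl (k * g) = 1 := by
      apply gl_eq_one_of_comm R hs hgh
      · rw [Units.val_mul, ← Matrix.mul_assoc, ← h3]
      · rw [Units.val_mul, Matrix.mul_assoc k.1, ← neg_eq_iff_eq_neg.mpr hgh, Matrix.mul_neg,
          ← Matrix.mul_assoc k.1, h4, Matrix.neg_mul, neg_neg, Matrix.mul_assoc]
    rw [map_mul] at h5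
    rw [eq_inv_of_mul_eq_one_left h5, hgi]
  · right; right; left
    have h5 : R.gl (k * h) = 1 := by
      apply gl_eq_one_of_comm R hs hgh
      · rw [Units.val_mul, Matrix.mul_assoc k.1, hgh, Matrix.mul_neg, ← Matrix.mul_assoc k.1, h3,
          Matrix.neg_mul, neg_neg, Matrix.mul_assoc]
      · rw [Units.val_mul, ← Matrix.mul_assoc, ← h4]
    rw [map_mul] at h5
    rw [eq_inv_of_mul_eq_one_left h5, hhi]
  · right; right; right
    have h5 : R.gl (k * (g * h)) = 1 := by
      apply gl_eq_one_of_comm R hs hgh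
      · have e1 : k.1 * (g.1 * h.1) * g.1 = g.1 * (k.1 * (g.1 * h.1)) := by
          rw [Matrix.mul_assoc k.1, Matrix.mul_assoc g.1, hgh, Matrix.mul_neg, Matrix.mul_neg,
            ← Matrix.mul_assoc k.1 g.1, h3, Matrix.neg_mul, neg_neg, Matrix.mul_assoc]
        rw [Units.val_mul, Units.val_mul g h]
        exact e1.symm
      · have e1 : k.1 * (g.1 * h.1) * h.1 = h.1 * (k.1 * (g.1 * h.1)) := by
          rw [← Matrix.mul_assoc h.1 k.1, ← neg_eq_iff_eq_neg.mpr h4, Matrix.neg_mul,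
            Matrix.mul_assoc k.1 h.1, ← Matrix.mul_assoc h.1 g.1, hgh, Matrix.neg_mul,
            Matrix.mul_neg, neg_neg, Matrix.mul_assoc k.1]
        rw [Units.val_mul, Units.val_mul g h]
        exact e1.symm
    rw [map_mul, map_mul] at h5
    rw [eq_inv_of_mul_eq_one_left h5, mul_inv_rev, hgi, hhi, hc]

/-- the centralizer in `Aut L` of an involution of `PGL(2,F)` has no perfect subgroups -/
theorem perfect_comm {φ : MulAut L} (hφ : φ ∈ R.PGL) (hφ1 : φ ≠ 1) (hφφ : φ * φ = 1)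
    {P : Subgroup (MulAut L)} (hP : ⁅P, P⁆ = P) (hc : ∀ x ∈ P, x * φ = φ * x) : P = ⊥ := by
  have hle : P ≤ R.PGL := by
    rw [← hP, commutator_le]
    intro a _ b _
    rw [R.mem_PGL_iff_fld, map_commutatorElement, commutatorElement_eq_one_iff_mul_comm]
    exact Cfsg.Agent.Lib.AutSL2Out.ringEquiv_comm _ _
  obtain ⟨A, -, -, hAc, -, hcov⟩ := R.inv_cent hφ hφ1 hφφ
  exact Cfsg.Agent.OddHalf.D6.PumpDown.eq_bot_of_metabelian (C := P) le_rfl
    (Cfsg.Agent.OddHalf.D6.PumpDown.metabelian_of_inv hAc fun x hx => hcov x (hle hx) (hc x hx)) hP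

include R in
/-- a four-group of `L` is its own centralizer in `L` -/
theorem four_fix {a b h : L} (hF : Four a b) (ha : h * a = a * h) (hb : h * b = b * h) :
    h = 1 ∨ h = a ∨ h = b ∨ h = a * b := by
  have h1 := R.fix_four hF (R.conj_mem_PGL h)
    (by rw [MulAut.conj_apply, ha, mul_inv_cancel_right])
    (by rw [MulAut.conj_apply, hb, mul_inv_cancel_right])
  rcases h1 with h1 | h1 | h1 | h1
  · exact Or.inl (R.conj_injective (by rw [h1, map_one]))
  · exact Or.inr (Or.inl (R.conj_injective h1))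
  · exact Or.inr (Or.inr (Or.inl (R.conj_injective h1)))
  · exact Or.inr (Or.inr (Or.inr (R.conj_injective h1)))

include R in
theorem even_card : Even (Nat.card L) := by
  have := R.finite
  obtain ⟨a, b, hF⟩ := R.exists_four
  have h1 : orderOf a = 2 := orderOf_eq_prime (by rw [sq]; exact hF.aa) hF.a1
  rw [even_iff_two_dvd, ← h1]
  exact orderOf_dvd_natCard a

include R in
theorem normal_eq_bot_three (h3 : Nat.card F = 3) {N : Subgroup L} (hN : N.Normal)
    (hodd : Odd (Nat.card N)) : N = ⊥ := by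
  have := R.finite
  have : Fintype F := Fintype.ofFinite F
  have hF : Fintype.card F = 3 := by rw [← Nat.card_eq_fintype_card, h3]
  have hthree : (3 : F) = 0 := by
    have h1 : ((Fintype.card F : ℕ) : F) = 0 := by rw [Nat.cast_card_eq_zero]
    rw [hF] at h1
    exact_mod_cast h1
  have hcard : Nat.card L = 12 := by
    obtain ⟨e⟩ := Cfsg.Agent.OddHalf.D6.PumpDown.nonempty_equiv R
    have h1 := Cfsg.Agent.SmallSimple.PSLTwoPart.card_psl_two_odd (F := F) (by rw [hF]; decide)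
    rw [hF] at h1
    rw [Nat.card_congr e.toEquiv]
    omega
  by_contra hne
  have h1 : Nat.card N ∣ 12 := hcard ▸ card_subgroup_dvd_card N
  have h2 : Nat.card N ≠ 1 := fun h => hne (card_eq_one.mp h)
  have hN3 : Nat.card N = 3 := by
    have h4 : Nat.card N ≤ 12 := Nat.le_of_dvd (by norm_num) h1
    have h0 : Nat.card N ≠ 0 := Nat.card_pos.ne'
    obtain ⟨k, hk⟩ := hodd
    obtain ⟨m, hm⟩ := h1
    have hk6 : k < 6 := by omega
    interval_cases k
    · omega
    · omega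
    · rw [hk] at hm; omega
    · rw [hk] at hm; omega
    · rw [hk] at hm; omega
    · rw [hk] at hm; omega
  have hQ : Nat.card (L ⧸ N) = 4 := by
    have h4 := card_eq_card_quotient_mul_card_subgroup N
    rw [hcard, hN3] at h4
    omega
  have hmem : ∀ x : L, x ^ 3 = 1 → x ∈ N := by
    intro x hx
    rw [← QuotientGroup.eq_one_iff]
    have h4 : (QuotientGroup.mk x : L ⧸ N) ^ 3 = 1 := by
      rw [← QuotientGroup.mk_pow, hx]; rfl
    have h5 : (QuotientGroup.mk x : L ⧸ N) ^ 4 = 1 := by rw [← hQ]; exact pow_card_eq_one'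
    have h6 : (QuotientGroup.mk x : L ⧸ N) = (QuotientGroup.mk x) ^ 4 *
      ((QuotientGroup.mk x) ^ 3)⁻¹ := by group
    rw [h6, h4, h5, inv_one, mul_one]
  have hcyc : IsCyclic N := by
    have : Fact (Nat.Prime 3) := ⟨Nat.prime_three⟩
    exact isCyclic_of_prime_card (p := 3) hN3
  have hcomm := hcyc.isMulCommutative
  have hu : R.π (up 1) ∈ N := by
    apply hmem
    rw [← map_pow, pow_succ, pow_two, up_mul, up_mul, show (1 : F) + 1 + 1 = 3 by norm_num, hthree,
      up_zero, map_one]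
  have hl : R.π (lo 1) ∈ N := by
    apply hmem
    rw [← map_pow, pow_succ, pow_two, lo_mul, lo_mul, show (1 : F) + 1 + 1 = 3 by norm_num, hthree,
      lo_zero, map_one]
  have hc : R.π (up 1) * R.π (lo 1) = R.π (lo 1) * R.π (up 1) :=
    congrArg Subtype.val (hcomm.is_comm.comm (⟨_, hu⟩ : N) ⟨_, hl⟩)
  rw [← map_mul, ← map_mul, R.π_eq_iff] at hc
  rcases hc with h | h
  · have h4 := congrArg (fun y => ent y 0 0) h
    simp only [ent_mul, up_00, up_01, lo_00, lo_01, lo_10, up_10] at h4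
    apply one_ne_zero (α := F)
    linear_combination h4
  · have h4 := congrArg (fun y => ent y 0 1) h
    have h5 : ent (-(lo (1 : F) * up 1)) 0 1 = -ent (lo 1 * up 1) 0 1 := rfl
    simp only [h5, ent_mul, up_00, up_01, lo_00, lo_01, lo_11, up_11] at h4
    apply R.two
    linear_combination h4

include R in
/-- no normal subgroup of odd order -/
theorem odd_normal_eq_bot {N : Subgroup L} (hN : N.Normal) (hodd : Odd (Nat.card N)) : N = ⊥ := by
  have := R.finite
  by_cases h3 : 3 < Nat.card F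
  · have hs := Cfsg.Agent.OddHalf.D6.SubFix.isSimple R h3
    rcases hs.eq_bot_or_eq_top_of_normal N hN with h | h
    · exact h
    · exfalso
      rw [h, card_top] at hodd
      exact (Nat.not_even_iff_odd.mpr hodd) (even_card R)
  · refine normal_eq_bot_three R ?_ hN hodd
    have h1 := odd_card R.two
    have h2 : 1 < Nat.card F := Finite.one_lt_card
    obtain ⟨k, hk⟩ := h1
    omega

/-- **local 1-balance for a field involution** -/
theorem field_bal {φ β : MulAut L} (hφ : φ * φ = 1) (hf : R.fld φ ≠ 1) {N : Subgroup L}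
    (hN : Odd (Nat.card N)) (hNφ : ∀ n ∈ N, φ n = n)
    (hNn : ∀ y, φ y = y → ∀ n ∈ N, y * n * y⁻¹ ∈ N) (hβ : Odd (orderOf β))
    (hb : ∀ y, φ y = y → β y * y⁻¹ ∈ N) : β = 1 := by
  have := R.finite
  obtain ⟨σ, hσ⟩ : ∃ σ, σ = R.fld φ := ⟨_, rfl⟩
  rw [← hσ] at hf
  have hσ2 : σ * σ = 1 := by rw [hσ, ← map_mul, hφ, map_one]
  have hord : orderOf σ = 2 := by
    rw [orderOf_eq_prime_iff]
    exact ⟨by rw [sq]; exact hσ2, hf⟩
  obtain ⟨R', -, -, hR'⟩ := R.exists_rep φ (by rw [← hσ, hord, sq, hφ])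
  rw [← hσ] at hR'
  obtain ⟨K, hK, hcard⟩ := exists_fixed_field σ
  have heven : Even (orderOf σ) := by rw [hord]; decide
  obtain ⟨w, hw, hwn, hwx⟩ := R'.exists_outer heven hK hcard
  have hfix : ∀ m ∈ R'.sub K, φ m = m := by
    intro m hm
    rw [hR']
    exact R'.sub_le_fix hK hm
  -- `sub K` is normal in the fixed points
  have hnorm : ∀ c, φ c = c → ∀ m ∈ R'.sub K, c * m * c⁻¹ ∈ R'.sub K := by
    intro c hc m hm
    have hcf : c ∈ fixSub (R'.fa σ) := by rw [mem_fixSub, ← hR']; exact hc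
    have hmf : m ∈ fixSub (R'.fa σ) := by rw [mem_fixSub, ← hR']; exact hfix m hm
    by_cases h1 : c ∈ R'.sub K
    · exact mul_mem (mul_mem h1 hm) (inv_mem h1)
    · by_contra h10
      have h2 := hwx c hcf h1
      have h11 := hwx _ (mul_mem (mul_mem hcf hmf) (inv_mem hcf)) h10
      have h13 : (w * c * m)⁻¹ * (w * (c * m * c⁻¹)) = c⁻¹ := by group
      have h12 : c⁻¹ ∈ R'.sub K := by
        rw [← h13]
        exact mul_mem (inv_mem (mul_mem h2 hm)) h11
      exact h1 (inv_mem_iff.1 h12)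
  -- `N ∩ sub K = 1`
  have hNK : N ⊓ R'.sub K = ⊥ := by
    have h1 : ((N ⊓ R'.sub K).subgroupOf (R'.sub K)).Normal := by
      constructor
      rintro ⟨n, hn⟩ hn' ⟨g, hg⟩
      rw [mem_subgroupOf] at hn' ⊢
      exact ⟨hNn g (hfix g hg) n hn'.1,
        (R'.sub K).mul_mem ((R'.sub K).mul_mem hg hn) ((R'.sub K).inv_mem hg)⟩
    have h2 : Odd (Nat.card ((N ⊓ R'.sub K).subgroupOf (R'.sub K))) := by
      rw [Nat.card_congr (subgroupOfEquivOfLe (inf_le_right : N ⊓ R'.sub K ≤ _)).toEquiv]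
      exact Odd.of_dvd_nat hN (card_dvd_of_le inf_le_left)
    have h3 := odd_normal_eq_bot (R'.subRep K) h1 h2
    rw [subgroupOf_eq_bot, disjoint_iff, inf_assoc, inf_idem] at h3
    exact h3
  have hcen : ∀ n ∈ N, ∀ m ∈ R'.sub K, n * m = m * n := by
    intro n hn m hm
    have h1 : n * m * n⁻¹ * m⁻¹ ∈ N ⊓ R'.sub K := by
      refine ⟨?_, (R'.sub K).mul_mem (hnorm n (hNφ n hn) m hm) ((R'.sub K).inv_mem hm)⟩
      have h2 := hNn m (hfix m hm) _ (inv_mem hn)
      have h3 : n * m * n⁻¹ * m⁻¹ = n * (m * n⁻¹ * m⁻¹) := by group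
      rw [h3]
      exact mul_mem hn h2
    rw [hNK, mem_bot, mul_inv_eq_one, mul_inv_eq_iff_eq_mul] at h1
    exact h1
  have hNbot : ∀ n ∈ N, n = 1 := by
    intro n hn
    have h1 : MulAut.conj n = 1 := by
      refine Cfsg.Agent.OddHalf.D6.SubFix.eq_one_of_sub R' hσ2 hf hK ?_ ?_
      · rw [orderOf_injective (MulAut.conj : L →* MulAut L) R.conj_injective]
        refine Odd.of_dvd_nat hN ?_
        rw [← Subgroup.orderOf_mk n hn]
        exact orderOf_dvd_natCard _
      · intro m hm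
        rw [MulAut.conj_apply, hcen n hn m hm, mul_inv_cancel_right]
    exact R.conj_injective (by rw [h1, map_one])
  refine Cfsg.Agent.OddHalf.D6.SubFix.eq_one_of_sub R' hσ2 hf hK hβ fun y hy => ?_
  exact mul_inv_eq_one.mp (hNbot _ (hb y (hfix y hy)))

end Cfsg.Agent.UGT.L2Inner.WBAut
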