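import Cfsg.Agent.UGT.L2Inner.WBFaith
import Cfsg.Agent.UGT.A7.World

/-!
# UGT, inner L2 with `A₇`-triples present: (5) of bb #12930

* `BadFive.lab_eq`: labels of a triple and of its pump-up agree.
* `BadFive.pump`: the pump-ups along `s t` are not diagonal.
* `false_of_s`: there is no involution `s` commuting with `Y`, `V` which acts as the transposition.
-/

set_option autoImplicit false
set_option linter.unusedSectionVars false

open Cfsg Subgroup Equiv Equiv.Perm
open Cfsg.Agent.UAlt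
open Cfsg.Agent.SignalizersComponents Cfsg.Agent.Lib
open Cfsg.Agent.SignalizersComponents.IntrinsicBasic
open Cfsg.Agent.SignalizersComponents.PLayerAut
open Cfsg.Agent.Intrinsic.Basic Cfsg.Agent.Intrinsic.Cen Cfsg.Agent.Intrinsic.Diag
open Cfsg.Agent.McLLyComp.Act
open Cfsg.Agent.UGT.Triple Cfsg.Agent.UGT.TriBase
open scoped commutatorElement

namespace Cfsg.Agent.UGT.L2Inner

universe u

variable {G : Type u} [Group G] [Finite G]

namespace BadFive

theorem isV_key {β : P7} (h : IsV β) (h1 : β ≠ 1) : β ∈ alt (fixIn (Finset.univ : Finset (Fin 7)) ta) ∧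
    β 0 ≠ 0 ∧ (β * ta) 0 ≠ 0 ∧ β * ta ≠ 1 := by
  rcases h with rfl | rfl | rfl | rfl
  · exact absurd rfl h1
  · exact ⟨⟨Equiv.Perm.mem_alternatingGroup.mpr (by decide),
      show ∀ x, x ∉ (fixIn (Finset.univ : Finset (Fin 7)) ta) → b1 x = x from by decide⟩, by decide⟩
  · exact ⟨⟨Equiv.Perm.mem_alternatingGroup.mpr (by decide),
      show ∀ x, x ∉ (fixIn (Finset.univ : Finset (Fin 7)) ta) → b2 x = x from by decide⟩, by decide⟩
  · exact ⟨⟨Equiv.Perm.mem_alternatingGroup.mpr (by decide),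
      show ∀ x, x ∉ (fixIn (Finset.univ : Finset (Fin 7)) ta) → b3 x = x from by decide⟩, by decide⟩

theorem b1_mem_alt : b1 ∈ alt (fixIn (Finset.univ : Finset (Fin 7)) ta) :=
  ⟨Equiv.Perm.mem_alternatingGroup.mpr (by decide),
    show ∀ x, x ∉ (fixIn (Finset.univ : Finset (Fin 7)) ta) → b1 x = x from by decide⟩

/-- the labels of `K` and of its pump-up `N` agree on `N(K) ∩ N(N) ∩ C(b)` -/
theorem lab_eq {a b : G} {K N : Subgroup G} (L : Lab K) (M : Lab N)
    (hK : IsComp (centralizer ({a} : Set G)) K) (hN : IsComp (centralizer ({b} : Set G)) N)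
    (haa : a * a = 1) (hbb : b * b = 1) (hba : b * a = a * b) (hbK : Fixes b K)
    (hlab : ∀ y ∈ cen K b, M.φ y = L.φ y) {h : G} (hhK : h ∈ normalizer (K : Set G))
    (hhN : h ∈ normalizer (N : Set G)) (hhb : h * b = b * h) : M.φ h = L.φ h := by
  obtain ⟨h1, h3⟩ := isComp_cen hK (mem_c hba) hbb hbK
  have h1' := h1
  rw [inf_comm] at h1'
  have hJK : cen K b ≤ K := cen_le _ _
  have hJN : cen K b ≤ normalizer (N : Set G) :=
    (isComp_le_L2 (mem_c hba.symm) haa h1').trans hN.L2_le_normalizer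
  have hhJ : h ∈ normalizer (cen K b : Set G) := mem_normalizer_cen hhK hhb
  have h6 : (L.φ h)⁻¹ * M.φ h = 1 := by
    have key : ∀ γ : P7, (∀ σ ∈ alt (Finset.univ : Finset (Fin 7)), γ * σ = σ * γ) → γ = 1 := by
      intro γ hγ
      ext a
      rw [apply_of_comm_alt (S := (Finset.univ : Finset (Fin 7))) (by decide) hγ (Finset.mem_univ a)]
      rfl
    apply key
    intro σ hσ
    obtain ⟨k, hk, rfl⟩ := L.lift σ hσ
    obtain ⟨j, hj, hjk⟩ := exists_mul_of_sup h3 hk
    have h7 : L.φ k = L.φ j := ((L.eq_iff (hJK hj) hk).mpr hjk).symm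
    have hj' : h * j * h⁻¹ ∈ cen K b := conj_mem hhJ hj
    have h8 := hlab _ hj'
    rw [M.conj hhN (hJN hj), L.conj hhK (le_normalizer (hJK hj)), hlab j hj] at h8
    rw [h7]
    calc (L.φ h)⁻¹ * M.φ h * L.φ j = (L.φ h)⁻¹ * (M.φ h * L.φ j * (M.φ h)⁻¹) * M.φ h := by group
      _ = L.φ j * ((L.φ h)⁻¹ * M.φ h) := by rw [h8]; group
  exact (inv_mul_eq_one.mp h6).symm

/-- an involution of `C(t)` acting on `K` as `ta`: `a` -/
theorem pump (hP : A7.Pump7 G) {x a t s t' : G} {K : Subgroup G} (L : Lab K) (T : IsTriple x a K)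
    (ha : a = t' ∨ a = t * t') (htt : t * t = 1) (ht' : t' * t' = 1) (hss : s * s = 1)
    (hst : s * t = t * s) (hst' : s * t' = t' * s) (htt' : t * t' = t' * t)
    (hsx : s * x = x * s) (htx : t * x = x * t) (hne : s ≠ t)
    (hsK : s ∈ normalizer (K : Set G)) (htK : t ∈ normalizer (K : Set G)) (hs : L.φ s = ta)
    (ht : L.φ t = ta)
    (star : ∀ I, IsComp (centralizer ({t} : Set G) ⊓ centralizer ({s} : Set G)) I → Fixes t' I) :
    ∃ (N : Subgroup G) (M : Lab N), IsComp (centralizer ({s * t} : Set G)) N ∧ Fixes a N ∧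
      cen K (s * t) ≤ N ∧ Fixes (s * t) K ∧ ∀ y ∈ cen K (s * t), M.φ y = L.φ y := by
  obtain ⟨b, hb⟩ : ∃ b, b = s * t := ⟨_, rfl⟩
  rw [← hb]
  have hbb : b * b = 1 := by
    rw [hb]
    calc s * t * (s * t) = s * (t * s) * t := by group
      _ = (s * s) * (t * t) := by rw [← hst]; group
      _ = 1 := by rw [hss, htt, one_mul]
  have hb1 : b ≠ 1 := by
    intro h
    apply hne
    rw [hb] at h
    rw [eq_inv_of_mul_eq_one_left h, inv_eq_of_mul_eq_one_left htt]
  have haa := sq_of_order T.inva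
  have has : a * s = s * a := by
    rcases ha with rfl | rfl
    · exact hst'.symm
    · rw [mul_assoc, ← hst', ← mul_assoc, ← hst, mul_assoc]
  have hat : a * t = t * a := by
    rcases ha with rfl | rfl
    · exact htt'.symm
    · rw [mul_assoc, ← htt']
  have hba : b * a = a * b := by
    rw [hb, mul_assoc, ← hat, ← mul_assoc, ← has, mul_assoc]
  have hbx : b * x = x * b := by
    rw [hb, mul_assoc, htx, ← mul_assoc, hsx, mul_assoc]
  have hsb : s * b = b * s := by
    rw [hb, mul_assoc, ← hst]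
  have hbK : Fixes b K := (L.fixes_iff (hb ▸ mul_mem hsK htK)).mp (by
    rw [hb, L.mul _ _ hsK htK, hs, ht]; exact ta_sq7)
  obtain ⟨N, M, T1, hlab, hor⟩ := hP x a b K L T (order_two hbb hb1) hba hbx hbK
  rcases hor with ⟨h1, h2⟩ | ⟨hne', hdg⟩
  · exact ⟨N, M, T1.comp, h1, h2, hbK, hlab⟩
  exfalso
  have haK : a ∈ normalizer (K : Set G) := (fixes_self' T.comp.le).1
  have hφa : L.φ a = 1 := (L.fixes_iff haK).mpr (fixes_self' T.comp.le)
  have haC : a ∈ centralizer ({b} : Set G) := mem_c hba.symm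
  have hsC : s ∈ centralizer ({b} : Set G) := mem_c hsb
  have htx' : (centralizer ({b} : Set G) ⊓ centralizer ({s} : Set G)) =
      centralizer ({t} : Set G) ⊓ centralizer ({s} : Set G) := by
    have e1 : t = s * b := by rw [hb, ← mul_assoc, hss, one_mul]
    ext z
    constructor
    · rintro ⟨z1, z2⟩
      refine ⟨mem_c ?_, z2⟩
      have z1' := comm_c z1
      have z2' := comm_c z2
      rw [e1, ← mul_assoc, z2', mul_assoc, z1', mul_assoc]
    · rintro ⟨z1, z2⟩
      refine ⟨mem_c ?_, z2⟩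
      have z1' := comm_c z1
      have z2' := comm_c z2
      rw [hb, ← mul_assoc, z2', mul_assoc, z1', mul_assoc]
  have star' : ∀ I, IsComp (centralizer ({b} : Set G) ⊓ centralizer ({s} : Set G)) I → Fixes a I := by
    intro I hI
    rw [htx'] at hI
    have e1 := star I hI
    rcases ha with rfl | rfl
    · exact e1
    · exact fixes_mul (fixes_self' (hI.le.trans inf_le_left)) e1
  have hNs : IsComp (centralizer ({b} : Set G)) (cj s N) := isComp_cj_of_mem T1.comp hsC
  have hcase : cj s N = N ∨ cj s N = cj a N := by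
    by_contra hcon
    push Not at hcon
    have hmv : cj a (cj s N) ≠ cj s N := by
      intro h
      apply hne'
      rw [← cj_mul, has, cj_mul] at h
      have h' := congrArg (cj s⁻¹) h
      rwa [cj_inv_cj, cj_inv_cj] at h'
    have h5 := diag_ne T1.comp haC haa hne' hNs hmv hcon.1 hcon.2
    apply h5
    have h6 := cj_diag s (centralizer ({b} : Set G)) N a
    rw [cj_eq_self_of_mem hsC, ← has, mul_inv_cancel_right] at h6
    rw [← h6, ← hdg]
    exact mem_normalizer_iff_cj.mp (mem_normalizer_cen hsK hsb)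
  rcases hcase with hs1 | hs1
  · have hsN : s ∈ normalizer (N : Set G) := mem_normalizer_iff_cj.mpr hs1
    have hMs : M.φ s = ta := by
      rw [lab_eq L M T.comp T1.comp haa hbb hba hbK hlab hsK hsN hsb, hs]
    have h5 : 5 ≤ (fixIn (Finset.univ : Finset (Fin 7)) (M.φ s)).card := by rw [hMs, fixIn_ta]
    have hI1 := M.isComp_cmp_of T1.comp hsN hss h5
    have hf := star' _ hI1
    obtain ⟨k, hk, hkφ⟩ := M.cmp_lift hsN hss h5 (σ := b1) (by rw [hMs]; exact b1_mem_alt)
    have hk' : a⁻¹ * k * a ∈ M.cmp s := by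
      have := conj_mem (inv_mem hf.1) hk
      rwa [inv_inv] at this
    have h7 : k ∈ cj a N := mem_cj.mpr (M.cmp_le s hk')
    have h8 : Fixes k N := T1.comp.fixes_of_mem (isComp_cj_of_mem T1.comp haC) (Ne.symm hne') h7
    have h9 := (M.fixes_iff (le_normalizer (M.cmp_le s hk))).mpr h8
    rw [hkφ] at h9
    exact absurd h9 (by decide)
  · have hnes : cj s N ≠ N := by rw [hs1]; exact hne'
    obtain ⟨hJ, -, -, hcore, -⟩ := exists_diag T1.comp hsC hss hnes
    have hf := star' _ hJ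
    have hz : s * a ∈ normalizer (N : Set G) := mem_normalizer_iff_cj.mpr (by
      rw [cj_mul, ← hs1, ← cj_mul, hss, cj_one])
    have hz' : s * a ∈ normalizer (cj s N : Set G) := mem_normalizer_iff_cj.mpr (by
      rw [← cj_mul, ← has, mul_assoc, hss, mul_one, hs1])
    have h10 : Fixes (s * a) N := by
      refine fixes_of_comm_diag T1.comp hsC hss hnes (mul_mem hsC haC) hz hz' fun m hm => ?_
      have h7 := hf.2 m hm
      rw [hcore] at h7
      have hms : m * s = s * m := comm_c (hJ.le hm).2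
      have e1 : ⁅s * a, m⁆ = s * ⁅a, m⁆ * s⁻¹ := by
        rw [commutatorElement_def, commutatorElement_def]
        have e2 : s⁻¹ * m⁻¹ = m⁻¹ * s⁻¹ := by rw [← mul_inv_rev, hms, mul_inv_rev]
        calc s * a * m * (s * a)⁻¹ * m⁻¹ = s * a * m * a⁻¹ * (s⁻¹ * m⁻¹) := by group
          _ = s * (a * m * a⁻¹ * m⁻¹) * s⁻¹ := by rw [e2]; group
      rw [e1]
      exact conj_mem_core (le_normalizer hsC) h7.2
    have h11 := (M.fixes_iff hz).mpr h10
    rw [lab_eq L M T.comp T1.comp haa hbb hba hbK hlab (mul_mem hsK haK) hz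
      (by rw [mul_assoc, ← hba, ← mul_assoc, hsb, mul_assoc]), L.mul _ _ hsK haK, hs, hφa,
      mul_one] at h11
    exact absurd h11 (by decide)

/-- the final step: `I` is contained in the two conjugates of `K` -/
theorem false_of_le (hP : A7.Pump7 G) {x x' t t' s v : G} {K K' : Subgroup G} (L : Lab K) (L' : Lab K')
    (T : IsTriple x t' K) (T' : IsTriple x' (t * t') K') (htt : t * t = 1) (ht' : t' * t' = 1)
    (hss : s * s = 1) (hst : s * t = t * s) (hst' : s * t' = t' * s) (htt' : t * t' = t' * t)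
    (hsx : s * x = x * s) (htx : t * x = x * t) (hsx' : s * x' = x' * s) (htx' : t * x' = x' * t)
    (hne : s ≠ t) (hsK : s ∈ normalizer (K : Set G)) (htK : t ∈ normalizer (K : Set G))
    (hs : L.φ s = ta) (ht : L.φ t = ta) (hsK' : s ∈ normalizer (K' : Set G))
    (htK' : t ∈ normalizer (K' : Set G)) (hs' : L'.φ s = ta) (ht1' : L'.φ t = ta)
    (star : ∀ J, IsComp (centralizer ({t} : Set G) ⊓ centralizer ({s} : Set G)) J → Fixes t' J)
    (hv : v ∈ K) (hv' : v ∈ K') (hvv : v * v = 1) (hvs : v * s = s * v) (hvt : v * t = t * v)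
    (hvK' : L'.φ v ≠ 1) : False := by
  obtain ⟨N, M, c1, f1, l1, k1, b1⟩ := pump hP L T (Or.inl rfl) htt ht' hss hst hst' htt' hsx htx hne
    hsK htK hs ht star
  obtain ⟨N', M', c2, f2, l2, k2, b2⟩ := pump hP L' T' (Or.inr rfl) htt ht' hss hst hst' htt' hsx' htx' hne
    hsK' htK' hs' ht1' star
  have hvb : v * (s * t) = s * t * v := by
    rw [← mul_assoc, hvs, mul_assoc, hvt, mul_assoc]
  have hvc : v ∈ cen K (s * t) := mem_cen_of_sq hv hvb hvv
  have hvc' : v ∈ cen K' (s * t) := mem_cen_of_sq hv' hvb hvv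
  have hNN : N = N' := by
    by_contra hcon
    have e1 : Fixes v N' := c2.fixes_of_mem c1 (Ne.symm hcon) (l1 hvc)
    have e2 := (M'.fixes_iff (le_normalizer (l2 hvc'))).mpr e1
    rw [b2 v hvc'] at e2
    exact hvK' e2
  subst hNN
  have f3 : Fixes t N := by
    have := fixes_mul f2 f1
    rwa [mul_assoc, ht', mul_one] at this
  have f4 : Fixes s N := by
    have e1 : Fixes (s * t) N := fixes_self' c1.le
    have := fixes_mul e1 f3
    rwa [mul_assoc, htt, mul_one] at this
  have hbb : s * t * (s * t) = 1 := by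
    calc s * t * (s * t) = s * (t * s) * t := by group
      _ = (s * s) * (t * t) := by rw [← hst]; group
      _ = 1 := by rw [hss, htt, one_mul]
  have e1 := lab_eq L M T.comp c1 ht' hbb (by rw [mul_assoc, htt', ← mul_assoc, hst', mul_assoc]) k1 b1 hsK
    f4.1 (by rw [mul_assoc, ← hst])
  rw [hs, (M.fixes_iff f4.1).mpr f4] at e1
  exact absurd e1 (by decide)

end BadFive

/-- **(5)** `s` acts on `K` as the transposition `ta`. -/
theorem false_of_s (hP : A7.Pump7 G) {x t t' s g v y : G} {K : Subgroup G} (L : Lab K)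
    (T : IsTriple x t K) (ht' : t' * t' = 1) (hss : s * s = 1) (htt' : t * t' = t' * t)
    (hst : s * t = t * s) (hst' : s * t' = t' * s) (hyy : y * y = 1) (hyt : y * t = t * y)
    (hyt' : y * t' = t' * y) (hys : y * s = s * y) (hgy : g * y = y * g) (hgs : g * s = s * g)
    (hg1 : g * t * g⁻¹ = t') (hg2 : g * t' * g⁻¹ = t * t') (ht'K : t' ∈ normalizer (K : Set G))
    (hsK : s ∈ normalizer (K : Set G)) (hφt' : L.φ t' = ta) (hφs : L.φ s = ta)
    (star : ∀ I, IsComp (centralizer ({t} : Set G) ⊓ centralizer ({s} : Set G)) I → Fixes t' I)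
    (hsx : s * x = x * s) (ht'x : t' * x = x * t') (hv : v ∈ K) (hφv : IsV (L.φ v)) (hv1 : L.φ v ≠ 1)
    (hvy : v = y ∨ v = y * t) : False := by
  have htt := sq_of_order T.inva
  have htx : t * x = x * t := T.comm
  have hti : t⁻¹ = t := inv_eq_of_mul_eq_one_left htt
  have hti' : t'⁻¹ = t' := inv_eq_of_mul_eq_one_left ht'
  have htK : t ∈ normalizer (K : Set G) := (fixes_self' T.comp.le).1
  have hφt : L.φ t = 1 := (L.fixes_iff htK).mpr (fixes_self' T.comp.le)
  have hne : s ≠ t := by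
    rintro rfl
    rw [hφs] at hφt
    exact absurd hφt (by decide)
  -- conjugation by `g⁻¹`
  have hg3 : g⁻¹ * t' * g = t := by rw [← hg1]; group
  have hg4 : g⁻¹ * (t * t') * g = t' := by rw [← hg2]; group
  have hg5 : g⁻¹ * t * g = t * t' := by
    have e1 : g⁻¹ * t * g = (g⁻¹ * (t * t') * g) * (g⁻¹ * t' * g)⁻¹ := by group
    rw [e1, hg4, hg3, hti, htt']
  have hg6 : g⁻¹ * s * g = s := by rw [mul_assoc, ← hgs, inv_mul_cancel_left]
  -- the involution `v`
  have hvv : v * v = 1 := by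
    rcases hvy with rfl | rfl
    · exact hyy
    · calc y * t * (y * t) = y * (t * y) * t := by group
        _ = (y * y) * (t * t) := by rw [← hyt]; group
        _ = 1 := by rw [hyy, htt, one_mul]
  have hvt : v * t = t * v := by
    rcases hvy with rfl | rfl
    · exact hyt
    · rw [← mul_assoc, ← hyt]
  have hvs : v * s = s * v := by
    rcases hvy with rfl | rfl
    · exact hys
    · rw [mul_assoc, ← hst, ← mul_assoc, hys, mul_assoc]
  have hvt' : v * t' = t' * v := by
    rcases hvy with rfl | rfl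
    · exact hyt'
    · rw [mul_assoc, htt', ← mul_assoc, hyt', mul_assoc]
  have hyv : y = v ∨ y = v * t := by
    rcases hvy with rfl | rfl
    · exact Or.inl rfl
    · right; rw [mul_assoc, htt, mul_one]
  have hvK : v ∈ normalizer (K : Set G) := le_normalizer hv
  have hyK : y ∈ normalizer (K : Set G) := by
    rcases hyv with h | h
    · rw [h]; exact hvK
    · rw [h]; exact mul_mem hvK htK
  have hφy : L.φ y = L.φ v := by
    rcases hyv with h | h
    · rw [h]
    · rw [h, L.mul _ _ hvK htK, hφt, mul_one]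
  have hφyt : L.φ (y * t') = L.φ v * ta := by rw [L.mul _ _ hyK ht'K, hφy, hφt']
  obtain ⟨key1, key2, key3, key4⟩ := BadFive.isV_key hφv hv1
  have hgy' : g * y * g⁻¹ = y := by rw [hgy, mul_inv_cancel_right]
  have hgy'' : g⁻¹ * y * g = y := by rw [mul_assoc, ← hgy, inv_mul_cancel_left]
  have hgs' : g * s * g⁻¹ = s := by rw [hgs, mul_inv_cancel_right]
  -- the 2-component `I`
  have h5 : 5 ≤ (fixIn (Finset.univ : Finset (Fin 7)) (L.φ s)).card := by rw [hφs, fixIn_ta]
  have hIs := L.isComp_cmp_of T.comp hsK hss h5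
  obtain ⟨hI, hIsup⟩ := isComp_cen hIs ⟨mem_c htt'.symm, mem_c hst'.symm⟩ ht' (star _ hIs)
  obtain ⟨I, hIe⟩ : ∃ I, I = cen (L.cmp s) t' := ⟨_, rfl⟩
  rw [← hIe] at hI hIsup
  obtain ⟨X, hX⟩ : ∃ X, X = centralizer ({t} : Set G) ⊓ centralizer ({s} : Set G) ⊓
      centralizer ({t'} : Set G) := ⟨_, rfl⟩
  rw [← hX] at hI
  have hXg : cj g X = X := by
    rw [hX, cj_inf, cj_inf, cj_centralizer, cj_centralizer, cj_centralizer, hg1, hgs', hg2]
    ext z
    constructor
    · rintro ⟨⟨z1, z2⟩, z3⟩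
      refine ⟨⟨mem_c ?_, z2⟩, z1⟩
      have z1' := comm_c z1
      have z3' := comm_c z3
      have e1 : t = t * t' * t' := by rw [mul_assoc, ht', mul_one]
      rw [e1, ← mul_assoc, z3', mul_assoc, z1', ← mul_assoc]
    · rintro ⟨⟨z1, z2⟩, z3⟩
      refine ⟨⟨z3, z2⟩, mem_c ?_⟩
      rw [← mul_assoc, comm_c z1, mul_assoc, comm_c z3, mul_assoc]
  have hvI : v ∈ I := by
    rw [hIe]
    refine mem_cen_of_sq (L.mem_cmp hv hvs.symm ?_ (n := 1) (by rw [pow_one, pow_two, hvv])) hvt' hvv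
    rw [hφs]
    exact key1
  have hncmp : ∀ z, z ∈ normalizer (K : Set G) → z * s = s * z → z ∈ normalizer (L.cmp s : Set G) := by
    intro z hz hzs
    have e1 := (L.isComp_iff_cmp hsK hss).mpr ⟨rfl, h5⟩
    have e2 := e1.cj z
    rw [cj_inf, mem_normalizer_iff_cj.mp hz, cj_centralizer, hzs, mul_inv_cancel_right] at e2
    exact mem_normalizer_iff_cj.mpr ((L.isComp_iff_cmp hsK hss).mp e2).1
  have hIg : cj g I = I := by
    by_contra hcon
    have e1 : IsComp X (cj g I) := by
      have := hI.cj g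
      rwa [hXg] at this
    have e2 : g * v * g⁻¹ ∈ cj g I := conj_mem_cj hvI
    have e3 : Fixes (g * v * g⁻¹) I := hI.fixes_of_mem e1 (Ne.symm hcon) e2
    have e4 : g * v * g⁻¹ = y ∨ g * v * g⁻¹ = y * t' := by
      rcases hvy with h | h
      · left; rw [h, hgy']
      · right
        rw [h]
        calc g * (y * t) * g⁻¹ = (g * y * g⁻¹) * (g * t * g⁻¹) := by group
          _ = y * t' := by rw [hgy', hg1]
    have e5 : g * v * g⁻¹ ∈ normalizer (K : Set G) := by
      rcases e4 with h | h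
      · rw [h]; exact hyK
      · rw [h]; exact mul_mem hyK ht'K
    have e6 : L.φ (g * v * g⁻¹) 0 ≠ 0 := by
      rcases e4 with h | h
      · rw [h, hφy]; exact key2
      · rw [h, hφyt]; exact key3
    have e8 : g * v * g⁻¹ * s = s * (g * v * g⁻¹) := by
      rcases e4 with h | h
      · rw [h]; exact hys
      · rw [h, mul_assoc, ← hst', ← mul_assoc, hys, mul_assoc]
    have e7 : Fixes (g * v * g⁻¹) (L.cmp s) := (fixes_iff_of_sup hIsup e3.1 (hncmp _ e5 e8)).mp e3
    exact e6 (fix_of_fixes_cmp L hsK hss h5 e5 e7 (by rw [hφs]; decide))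
  have hIK : I ≤ K := by
    rw [hIe]
    exact (cen_le _ _).trans (L.cmp_le s)
  -- the two conjugates of `K`
  have hnorm : ∀ (J : Subgroup G) (z : G), g⁻¹ * z * g ∈ normalizer (J : Set G) →
      z ∈ normalizer (cj g J : Set G) := by
    intro J z hz
    rw [mem_normalizer_iff_cj] at hz ⊢
    rw [← cj_mul, show z * g = g * (g⁻¹ * z * g) by group, cj_mul, hz]
  have hcomm : ∀ z w : G, (g⁻¹ * z * g) * w = w * (g⁻¹ * z * g) → z * (g * w * g⁻¹) = g * w * g⁻¹ * z := by
    intro z w hzw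
    calc z * (g * w * g⁻¹) = g * ((g⁻¹ * z * g) * w) * g⁻¹ := by group
      _ = g * w * g⁻¹ * z := by rw [hzw]; group
  have T1 := T.cj g
  have T2 := T1.cj g
  rw [hg1] at T1
  rw [hg1, hg2] at T2
  have c1 : t * t' * x = x * (t * t') := by rw [mul_assoc, ht'x, ← mul_assoc, htx, mul_assoc]
  refine BadFive.false_of_le hP (v := v) (L.cj g) ((L.cj g).cj g) T1 T2 htt ht' hss hst hst' htt'
    (hcomm _ _ (by rw [hg6]; exact hsx)) (hcomm _ _ (by rw [hg5]; exact c1))
    (hcomm _ _ (by rw [hg6]; exact hcomm _ _ (by rw [hg6]; exact hsx)))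
    (hcomm _ _ (by rw [hg5]; exact hcomm _ _ (by rw [hg4]; exact ht'x))) hne
    (hnorm _ _ (by rw [hg6]; exact hsK)) (hnorm _ _ (by rw [hg5]; exact mul_mem htK ht'K))
    (by rw [L.cj_φ, hg6, hφs]) (by rw [L.cj_φ, hg5, L.mul _ _ htK ht'K, hφt, hφt', one_mul])
    (hnorm _ _ (by rw [hg6]; exact hnorm _ _ (by rw [hg6]; exact hsK)))
    (hnorm _ _ (by rw [hg5]; exact hnorm _ _ (by rw [hg4]; exact ht'K)))
    (by rw [Mod.cj_φ, Mod.cj_φ, hg6, hg6, hφs]) (by rw [Mod.cj_φ, Mod.cj_φ, hg5, hg4, hφt'])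
    star ?_ ?_ hvv hvs hvt ?_
  · have e1 : v ∈ cj g I := by rw [hIg]; exact hvI
    exact cj_mono hIK e1
  · have e1 : v ∈ cj g (cj g I) := by rw [hIg, hIg]; exact hvI
    exact cj_mono (cj_mono hIK) e1
  · rw [Mod.cj_φ, Mod.cj_φ]
    have e1 : g⁻¹ * (g⁻¹ * v * g) * g = y ∨ g⁻¹ * (g⁻¹ * v * g) * g = y * t' := by
      rcases hvy with h | h
      · left; rw [h, hgy'', hgy'']
      · right
        rw [h]
        calc g⁻¹ * (g⁻¹ * (y * t) * g) * g =
            g⁻¹ * (g⁻¹ * y * g) * g * (g⁻¹ * (g⁻¹ * t * g) * g) := by group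
          _ = y * t' := by rw [hgy'', hgy'', hg5, hg4]
    rcases e1 with h | h
    · rw [h, hφy]; exact hv1
    · rw [h, hφyt]; exact key4

end Cfsg.Agent.UGT.L2Inner
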