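import Cfsg.Agent.UGT.L2Inner.WBStar

/-!
# UGT, inner L2: involutions of field type

* `exists_comp_field`: `K` a 2-component of `X`, `v ∈ X` an involution of field type on `K / O(K) ≅ PSL(2,F)`,
  `|F| > 9`: a 2-component `I ≤ K` of `X ∩ C(v)`; an element of odd order fixing `I` fixes `K`.
* `nine`: in `Aut PSL(2,9)` an involution of `PGL(2,9)` and a field involution have no common centralizing
  element `≠ 1` of odd order in `PGL(2,9)`.
-/

set_option autoImplicit false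

open Cfsg Subgroup
open Cfsg.Agent.SignalizersComponents Cfsg.Agent.Lib
open Cfsg.Agent.SignalizersComponents.IntrinsicBasic
open Cfsg.Agent.SignalizersComponents.PLayerAut
open Cfsg.Agent.Intrinsic.Basic Cfsg.Agent.Intrinsic.Cen Cfsg.Agent.Intrinsic.Diag
open Cfsg.Agent.McLLyComp.Act
open Cfsg.Agent.UGT.Triple Cfsg.Agent.UGT.TriBase
open scoped commutatorElement

namespace Cfsg.Agent.UGT.L2Inner

section nine

open Cfsg.Agent.GH.L2Aut

variable {F : Type*} [Field F] [Finite F] {L : Type*} [Group L] (R : GH.L2Aut.Rep F L)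

local notation "M2" => Matrix (Fin 2) (Fin 2) F

theorem charP_three (h9 : Nat.card F = 9) : CharP F 3 := by
  have : Fintype F := Fintype.ofFinite F
  obtain ⟨p, hp⟩ := CharP.exists F
  have h1 : ((Fintype.card F : ℕ) : F) = 0 := by rw [Nat.cast_card_eq_zero]
  rw [← Nat.card_eq_fintype_card, h9, CharP.cast_eq_zero_iff F p] at h1
  have h2 : p.Prime := (CharP.char_is_prime_or_zero F p).resolve_right (by
    rintro rfl
    simp at h1)
  have h3 : p = 3 := (Nat.prime_dvd_prime_iff_eq h2 Nat.prime_three).mp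
    (h2.dvd_of_dvd_pow (n := 2) (by norm_num; exact h1))
  exact h3 ▸ hp

/-- elements of `PGL(2,9)` commuting with an involution of `PGL(2,9)` -/
theorem pow_of_comm (h9 : Nat.card F = 9) {g t : GL (Fin 2) F} (hφ1 : R.gl g ≠ 1)
    (hφφ : R.gl g * R.gl g = 1) (hc : R.gl t * R.gl g = R.gl g * R.gl t) :
    R.gl t ^ 8 = 1 ∨ R.gl t ^ 10 = 1 := by
  have hC := charP_three h9
  have : Fact (Nat.Prime 3) := ⟨Nat.prime_three⟩
  have : Fintype F := Fintype.ofFinite F
  have hcard : Fintype.card F = 9 := by rw [← Nat.card_eq_fintype_card, h9]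
  have hs := R.not_scalar_of_ne hφ1
  have htr := R.tr_of_inv hφ1 hφφ
  rcases R.comm_cases hc with h | h
  · obtain ⟨a, b, hab⟩ := exists_ab hs h.symm
    obtain ⟨δ, hδ⟩ : ∃ δ, δ = -g.1.det := ⟨_, rfl⟩
    have hg2 : g.1 * g.1 = δ • (1 : M2) := by rw [Rep.sq_of_tr htr, hδ]
    have hδ0 : δ ≠ 0 := by
      rw [hδ, neg_ne_zero]
      exact (Matrix.GeneralLinearGroup.det g).ne_zero
    have hpow9 : ∀ x : F, x ^ 9 = x := by
      intro x
      rw [← hcard]
      exact FiniteField.pow_card x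
    have hδ8 : δ ^ 8 = 1 := by
      have h1 := hpow9 δ
      rw [pow_succ] at h1
      exact mul_right_cancel₀ hδ0 (by rw [h1, one_mul])
    have hε : (δ ^ 4 - 1) * (δ ^ 4 + 1) = 0 := by
      have : δ ^ 8 = δ ^ 4 * δ ^ 4 := by ring
      rw [this] at hδ8
      linear_combination hδ8
    have hg9 : g.1 ^ 9 = δ ^ 4 • g.1 := by
      have h1 : g.1 ^ 2 = δ • (1 : M2) := by rw [pow_two, hg2]
      calc g.1 ^ 9 = (g.1 ^ 2) ^ 4 * g.1 := by rw [← pow_mul, ← pow_succ]
        _ = (δ • (1 : M2)) ^ 4 * g.1 := by rw [h1]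
        _ = δ ^ 4 • g.1 := by rw [smul_pow, one_pow, Matrix.smul_mul, Matrix.one_mul]
    have ht9 : t.1 ^ 9 = a • (1 : M2) + (b * δ ^ 4) • g.1 := by
      have hcm : Commute (a • (1 : M2)) (b • g.1) := by
        change a • (1 : M2) * (b • g.1) = b • g.1 * (a • (1 : M2))
        rw [Matrix.smul_mul, Matrix.one_mul, Matrix.mul_smul, Matrix.mul_one]
      have h1 := add_pow_char_pow_of_commute (p := 3) (n := 2) hcm
      rw [show (3 : ℕ) ^ 2 = 9 by norm_num] at h1
      rw [hab, h1, smul_pow, smul_pow, one_pow, hpow9, hpow9, hg9, smul_smul]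
    rcases mul_eq_zero.mp hε with h1 | h1
    · left
      have h2 : δ ^ 4 = 1 := by linear_combination h1
      rw [h2, mul_one, ← hab] at ht9
      have h3 : t ^ 9 = t := Units.ext (by rw [Units.val_pow_eq_pow_val]; exact ht9)
      have h4 : t ^ 8 = 1 := by
        rw [pow_succ] at h3
        exact mul_right_cancel (b := t) (by rw [h3, one_mul])
      rw [← map_pow, h4, map_one]
    · right
      have h2 : δ ^ 4 = -1 := by linear_combination h1
      rw [← map_pow, R.gl_eq_one_iff]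
      refine ⟨a ^ 2 - b ^ 2 * δ, ?_⟩
      rw [pow_succ, Units.val_mul, Units.val_pow_eq_pow_val, ht9, h2, hab, Matrix.add_mul,
        Matrix.mul_add, Matrix.mul_add, Matrix.smul_mul, Matrix.smul_mul, Matrix.smul_mul,
        Matrix.smul_mul, Matrix.mul_smul, Matrix.mul_smul, Matrix.mul_smul, Matrix.mul_smul,
        Matrix.one_mul, Matrix.one_mul, Matrix.mul_one, hg2]
      module
  · left
    have h1 := R.anticomm_inv h
    rw [show (8 : ℕ) = 2 * 4 by norm_num, pow_mul, pow_two, h1, one_pow]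

/-- elements of `PGL(2,9)` commuting with a field involution -/
theorem pow_of_comm_field (h9 : Nat.card F = 9) {φ σ : MulAut L} (hφφ : φ * φ = 1)
    (hf : R.fld φ ≠ 1) (hσ : σ ∈ R.PGL) (hc : σ * φ = φ * σ) : σ ^ 48 = 1 := by
  classical
  obtain ⟨τ, hτ⟩ : ∃ τ, τ = R.fld φ := ⟨_, rfl⟩
  rw [← hτ] at hf
  have hτ2 : τ * τ = 1 := by rw [hτ, ← map_mul, hφφ, map_one]
  have hord : orderOf τ = 2 := by
    rw [orderOf_eq_prime_iff]
    exact ⟨by rw [sq]; exact hτ2, hf⟩
  obtain ⟨R', hP, -, hR'⟩ := R.exists_rep φ (by rw [← hτ, hord, sq, hφφ])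
  rw [← hτ] at hR'
  rw [← hP] at hσ
  obtain ⟨u, rfl⟩ := R'.mem_PGL.1 hσ
  obtain ⟨K, hK, hcard⟩ := exists_fixed_field τ
  rw [hord, h9] at hcard
  have hK3 : Nat.card K = 3 := by
    have h1 : Nat.card K ≤ 3 := by
      by_contra h
      push Not at h
      have h4 : 4 ≤ Nat.card K := h
      have := Nat.pow_le_pow_left h4 2
      omega
    interval_cases Nat.card K <;> omega
  -- `τ u = c u`
  obtain ⟨c, hcu⟩ : ∃ c : F, ∀ i j, τ (u.1 i j) = c * u.1 i j := by
    rw [hR', R'.fa_mul_gl] at hc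
    have h1 := mul_right_cancel hc
    have h2 : R'.gl (u⁻¹ * Matrix.GeneralLinearGroup.map τ.toRingHom u) = 1 := by
      rw [map_mul, map_inv, ← h1, inv_mul_cancel]
    obtain ⟨c, hc⟩ := R'.gl_eq_one_iff.1 h2
    refine ⟨c, fun i j => ?_⟩
    have h3 : (Matrix.GeneralLinearGroup.map τ.toRingHom u).1 = c • u.1 := by
      have h4 : u * (u⁻¹ * Matrix.GeneralLinearGroup.map τ.toRingHom u) =
          Matrix.GeneralLinearGroup.map τ.toRingHom u := mul_inv_cancel_left _ _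
      rw [← h4, Units.val_mul, hc, Matrix.mul_smul, Matrix.mul_one]
    exact congrFun (congrFun h3 i) j
  obtain ⟨k, l, hkl⟩ : ∃ k l, u.1 k l ≠ 0 := by
    by_contra h
    push Not at h
    have h1 : u.1 = 0 := by ext i j; exact h i j
    have h2 : u.1.det = 0 := by rw [h1]; simp
    exact (Matrix.GeneralLinearGroup.det u).ne_zero h2
  have hmem : ∀ i j, (u.1 k l)⁻¹ * u.1 i j ∈ K := by
    intro i j
    rw [hK, map_mul, map_inv₀, hcu, hcu]
    have hc0 : c ≠ 0 := by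
      intro h
      have h1 := hcu k l
      rw [h, zero_mul] at h1
      exact hkl ((map_eq_zero τ).mp h1)
    field_simp
  let A : Matrix (Fin 2) (Fin 2) K := Matrix.of fun i j => ⟨(u.1 k l)⁻¹ * u.1 i j, hmem i j⟩
  have hAu : A.map K.subtype = (u.1 k l)⁻¹ • u.1 := by
    ext i j
    rfl
  have hdet : A.det ≠ 0 := by
    intro h
    have h1 : (A.map K.subtype).det = 0 := by
      have h2 := RingHom.map_det K.subtype A
      rw [h, map_zero] at h2
      exact h2.symm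
    rw [hAu, Matrix.det_smul, Fintype.card_fin] at h1
    exact (mul_ne_zero (pow_ne_zero 2 (inv_ne_zero hkl))
      (Matrix.GeneralLinearGroup.det u).ne_zero) h1
  let B : GL (Fin 2) K := toGL' A hdet
  have : Fintype K := Fintype.ofFinite K
  have hB : B ^ 48 = 1 := by
    have h1 : Nat.card (GL (Fin 2) K) = 48 := by
      rw [Matrix.card_GL_field, Fin.prod_univ_two, ← Nat.card_eq_fintype_card, hK3]
      rfl
    rw [← h1]
    exact pow_card_eq_one'
  have h1 : R'.gl (Matrix.GeneralLinearGroup.map K.subtype B) = R'.gl u := by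
    have h2 : R'.gl (u⁻¹ * Matrix.GeneralLinearGroup.map K.subtype B) = 1 := by
      rw [R'.gl_eq_one_iff]
      refine ⟨(u.1 k l)⁻¹, ?_⟩
      have h3 : (Matrix.GeneralLinearGroup.map K.subtype B).1 = (u.1 k l)⁻¹ • u.1 := hAu
      rw [Units.val_mul, h3, Matrix.mul_smul, ← Units.val_mul, inv_mul_cancel, Units.val_one]
    rw [map_mul, map_inv] at h2
    exact (inv_mul_eq_one.mp h2).symm
  rw [← h1, ← map_pow, ← map_pow, hB, map_one, map_one]

/-- **`PSL(2,9)`** -/
theorem nine (h9 : Nat.card F = 9) {φ φ' σ : MulAut L} (hφ : φ ∈ R.PGL) (hφ1 : φ ≠ 1)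
    (hφφ : φ * φ = 1) (hφφ' : φ' * φ' = 1) (hf : R.fld φ' ≠ 1) (hσ : σ ∈ R.PGL)
    (ho : Odd (orderOf σ)) (hc : σ * φ = φ * σ) (hc' : σ * φ' = φ' * σ) : σ = 1 := by
  have h48 := pow_of_comm_field R h9 hφφ' hf hσ hc'
  obtain ⟨g, rfl⟩ := R.mem_PGL.1 hφ
  obtain ⟨t, rfl⟩ := R.mem_PGL.1 hσ
  apply Cfsg.Agent.OddHalf.D6.PglType.eq_one_of_odd_two ?_ ho
  rcases pow_of_comm R h9 hφ1 hφφ hc with h | h
  · exact ⟨3, by norm_num; exact h⟩
  · refine ⟨1, ?_⟩
    have h1 : R.gl t ^ (2 ^ 1) * R.gl t ^ 48 = (R.gl t ^ 10) ^ 5 := by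
      rw [← pow_add, ← pow_mul]
      norm_num
    rw [h48, h, one_pow, mul_one] at h1
    exact h1

end nine

section field

open Cfsg.Agent.GH.L2Aut (exists_fixed_field fixSub mem_fixSub)

variable {G : Type*} [Group G] [Finite G]

omit [Finite G] in
/-- `A` normalizes `J` if it maps `J` into itself -/
theorem le_normalizer_of {A J : Subgroup G} (h : ∀ a ∈ A, ∀ j ∈ J, a * j * a⁻¹ ∈ J) :
    A ≤ normalizer (J : Set G) := by
  intro a ha
  rw [mem_normalizer_iff]
  intro j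
  refine ⟨h a ha j, fun hj => ?_⟩
  have h1 := h a⁻¹ (A.inv_mem ha) _ hj
  have h2 : a⁻¹ * (a * j * a⁻¹) * a⁻¹⁻¹ = j := by group
  rwa [h2] at h1

/-- **the 2-component of `C_K(v)`, `v` of field type on `K / O(K)`** -/
theorem exists_comp_field {X K : Subgroup G} {v : G} (hK : IsComp X K) (hvv : v * v = 1)
    (hvK : v ∈ normalizer (K : Set G)) {F : Type} [Field F] [Finite F]
    (R : GH.L2Aut.Rep F (↥K ⧸ oddCore ↥K)) (h9 : 9 < Nat.card F)
    (hf : R.fld (act K ⟨v, hvK⟩) ≠ 1) :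
    ∃ I : Subgroup G, IsComp (X ⊓ centralizer ({v} : Set G)) I ∧ I ≤ K ∧ L2T I ∧
      ∀ (g : G) (hg : g ∈ normalizer (K : Set G)), Odd (orderOf (act K ⟨g, hg⟩)) → Fixes g I →
        Fixes g K := by
  obtain ⟨φ, hφ⟩ : ∃ φ, φ = act K ⟨v, hvK⟩ := ⟨_, rfl⟩
  rw [← hφ] at hf
  have hφφ : φ * φ = 1 := by
    rw [hφ, ← map_mul]
    have h1 : (⟨v, hvK⟩ : ↥(normalizer (K : Set G))) * ⟨v, hvK⟩ = 1 := Subtype.ext hvv
    rw [h1, map_one]
  obtain ⟨σ, hσ⟩ : ∃ σ, σ = R.fld φ := ⟨_, rfl⟩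
  rw [← hσ] at hf
  have hσ2 : σ * σ = 1 := by rw [hσ, ← map_mul, hφφ, map_one]
  have hord : orderOf σ = 2 := by
    rw [orderOf_eq_prime_iff]
    exact ⟨by rw [sq]; exact hσ2, hf⟩
  obtain ⟨R', -, -, hR'⟩ := R.exists_rep φ (by rw [← hσ, hord, sq, hφφ])
  rw [← hσ] at hR'
  obtain ⟨K₀, hK₀, hcard⟩ := exists_fixed_field σ
  have heven : Even (orderOf σ) := by rw [hord]; decide
  obtain ⟨w, hw, hwn, hwx⟩ := R'.exists_outer heven hK₀ hcard
  have hfix : ∀ m ∈ R'.sub K₀, φ m = m := by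
    intro m hm
    rw [hR']
    exact R'.sub_le_fix hK₀ hm
  have hnorm : ∀ c, φ c = c → ∀ m ∈ R'.sub K₀, c * m * c⁻¹ ∈ R'.sub K₀ := by
    intro c hc m hm
    have hcf : c ∈ fixSub (R'.fa σ) := by rw [mem_fixSub, ← hR']; exact hc
    have hmf : m ∈ fixSub (R'.fa σ) := by rw [mem_fixSub, ← hR']; exact hfix m hm
    by_cases h1 : c ∈ R'.sub K₀
    · exact mul_mem (mul_mem h1 hm) (inv_mem h1)
    · by_contra h10
      have h2 := hwx c hcf h1
      have h11 := hwx _ (mul_mem (mul_mem hcf hmf) (inv_mem hcf)) h10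
      have h13 : (w * c * m)⁻¹ * (w * (c * m * c⁻¹)) = c⁻¹ := by group
      have h12 : c⁻¹ ∈ R'.sub K₀ := by
        rw [← h13]
        exact mul_mem (inv_mem (mul_mem h2 hm)) h11
      exact h1 (inv_mem_iff.1 h12)
  have h3 : 3 < Nat.card K₀ := by
    rw [hord] at hcard
    rw [hcard] at h9
    by_contra hcon
    push Not at hcon
    have := Nat.pow_le_pow_left hcon 2
    omega
  obtain ⟨RS⟩ : Nonempty (GH.L2Aut.Rep K₀ (R'.sub K₀)) := ⟨R'.subRep K₀⟩
  have hsim : IsSimpleGroup (R'.sub K₀) := Cfsg.Agent.OddHalf.D6.SubFix.isSimple RS h3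
  have hqs : IsQuasisimple (R'.sub K₀) := Cfsg.Agent.OddHalf.D6.SubFix.isQuasisimple RS h3
  obtain ⟨M₀, hM₀⟩ : ∃ M₀, M₀ = R'.sub K₀ := ⟨_, rfl⟩
  have heq : ∀ β : MulAut (↥K ⧸ oddCore ↥K), Odd (orderOf β) → (∀ m ∈ M₀, β m = m) → β = 1 := by
    intro β hβ h
    rw [hM₀] at h
    exact Cfsg.Agent.OddHalf.D6.SubFix.eq_one_of_sub R' hσ2 hf hK₀ hβ h
  rw [← hM₀] at hfix hnorm hsim hqs RS
  clear hwx hwn hw w hR' heven
  -- `J`, the preimage of `M₀` in `C_K(v)`
  let J : Subgroup G :=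
    { carrier := {k | ∃ hk : k ∈ K, k * v = v * k ∧ (QuotientGroup.mk ⟨k, hk⟩ : ↥K ⧸ oddCore ↥K) ∈ M₀}
      one_mem' := ⟨one_mem _, by rw [one_mul, mul_one], one_mem M₀⟩
      mul_mem' := by
        rintro a b ⟨ha, ha1, ha2⟩ ⟨hb, hb1, hb2⟩
        refine ⟨mul_mem ha hb, ?_, mul_mem ha2 hb2⟩
        rw [mul_assoc, hb1, ← mul_assoc, ha1, mul_assoc]
      inv_mem' := by
        rintro a ⟨ha, ha1, ha2⟩
        refine ⟨inv_mem ha, ?_, inv_mem ha2⟩
        rw [inv_mul_eq_iff_eq_mul, ← mul_assoc, ha1, mul_inv_cancel_right] }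
  have hJK : J ≤ K := fun k hk => hk.1
  have hJv : J ≤ centralizer ({v} : Set G) := by
    rintro k ⟨-, h, -⟩
    exact mem_c h
  have hlift : ∀ m ∈ M₀, ∃ (j : G) (hj : j ∈ J), (QuotientGroup.mk ⟨j, hJK hj⟩ :
      ↥K ⧸ oddCore ↥K) = m := by
    intro m hm
    obtain ⟨l, hl, hlv, h⟩ := WBTriple.exists_lift hvK hvv (y := m) (by rw [← hφ]; exact hfix m hm)
    exact ⟨l, ⟨hl, hlv, by rw [h]; exact hm⟩, h⟩
  have hnJ : K ⊓ centralizer ({v} : Set G) ≤ normalizer (J : Set G) := by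
    refine le_normalizer_of fun a ha j hj => ?_
    obtain ⟨hjK, hjv, hjM⟩ := hj
    have hav : a * v = v * a := comm_c ha.2
    refine ⟨mul_mem (mul_mem ha.1 hjK) (inv_mem ha.1), ?_, ?_⟩
    · have h1 : a⁻¹ * v = v * a⁻¹ := by
        rw [inv_mul_eq_iff_eq_mul, ← mul_assoc, hav, mul_inv_cancel_right]
      calc a * j * a⁻¹ * v = a * j * (a⁻¹ * v) := by group
        _ = a * (j * v) * a⁻¹ := by rw [h1]; group
        _ = (a * v) * j * a⁻¹ := by rw [hjv]; group
        _ = v * (a * j * a⁻¹) := by rw [hav]; group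
    · have h1 : φ (QuotientGroup.mk ⟨a, ha.1⟩) = QuotientGroup.mk ⟨a, ha.1⟩ := by
        rw [hφ, act_mk hvK ha.1]
        congr 1
        exact Subtype.ext (by change v * a * v⁻¹ = a; rw [← hav, mul_inv_cancel_right])
      exact hnorm _ h1 _ hjM
  obtain ⟨I, hI⟩ : ∃ I, I = PComponents.pElem 2 J := ⟨_, rfl⟩
  have hIJ : I ≤ J := hI ▸ PComponents.pElem_le _
  have hIK : I ≤ K := hIJ.trans hJK
  have hnI : K ⊓ centralizer ({v} : Set G) ≤ normalizer (I : Set G) := by
    rw [hI]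
    exact hnJ.trans (PComponents.normalizer_le_normalizer_pElem J)
  have hJnI : J ≤ normalizer (I : Set G) := (le_inf hJK hJv).trans hnI
  -- the map `I → M₀`
  let f : ↥I →* ↥M₀ :=
    { toFun := fun i => ⟨QuotientGroup.mk ⟨i, hIK i.2⟩, (hIJ i.2).2.2⟩
      map_one' := rfl
      map_mul' := fun _ _ => rfl }
  have hfk : ∀ i : ↥I, f i = 1 ↔ (i : G) ∈ core K := by
    intro i
    rw [← mk_eq_one_iff (hIK i.2)]
    exact ⟨fun h => congrArg Subtype.val h, fun h => Subtype.ext h⟩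
  have hfn : f.range.Normal := by
    constructor
    rintro _ ⟨i, rfl⟩ ⟨m, hm⟩
    obtain ⟨j, hj, hjm⟩ := hlift m hm
    refine ⟨⟨j * i * j⁻¹, conj_mem (hJnI hj) i.2⟩, ?_⟩
    apply Subtype.ext
    change (QuotientGroup.mk (⟨j, hJK hj⟩ * ⟨i, hIK i.2⟩ * ⟨j, hJK hj⟩⁻¹) : ↥K ⧸ oddCore ↥K) = _
    rw [QuotientGroup.mk_mul, QuotientGroup.mk_mul, QuotientGroup.mk_inv, hjm]
    rfl
  have hfs : Function.Surjective f := by
    rw [← MonoidHom.range_eq_top]
    refine (hsim.eq_bot_or_eq_top_of_normal _ hfn).resolve_left fun hbot => ?_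
    obtain ⟨a, b, hF⟩ := RS.exists_four
    obtain ⟨j, hj, hjm⟩ := hlift a a.2
    have h5 : j ^ 2 ^ 1 ∈ core K := by
      rw [pow_one, pow_two, ← mk_eq_one_iff (mul_mem (hJK hj) (hJK hj))]
      have h6 : (QuotientGroup.mk (⟨j, hJK hj⟩ * ⟨j, hJK hj⟩) : ↥K ⧸ oddCore ↥K) = 1 := by
        rw [QuotientGroup.mk_mul, hjm]
        exact congrArg Subtype.val hF.aa
      exact h6
    obtain ⟨k, hk1, hk2⟩ := Intrinsic.Lifting.exists_two_part (odd_card_core K) h5
    have hkJ : j ^ k ∈ J := J.pow_mem hj k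
    have hkI : j ^ k ∈ I := by
      rw [hI]
      exact PComponents.mem_pElem (n := 1) hkJ hk1
    have h6 : f ⟨j ^ k, hkI⟩ = a := by
      apply Subtype.ext
      change (QuotientGroup.mk ⟨j ^ k, hJK hkJ⟩ : ↥K ⧸ oddCore ↥K) = a
      rw [← hjm]
      exact ((mk_eq_iff (hJK hj) (hJK hkJ)).mpr hk2).symm
    have h7 : f ⟨j ^ k, hkI⟩ ∈ f.range := ⟨_, rfl⟩
    rw [hbot, mem_bot, h6] at h7
    exact hF.a1 h7
  have hker : oddCore ↥I = f.ker := by
    have hker2 : (Nat.card f.ker).Coprime 2 := by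
      rw [Nat.coprime_two_right]
      have h5 : f.ker.map I.subtype ≤ core K := by
        rintro _ ⟨i, hi, rfl⟩
        exact (hfk i).mp hi
      have h6 := card_dvd_of_le h5
      rw [card_map_of_injective I.subtype_injective] at h6
      exact Odd.of_dvd_nat (odd_card_core K) h6
    apply le_antisymm
    · intro x hx
      have h4 : (oddCore ↥I).map f = ⊥ := by
        refine WBAut.odd_normal_eq_bot RS (Normal.map inferInstance f hfs) ?_
        rw [← Nat.coprime_two_right]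
        exact Nat.Coprime.coprime_dvd_left (Subgroup.card_map_dvd _ f)
          (Cores.pPrimeCore_coprime 2)
      have h5 : f x ∈ (oddCore ↥I).map f := ⟨x, hx, rfl⟩
      rw [h4, mem_bot] at h5
      exact h5
    · exact Cores.le_pPrimeCore inferInstance hker2
  let e : (↥I ⧸ oddCore ↥I) ≃* ↥M₀ :=
    (QuotientGroup.quotientMulEquivOfEq hker).trans (QuotientGroup.quotientKerEquivOfSurjective f hfs)
  have hcoreI : core I ≤ core K := by
    rintro _ ⟨i, hi, rfl⟩
    have hi' : i ∈ oddCore ↥I := hi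
    rw [hker] at hi'
    exact (hfk i).mp hi'
  have hcomp : IsComp (K ⊓ centralizer ({v} : Set G)) I := by
    rw [isComp_iff]
    refine ⟨le_inf hIK (hIJ.trans hJv), ?_, ?_, ?_⟩
    · have : (I.subgroupOf (K ⊓ centralizer ({v} : Set G))).Normal :=
        normal_subgroupOf_of_le_normalizer hnI
      exact this.isSubnormal
    · have : Nontrivial (↥I ⧸ oddCore ↥I) := e.toEquiv.nontrivial
      exact QuasisimpleQuotient.isQuasisimple_of_surjective e.symm.toMonoidHom e.symm.surjective hqs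
    · rw [hI]
      apply le_antisymm (PComponents.pElem_le _)
      refine (Subgroup.closure_le _).mpr ?_
      rintro y ⟨hy, n, hn⟩
      exact PComponents.mem_pElem (n := n) (PComponents.mem_pElem (n := n) hy hn) hn
  have hsn : ((K ⊓ centralizer ({v} : Set G)).subgroupOf
      (X ⊓ centralizer ({v} : Set G))).IsSubnormal := by
    have h5 := IsSubnormal.comap (inclusion (inf_le_left : X ⊓ centralizer ({v} : Set G) ≤ X)) hK.2.1
    have h6 : (K.subgroupOf X).comap (inclusion (inf_le_left : X ⊓ centralizer ({v} : Set G) ≤ X)) =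
        (K ⊓ centralizer ({v} : Set G)).subgroupOf (X ⊓ centralizer ({v} : Set G)) := by
      ext x
      constructor
      · intro hx
        exact ⟨hx, x.2.2⟩
      · intro hx
        exact hx.1
    rwa [h6] at h5
  refine ⟨I, hcomp.extend (inf_le_inf_right _ hK.le) hsn, hIK, ?_, ?_⟩
  · exact ⟨K₀, inferInstance, inferInstance,
      ⟨{ π := e.symm.toMonoidHom.comp RS.π
         surj := e.symm.surjective.comp RS.surj
         ker := fun x => by
           rw [← RS.ker x]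
           exact e.symm.map_eq_one_iff
         two := RS.two }⟩⟩
  · intro g hg ho hfg
    rw [← act_eq_one_iff hg]
    refine heq _ ho fun m hm => ?_
    obtain ⟨⟨i, hi⟩, him⟩ := hfs ⟨m, hm⟩
    have him' : (QuotientGroup.mk ⟨i, hIK hi⟩ : ↥K ⧸ oddCore ↥K) = m := congrArg Subtype.val him
    rw [← him', act_mk hg (hIK hi), eq_comm, mk_eq_iff (hIK hi) (conj_mem hg (hIK hi))]
    have h5 := hcoreI (hfg.2 i hi)
    have h6 := conj_core (K.inv_mem (hIK hi)) h5
    have h7 : i⁻¹ * ⁅g, i⁆ * i⁻¹⁻¹ = i⁻¹ * (g * i * g⁻¹) := by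
      rw [commutatorElement_def]
      group
    rwa [h7] at h6

end field

end Cfsg.Agent.UGT.L2Inner
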