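import Cfsg.Agent.UGT.L2Inner.BadEnd
import Cfsg.Agent.UGT.L2Inner.WBField
import Cfsg.Agent.UGT.A7.PumpSeven
import Cfsg.Agent.UGT.A7.PumpL2
import Cfsg.Agent.UAlt.HeKill

/-!
# UGT, inner L2 with `A₇`-triples present: (7) of bb #12930

* `exists_twist`, `exists_eps`: a four-group centralized by an involution `φ` of field type of `PSL(2,F)`.
* `mem_comp_field`: the 2-component of the centralizer of an involution of field type.
* `false_of_pump`: the final contradiction (`K` and a 2-component `I` of `C(⟨r, y⟩)` in `C(r)`).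
* `Out.seven`: `Seven` for the bad configuration.
-/

set_option autoImplicit false
set_option linter.unusedSectionVars false

open Cfsg Subgroup Equiv Equiv.Perm
open Cfsg.Agent.UAlt
open Cfsg.Agent.SignalizersComponents Cfsg.Agent.Lib
open Cfsg.Agent.SignalizersComponents.IntrinsicBasic
open Cfsg.Agent.SignalizersComponents.PLayerAut
open Cfsg.Agent.Intrinsic.Basic Cfsg.Agent.Intrinsic.Cen Cfsg.Agent.Intrinsic.Diag
open Cfsg.Agent.McLLyComp.Act
open Cfsg.Agent.UGT.Triple Cfsg.Agent.UGT.TriBase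
open Cfsg.Agent.GH.L2Aut (exists_fixed_field fixSub mem_fixSub)
open scoped commutatorElement

namespace Cfsg.Agent.UGT.L2Inner

/-! ### automorphisms -/

section aut

open Cfsg.Agent.GH.L2Aut Cfsg.Agent.Lib.SL2Mat Cfsg.Agent.Lib.AutSL2 Cfsg.Agent.Lib.AutSL2Out

variable {F : Type*} [Field F] [Finite F] {L : Type*} [Group L] (R : GH.L2Aut.Rep F L)

local notation "SL2" => Matrix.SpecialLinearGroup (Fin 2) F

theorem exists_twist {φ : MulAut L} (h1 : φ ∉ R.PGL) (h2 : φ * φ = 1) :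
    ∃ R' : GH.L2Aut.Rep F L, φ = R'.fa (R.fld φ) ∧ orderOf (R.fld φ) = 2 ∧
      ∀ K : Subfield F, (∀ a, a ∈ K ↔ R.fld φ a = a) → ∀ X : SL2, R.lift φ X = X → R.π X ∈ R'.sub K := by
  have h3 := R.fld_order_two h1 h2
  obtain ⟨h, hh⟩ := R.exists_field φ (by rw [h3, sq, h2])
  refine ⟨R.twist h, by rw [R.twist_fa]; exact hh, h3, fun K hK X hX => ?_⟩
  obtain ⟨X', hX'⟩ : ∃ X', X' = (conjGL h)⁻¹ X := ⟨_, rfl⟩
  have h4 : conjGL h X' = X := by rw [hX', MulAut.apply_inv_self]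
  have h5 : fieldAut (R.fld φ) X' = X' := by
    have h6 : R.lift φ = conjGL h * fieldAut (R.fld φ) * (conjGL h)⁻¹ := by
      conv_lhs => rw [hh]
      rw [map_mul, map_mul, map_inv, R.lift_gl, R.lift_fa]
    rw [h6, MulAut.mul_apply, MulAut.mul_apply, ← hX'] at hX
    apply (conjGL h).injective
    rw [hX, h4]
  obtain ⟨Z, hZ⟩ := GH.L2Aut.Rep.exists_inc hK h5
  refine ⟨Z, ?_⟩
  change (R.twist h).π (GH.L2Aut.Rep.inc K Z) = _
  rw [hZ, R.twist_π, h4]

theorem exists_eps {φ : MulAut L} {a b : L} (haa : a * a = 1) (hbb : b * b = 1)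
    (ha1 : a ≠ 1) (hb1 : b ≠ 1) (hab : a ≠ b) (hc : a * b = b * a) (hφa : φ a = a) (hφb : φ b = b) :
    ∃ e, (e = 1 ∨ e = a) ∧ ∃ X, (R.π X = b ∨ R.π X = a * b) ∧ R.lift (MulAut.conj e * φ) X = X := by
  obtain ⟨A, rfl⟩ := R.surj a
  obtain ⟨B, rfl⟩ := R.surj b
  have hsq : ∀ X : SL2, R.π X * R.π X = 1 → R.π X ≠ 1 → X * X = -1 := by
    intro X h1 h2
    rw [← map_mul, R.ker] at h1
    rcases h1 with h1 | h1
    · exact absurd ((R.ker X).2 (Cfsg.Agent.Lib.PSL2Inv.sq_eq_one R.two h1)) h2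
    · exact h1
  have hAA := hsq A haa ha1
  have hBB := hsq B hbb hb1
  have hAB : A * B = -(B * A) := by
    rw [← map_mul, ← map_mul] at hc
    rcases R.π_eq_iff.1 hc with h1 | h1
    · exfalso
      apply hab
      have h2 : (A * B) * (A * B) = 1 := by
        calc (A * B) * (A * B) = A * (B * A) * B := by group
          _ = (A * A) * (B * B) := by rw [← h1]; group
          _ = 1 := by rw [hAA, hBB, neg_mul_neg, one_mul]
      have h3 : R.π (A * B) = 1 := (R.ker _).2 (Cfsg.Agent.Lib.PSL2Inv.sq_eq_one R.two h2)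
      rw [map_mul] at h3
      rw [eq_inv_of_mul_eq_one_left h3, inv_eq_of_mul_eq_one_left hbb]
    · exact h1
  have hA : R.lift φ A = A ∨ R.lift φ A = -A := by
    rw [R.lift_apply] at hφa
    exact R.π_eq_iff.1 hφa
  have hB : R.lift φ B = B ∨ R.lift φ B = -B := by
    rw [R.lift_apply] at hφb
    exact R.π_eq_iff.1 hφb
  rcases hB with hB | hB
  · exact ⟨1, Or.inl rfl, B, Or.inl rfl, by rw [map_one, one_mul]; exact hB⟩
  rcases hA with hA | hA
  · refine ⟨R.π A, Or.inr rfl, B, Or.inl rfl, ?_⟩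
    rw [map_mul, R.conj_π, R.lift_gl, MulAut.mul_apply, hB, conjGL_toGL]
    rw [mul_neg, hAB, neg_neg, mul_inv_cancel_right]
  · refine ⟨1, Or.inl rfl, A * B, Or.inr (map_mul _ _ _), ?_⟩
    rw [map_one, one_mul, map_mul, hA, hB, neg_mul_neg]

end aut

/-! ### the 2-component of the centralizer of an involution of field type -/

section comp

variable {G : Type*} [Group G] [Finite G]

/-- `I` is a 2-component of `C_X(v)` in `K`, `v` a field automorphism on `K / O(K)`: every element of `K / O(K)`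
belonging to the fixed field is covered by `I` -/
theorem exists_mem_comp {X K I : Subgroup G} {v : G} (hK : IsComp X K) (hvv : v * v = 1)
    (hvK : v ∈ normalizer (K : Set G)) {F : Type*} [Field F] [Finite F] (hF : 9 < Nat.card F)
    (R' : GH.L2Aut.Rep F (↥K ⧸ oddCore ↥K)) {σ : F ≃+* F} (hσ : orderOf σ = 2)
    (hφ : act K ⟨v, hvK⟩ = R'.fa σ) {K₀ : Subfield F} (hK₀ : ∀ a, a ∈ K₀ ↔ σ a = a)
    (hcard : Nat.card F = Nat.card K₀ ^ orderOf σ)
    (hI : IsComp (X ⊓ centralizer ({v} : Set G)) I) (hIK : I ≤ K) {m : ↥K ⧸ oddCore ↥K}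
    (hm : m ∈ R'.sub K₀) : ∃ (i : G) (hi : i ∈ I), (QuotientGroup.mk ⟨i, hIK hi⟩ : ↥K ⧸ oddCore ↥K) = m := by
  have h3 : 3 < Nat.card K₀ := by
    rw [hσ] at hcard
    rw [hcard] at hF
    by_contra hcon
    push Not at hcon
    have := Nat.pow_le_pow_left hcon 2
    omega
  have heven : Even (orderOf σ) := by rw [hσ]; decide
  have hsim : IsSimpleGroup (R'.sub K₀) := Cfsg.Agent.OddHalf.D6.SubFix.isSimple (R'.subRep K₀) h3
  obtain ⟨H, hH⟩ : ∃ H, H = K ⊓ centralizer ({v} : Set G) := ⟨_, rfl⟩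
  have hHK : H ≤ K := hH ▸ inf_le_left
  have hHv : ∀ k ∈ H, k * v = v * k := fun k hk => comm_c (hH ▸ hk : k ∈ K ⊓ centralizer ({v} : Set G)).2
  have hIH : I ≤ H := by rw [hH]; exact le_inf hIK (hI.le.trans inf_le_right)
  have hI' : IsComp H I := hI.restrict (by rw [hH]; exact inf_le_inf_right _ hK.le) hIH
  have hfix : ∀ k (hk : k ∈ H), (QuotientGroup.mk ⟨k, hHK hk⟩ : ↥K ⧸ oddCore ↥K) ∈ fixSub (R'.fa σ) := by
    intro k hk
    rw [mem_fixSub, ← hφ, act_mk hvK (hHK hk)]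
    congr 1
    exact Subtype.ext (by change v * k * v⁻¹ = k; rw [← hHv k hk, mul_inv_cancel_right])
  let g : ↥H →* ↥(fixSub (R'.fa σ)) :=
    { toFun := fun k => ⟨QuotientGroup.mk ⟨k, hHK k.2⟩, hfix k k.2⟩
      map_one' := rfl
      map_mul' := fun _ _ => rfl }
  have hgs : Function.Surjective g := by
    rintro ⟨y, hy⟩
    rw [mem_fixSub, ← hφ] at hy
    obtain ⟨l, hl, hlv, h⟩ := WBTriple.exists_lift hvK hvv hy
    exact ⟨⟨l, by rw [hH]; exact ⟨hl, mem_c hlv⟩⟩, Subtype.ext h⟩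
  have hsub1 : ((I.subgroupOf H).map g).IsSubnormal := hI'.2.1.map hgs
  have hsub2 := hsub1.comap (inclusion (R'.sub_le_fix hK₀))
  -- the image of `I`
  let f : ↥I →* (↥K ⧸ oddCore ↥K) := (QuotientGroup.mk' (oddCore ↥K)).comp (inclusion hIK)
  have hperf : ⁅f.range, f.range⁆ = f.range := by
    have h5 : Group.IsPerfect ↥I := by
      rw [isPerfect_iff]
      exact hI.perfect
    have h6 : ⁅(⊤ : Subgroup ↥I), ⊤⁆ = ⊤ := h5.commutator_eq_top
    rw [MonoidHom.range_eq_map, ← map_commutator, h6]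
  have hfle : f.range ≤ fixSub (R'.fa σ) := by
    rintro _ ⟨i, rfl⟩
    exact hfix i (hIH i.2)
  have hle := A7.PumpL2.le_sub_of_perfect R' heven hK₀ hcard hfle hperf
  rcases hsub2.eq_bot_or_top_of_isSimpleGroup hsim with h | h
  · exfalso
    have hIcore : I ≤ core K := by
      intro i hi
      rw [← mk_eq_one_iff (hIK hi)]
      have h7 : (⟨QuotientGroup.mk ⟨i, hIK hi⟩, hle ⟨⟨i, hi⟩, rfl⟩⟩ : ↥(R'.sub K₀)) ∈
          ((I.subgroupOf H).map g).comap (inclusion (R'.sub_le_fix hK₀)) :=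
        ⟨⟨i, hIH hi⟩, hi, rfl⟩
      rw [h, mem_bot] at h7
      exact congrArg Subtype.val h7
    have h8 := hI.even
    have h9 : Odd (Nat.card I) := Odd.of_dvd_nat (odd_card_core K) (card_dvd_of_le hIcore)
    exact (Nat.not_even_iff_odd.2 h9) (even_iff_two_dvd.2 h8)
  · have h7 : (⟨m, hm⟩ : ↥(R'.sub K₀)) ∈ ((I.subgroupOf H).map g).comap (inclusion (R'.sub_le_fix hK₀)) := by
      rw [h]; exact mem_top _
    obtain ⟨⟨i, hiH⟩, hi, him⟩ := h7
    exact ⟨i, hi, congrArg Subtype.val him⟩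

/-- the involutions of `C_K(v)` belonging to the fixed field lie in `I` -/
theorem mem_comp_field {X K I : Subgroup G} {v : G} (hK : IsComp X K) (hvv : v * v = 1)
    (hvK : v ∈ normalizer (K : Set G)) {F : Type*} [Field F] [Finite F] (hF : 9 < Nat.card F)
    (R' : GH.L2Aut.Rep F (↥K ⧸ oddCore ↥K)) {σ : F ≃+* F} (hσ : orderOf σ = 2)
    (hφ : act K ⟨v, hvK⟩ = R'.fa σ) {K₀ : Subfield F} (hK₀ : ∀ a, a ∈ K₀ ↔ σ a = a)
    (hcard : Nat.card F = Nat.card K₀ ^ orderOf σ)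
    (hI : IsComp (X ⊓ centralizer ({v} : Set G)) I) (hIK : I ≤ K) {x : G} (hx : x ∈ K)
    (hxv : x * v = v * x) (hxx : x * x = 1)
    (hm : (QuotientGroup.mk ⟨x, hx⟩ : ↥K ⧸ oddCore ↥K) ∈ R'.sub K₀) : x ∈ I := by
  obtain ⟨i, hi, him⟩ := exists_mem_comp hK hvv hvK hF R' hσ hφ hK₀ hcard hI hIK hm
  have h1 : i⁻¹ * x ∈ core K := (mk_eq_iff (hIK hi) hx).mp him
  have h2 : i⁻¹ * x ∈ centralizer ({v} : Set G) :=
    mul_mem (inv_mem (hI.le hi).2) (mem_c hxv)
  have hI' : IsComp (K ⊓ centralizer ({v} : Set G)) I :=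
    hI.restrict (inf_le_inf_right _ hK.le) (le_inf hIK (hI.le.trans inf_le_right))
  refine hI'.mem_of_two hi ?_ (n := 1) (by rw [pow_one, pow_two, hxx])
  have h3 : core K ⊓ centralizer ({v} : Set G) ≤ core (K ⊓ centralizer ({v} : Set G)) := by
    refine le_core (inf_le_inf_right _ (core_le K)) ?_
      (Odd.of_dvd_nat (odd_card_core K) (card_dvd_of_le inf_le_left))
    intro k hk
    have e1 : k ∈ normalizer (core K : Set G) := le_normalizer_core K hk.1
    have e2 : k ∈ normalizer (centralizer ({v} : Set G) : Set G) := le_normalizer hk.2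
    rw [mem_normalizer_iff_cj] at e1 e2 ⊢
    rw [cj_inf, e1, e2]
  exact h3 ⟨h1, h2⟩

end comp

/-! ### the contradiction -/

section core

universe u

variable {G : Type u} [Group G] [Finite G]

/-- what commutes with `Alt(7)` is trivial -/
theorem eq_one_of_comm_alt {γ : P7} (h : ∀ σ ∈ alt (Finset.univ : Finset (Fin 7)), γ * σ = σ * γ) : γ = 1 := by
  ext a
  rw [apply_of_comm_alt (S := (Finset.univ : Finset (Fin 7))) (by decide) h (Finset.mem_univ a)]
  rfl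

/-- `Alt(7)`-groups are not groups `PSL(2,F)` -/
theorem not_lab_of_L2T {I : Subgroup G} (hT : L2T I) : ¬ Nonempty (Lab I) := by
  rintro ⟨M⟩
  obtain ⟨F, _, _, ⟨R⟩⟩ := hT
  refine A7.PumpSeven.not_psl M R.two
    ((SL.toEquiv R).toMonoidHom.comp (QuotientGroup.mk' (oddCore ↥I))) fun x hx => ?_
  have h1 : (QuotientGroup.mk' (oddCore ↥I)) x = 1 := (SL.toEquiv R).map_eq_one_iff.mp hx
  exact (mem_core_iff x.2).mpr ((QuotientGroup.eq_one_iff x).mp h1)

/-- an element of `N` central modulo `O(N)` lies in `O(N)`, `N` of type `A₇` -/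
theorem Lab_center {N : Subgroup G} (M : Lab N) {a : ↥N ⧸ oddCore ↥N} (ha : ∀ b, b * a = a * b) : a = 1 := by
  obtain ⟨⟨k, hk⟩, rfl⟩ := QuotientGroup.mk_surjective a
  have h1 : M.φ k = 1 := by
    apply eq_one_of_comm_alt
    intro σ hσ
    obtain ⟨z, hz, rfl⟩ := M.lift σ hσ
    have h2 := ha (QuotientGroup.mk ⟨z, hz⟩)
    have h3 : (QuotientGroup.mk (⟨z, hz⟩ * ⟨k, hk⟩) : ↥N ⧸ oddCore ↥N) =
        QuotientGroup.mk (⟨k, hk⟩ * ⟨z, hz⟩) := h2
    have h4 : M.φ (z * k) = M.φ (k * z) := by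
      rw [M.eq_iff (mul_mem hz hk) (mul_mem hk hz)]
      exact (mk_eq_iff (mul_mem hz hk) (mul_mem hk hz)).mp h3
    rw [M.mul _ _ (le_normalizer hz) (le_normalizer hk), M.mul _ _ (le_normalizer hk) (le_normalizer hz)] at h4
    exact h4.symm
  rw [mk_eq_one_iff hk, ← M.core_iff k hk]
  exact h1

/-- a diagonal pump-up of type `A₇` -/
theorem lab_dg7 {X N : Subgroup G} {y : G} (hN : IsComp X N) (hyX : y ∈ X) (hyy : y * y = 1)
    (hne : cj y N ≠ N) (M : Lab N) : Nonempty (Lab (diag X N y)) := by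
  obtain ⟨-, -, -, -, f, hf, hfk, -, -⟩ := exists_diag hN hyX hyy hne
  have hinj : Function.Injective f := by
    rw [injective_iff_map_eq_one]
    intro a ha
    have h1 : a ∈ center (↥N ⧸ oddCore ↥N) := hfk (MonoidHom.mem_ker.mpr ha)
    exact Lab_center M fun b => mem_center_iff.mp h1 b
  obtain ⟨M', -⟩ := A7.PumpSeven.exists_transfer M (by simp) (MulEquiv.ofBijective f ⟨hinj, hf⟩)
  exact ⟨M'⟩

theorem IsV.info {σ : P7} (h : IsV σ) (h1 : σ ≠ 1) : σ * σ = 1 ∧ (fixIn (Finset.univ : Finset (Fin 7)) σ).card = 3 ∧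
    ∀ i, i ≠ 4 → i ≠ 5 → i ≠ 6 → i ∉ fixIn (Finset.univ : Finset (Fin 7)) σ := by
  rcases h with rfl | rfl | rfl | rfl
  · exact absurd rfl h1
  all_goals decide

/-- **(7), the contradiction**: `(x, t, K)` a triple of type `A₇`, `y` acts on `K` as a root, `r` fixes `K`, `I` is a
2-component of `C(y) ∩ C(r)` not of type `A₇` containing an element `m` of `C(t)` which does not fix `K`. -/
theorem false_of_pump (hP7 : A7.Pump7 G) {x t y r m : G} {K I : Subgroup G} (L : Lab K)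
    (T : IsTriple x t K) (hyy : y * y = 1) (hyK : y ∈ normalizer (K : Set G))
    (hβ : IsV (L.φ y)) (hβ1 : L.φ y ≠ 1) (hrr : r * r = 1) (hr1 : r ≠ 1) (hrt : r * t = t * r)
    (hrx : r * x = x * r) (hry : r * y = y * r) (hrK : Fixes r K)
    (hI : IsComp (centralizer ({y} : Set G) ⊓ centralizer ({r} : Set G)) I) (hnA : ¬ Nonempty (Lab I))
    (hm : m ∈ I) (hmt : m * t = t * m) (hmN : m ∈ normalizer (K : Set G)) (hmK : ¬ Fixes m K) : False := by
  have htt := sq_of_order T.inva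
  obtain ⟨K1, M', T1, hlab, hor⟩ := hP7 x t r K L T (order_two hrr hr1) hrt hrx hrK
  obtain ⟨h1, h3⟩ := isComp_cen T.comp (mem_c hrt) hrr hrK
  obtain ⟨J, hJ⟩ : ∃ J, J = cen K r := ⟨_, rfl⟩
  rw [← hJ] at h1 h3 hlab hor
  have hmr : m * r = r * m := comm_c (hI.le hm).2
  have hmJ : m ∈ normalizer (J : Set G) := hJ ▸ mem_normalizer_cen hmN hmr
  have hmfJ : ¬ Fixes m J := fun h => hmK ((fixes_iff_of_sup h3 hmJ hmN).mp h)
  have h1' := h1
  rw [inf_comm] at h1'
  have hmK1 : ¬ Fixes m K1 := fun h => hmfJ (PumpGen.fixes_of_pump htt hrt h1' T1.comp (mem_c hmr)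
    (mem_c hmt) h (hor.imp And.right id))
  have hI2 := hI
  rw [inf_comm] at hI2
  have hyr : y ∈ centralizer ({r} : Set G) := mem_c hry.symm
  obtain ⟨N1, hN1, -, hor1⟩ := McLLyComp.PumpT.exists_pump hyr hyy hI2
  have hN1' : IsComp (centralizer ({r} : Set G)) (cj y N1) := isComp_cj_of_mem hN1 hyr
  have hK1N : K1 = N1 ∨ K1 = cj y N1 := by
    by_contra hcon
    push Not at hcon
    apply hmK1
    rcases hor1 with ⟨-, h4⟩ | ⟨hne, h4⟩
    · exact T1.comp.fixes_of_mem hN1 hcon.1 (h4 hm)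
    · obtain ⟨-, h6, -⟩ := exists_diag hN1 hyr hyy hne
      rw [h4] at hm
      obtain ⟨k, hk, hc⟩ := h6 m hm
      have e1 : Fixes (m⁻¹ * (k * (y * k * y⁻¹))) K1 := T1.comp.fixes_of_core hc
      have e2 : Fixes (k * (y * k * y⁻¹)) K1 := fixes_mul (T1.comp.fixes_of_mem hN1 hcon.1 hk)
        (T1.comp.fixes_of_mem hN1' hcon.2 (conj_mem_cj hk))
      have e3 := fixes_inv ((fixes_mul_iff_left e2).mp e1)
      rwa [inv_inv] at e3
  rcases hor1 with ⟨hyN1, h4⟩ | ⟨hne, h4⟩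
  swap
  · -- the diagonal case
    apply hnA
    rw [h4]
    rcases hK1N with rfl | h5
    · exact lab_dg7 hN1 hyr hyy hne M'
    · have h6 : N1 = cj y⁻¹ K1 := by rw [h5, cj_inv_cj]
      refine lab_dg7 hN1 hyr hyy hne ?_
      rw [h6]
      exact M'.cj y⁻¹
  · have h5 : K1 = N1 := by
      rcases hK1N with h5 | h5
      · exact h5
      · rw [h5]; exact mem_normalizer_iff_cj.mp hyN1
    subst h5
    have hyJ : y ∈ normalizer (J : Set G) := hJ ▸ mem_normalizer_cen hyK hry.symm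
    have hJK1 : J ≤ normalizer (K1 : Set G) :=
      (isComp_le_L2 (mem_c hrt.symm) htt h1').trans T1.comp.L2_le_normalizer
    have hJN : J ≤ K := by rw [hJ]; exact cen_le _ _
    have hlb : M'.φ y = L.φ y := by
      have h6 : (L.φ y)⁻¹ * M'.φ y = 1 := by
        apply eq_one_of_comm_alt
        intro σ hσ
        obtain ⟨k, hk, rfl⟩ := L.lift σ hσ
        obtain ⟨j, hj, hjk⟩ := exists_mul_of_sup h3 hk
        have h7 : L.φ k = L.φ j := ((L.eq_iff (hJN hj) hk).mpr hjk).symm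
        have hj' : y * j * y⁻¹ ∈ J := conj_mem hyJ hj
        have h8 := hlab _ hj'
        rw [M'.conj hyN1 (hJK1 hj), L.conj hyK (le_normalizer (hJN hj)), hlab j hj] at h8
        rw [h7]
        calc (L.φ y)⁻¹ * M'.φ y * L.φ j = (L.φ y)⁻¹ * (M'.φ y * L.φ j * (M'.φ y)⁻¹) * M'.φ y := by group
          _ = L.φ j * ((L.φ y)⁻¹ * M'.φ y) := by rw [h8]; group
      exact (inv_mul_eq_one.mp h6).symm
    obtain ⟨hb1, hb2, -⟩ := hβ.info hβ1
    have hsol : Group.IsSolvable ↥(sym (Finset.univ : Finset (Fin 7)) ⊓ centralizer ({L.φ y} : Set P7)) :=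
      HeKill.isSolvable_cent (fun i hi => absurd (Finset.mem_univ i) hi) hb1 (by omega)
        (by rw [hb2, Finset.card_univ, Fintype.card_fin]; omega)
    have hIn : I ≤ normalizer (K1 : Set G) := h4.trans le_normalizer
    obtain ⟨E, hE⟩ : ∃ E : Subgroup P7, E = (M'.hom.comp (inclusion hIn)).range := ⟨_, rfl⟩
    have hEm : ∀ i (hi : i ∈ I), M'.φ i ∈ E := fun i hi => hE ▸ ⟨⟨i, hi⟩, rfl⟩
    have hEle : E ≤ sym (Finset.univ : Finset (Fin 7)) ⊓ centralizer ({L.φ y} : Set P7) := by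
      rw [hE]
      rintro _ ⟨⟨i, hi⟩, rfl⟩
      refine ⟨fun j hj => absurd (Finset.mem_univ j) hj, mem_c ?_⟩
      change M'.φ i * L.φ y = L.φ y * M'.φ i
      rw [← hlb]
      exact M'.comm (hIn hi) hyN1 (comm_c (hI.le hi).1)
    have hEp : ⁅E, E⁆ = E := by
      have h5 : Group.IsPerfect ↥I := by
        rw [isPerfect_iff]
        exact hI.perfect
      have h6 : ⁅(⊤ : Subgroup ↥I), ⊤⁆ = ⊤ := h5.commutator_eq_top
      rw [hE, MonoidHom.range_eq_map, ← map_commutator, h6]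
    have hEb : E = ⊥ := by
      by_contra hne
      refine not_solvable_of_perfect hEp hne ?_
      exact Group.isSolvable_of_isSolvable_injective (f := Subgroup.inclusion hEle)
        (Subgroup.inclusion_injective hEle)
    have hIc : I ≤ core K1 := by
      intro i hi
      rw [← M'.core_iff i (h4 hi)]
      have := hEm i hi
      rwa [hEb, mem_bot] at this
    have h9 : Odd (Nat.card I) := Odd.of_dvd_nat (odd_card_core K1) (card_dvd_of_le hIc)
    exact (Nat.not_even_iff_odd.2 h9) (even_iff_two_dvd.2 hI.even)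

/-- a permutation of `{4, 5, 6}` commuting with `ta` is trivial if it is even -/
theorem eq_one_of_comm_ta {σ δ : P7} (hσ : IsV σ) (h1 : σ ≠ 1)
    (hδ : δ ∈ alt (fixIn (Finset.univ : Finset (Fin 7)) σ)) (hc : δ * ta = ta * δ) : δ = 1 := by
  obtain ⟨-, -, h3⟩ := hσ.info h1
  have hfix : ∀ i, i ≠ 4 → i ≠ 5 → i ≠ 6 → δ i = i := fun i h4 h5 h6 => hδ.2 i (h3 i h4 h5 h6)
  have h6 : δ 6 = 6 := by
    have e1 : ta (δ 6) = δ 6 := by
      have := congrArg (fun f : P7 => f 6) hc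
      change δ (ta 6) = ta (δ 6) at this
      rw [show ta 6 = 6 from by decide] at this
      exact this.symm
    by_contra hne
    have e2 : ∀ i : Fin 7, ta i = i → i ≠ 6 → i ≠ 4 ∧ i ≠ 5 ∧ i ≠ 6 := by decide
    obtain ⟨e3, e4, e5⟩ := e2 _ e1 hne
    exact hne (δ.injective (hfix _ e3 e4 e5))
  rcases A7.eq_of_fix (σ := δ) (fun i h4 h5 => by
    by_cases hi : i = 6
    · rw [hi]; exact h6
    · exact hfix i h4 h5 hi) with h | h
  · exact h
  · exfalso
    have h7 := Equiv.Perm.mem_alternatingGroup.mp hδ.1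
    rw [h, show sign A7.w0 = -1 from by decide] at h7
    exact absurd h7 (by decide)

end core

/-! ### (7) -/

section main

universe u

variable {G : Type u} [Group G] [Finite G] {M Y : Subgroup G} {t t' : G} {K : Subgroup G} {L : Lab K}

/-- `L / O(L) ≅ PSL(2,F)` for groups covered by `M` -/
theorem exists_rep_of_sup {M N : Subgroup G} (hs : M ⊔ core N = N) {F : Type*} [Field F]
    (R : GH.L2Aut.Rep F (↥M ⧸ oddCore ↥M)) : Nonempty (GH.L2Aut.Rep F (↥N ⧸ oddCore ↥N)) := by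
  obtain ⟨e, -⟩ := exists_quotEquiv hs
  exact ⟨{ π := e.toMonoidHom.comp R.π
           surj := e.surjective.comp R.surj
           ker := fun x => by
             rw [← R.ker x]
             exact e.map_eq_one_iff
           two := R.two }⟩

/-- **(7)** -/
theorem Out.seven (h : Out M Y t t' K L) (hP7 : A7.Pump7 G)
    (big : ∃ (F : Type) (_ : Field F) (_ : Finite F), 11 ≤ Nat.card F ∧
      Nonempty (GH.L2Aut.Rep F (↥M ⧸ oddCore ↥M)))
    (tri : ∃ y ∈ Y, y ≠ 1 ∧ ∃ x, (x = y ∨ x = y * t) ∧ IsTriple x t K) : Seven M Y t t' K := by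
  intro r hrr hrt hrt' hrY hrK hnP
  obtain ⟨y, hy, hy1, x, hx, T⟩ := tri
  obtain ⟨N, hN, hMN, hs, hT⟩ := h.comp y hy hy1
  obtain ⟨F, _, _, h11, ⟨R₀⟩⟩ := big
  obtain ⟨R⟩ := exists_rep_of_sup hs R₀
  have hrN := h.mem_norm hN hMN hT (hrY y hy) hrt
  have hφ := hnP y hy hy1 N hN hMN F R hrN
  have htN : t ∈ N := hMN h.tM
  have htN' : t' ∈ N := hMN h.tM'
  have hft : Fixes t K := fixes_self' h.comp7.le
  -- the four-group `V` in `N / O(N)`
  obtain ⟨e, he, X, hX, hlX⟩ := exists_eps R (φ := act N ⟨r, hrN⟩)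
    (a := QuotientGroup.mk ⟨t, htN⟩) (b := QuotientGroup.mk ⟨t', htN'⟩)
    (congrArg (QuotientGroup.mk' (oddCore ↥N)) (Subtype.ext h.tt : (⟨t, htN⟩ : ↥N) * ⟨t, htN⟩ = 1))
    (congrArg (QuotientGroup.mk' (oddCore ↥N)) (Subtype.ext h.tt' : (⟨t', htN'⟩ : ↥N) * ⟨t', htN'⟩ = 1))
    (fun h1 => h.t1 (eq_one_of_mem_core_sq ((mk_eq_one_iff htN).mp h1) h.tt))
    (fun h1 => h.t1' (eq_one_of_mem_core_sq ((mk_eq_one_iff htN').mp h1) h.tt'))
    (fun h1 => by
      have h2 := (mk_eq_iff htN htN').mp h1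
      rw [inv_eq_of_mul_eq_one_left h.tt] at h2
      have h3 := eq_one_of_mem_core_sq h2 (h.four_gp.elem _ (mul_mem t_mem_V t_mem_V'))
      exact h.ne (by rw [eq_inv_of_mul_eq_one_left h3, inv_eq_of_mul_eq_one_left h.tt']))
    (congrArg (QuotientGroup.mk' (oddCore ↥N))
      (Subtype.ext h.cmm : (⟨t, htN⟩ : ↥N) * ⟨t', htN'⟩ = ⟨t', htN'⟩ * ⟨t, htN⟩))
    (by
      rw [act_mk hrN htN]
      congr 1
      exact Subtype.ext (by change r * t * r⁻¹ = t; rw [hrt, mul_inv_cancel_right]))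
    (by
      rw [act_mk hrN htN']
      congr 1
      exact Subtype.ext (by change r * t' * r⁻¹ = t'; rw [hrt', mul_inv_cancel_right]))
  -- `v = r` or `t r`
  obtain ⟨ε, hε, hεN, hεe⟩ : ∃ ε : G, (ε = 1 ∨ ε = t) ∧ ∃ (hεN : ε ∈ N),
      (QuotientGroup.mk ⟨ε, hεN⟩ : ↥N ⧸ oddCore ↥N) = e := by
    rcases he with rfl | rfl
    · exact ⟨1, Or.inl rfl, one_mem _, rfl⟩
    · exact ⟨t, Or.inr rfl, htN, rfl⟩
  obtain ⟨v, hv⟩ : ∃ v, v = ε * r := ⟨_, rfl⟩
  have hvv : v * v = 1 := by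
    rcases hε with rfl | rfl
    · rw [hv, one_mul, hrr]
    · rw [hv]
      calc ε * r * (ε * r) = ε * (r * ε) * r := by group
        _ = (ε * ε) * (r * r) := by rw [hrt]; group
        _ = 1 := by rw [h.tt, hrr, one_mul]
  have hvc : ∀ z : G, r * z = z * r → t * z = z * t → v * z = z * v := by
    intro z h1 h2
    have h3 : ε * z = z * ε := by
      rcases hε with rfl | rfl
      · rw [one_mul, mul_one]
      · exact h2
    rw [hv]
    exact (Commute.mul_left (h3 : Commute ε z) (h1 : Commute r z))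
  have hvt : v * t = t * v := hvc t hrt rfl
  have hvt' : v * t' = t' * v := hvc t' hrt' h.cmm
  have hvY : ∀ z ∈ Y, v * z = z * v := fun z hz => hvc z (hrY z hz) (h.ty hz).symm
  have hvK : Fixes v K := by
    rw [hv]
    rcases hε with rfl | rfl
    · rw [one_mul]; exact hrK
    · exact fixes_mul hft hrK
  have hvN : v ∈ normalizer (N : Set G) := by rw [hv]; exact mul_mem (le_normalizer hεN) hrN
  have hactv : act N ⟨v, hvN⟩ = MulAut.conj e * act N ⟨r, hrN⟩ := by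
    rw [act_congr hvN hv, act_mul (le_normalizer hεN) hrN, act_of_mem hεN, hεe]
  have hv2 : act N ⟨v, hvN⟩ * act N ⟨v, hvN⟩ = 1 := by
    rw [← act_mul hvN hvN, act_congr (mul_mem hvN hvN) hvv]
    exact map_one (act N)
  have hvP : act N ⟨v, hvN⟩ ∉ R.PGL := by
    intro h1
    rw [hactv] at h1
    exact hφ ((R.PGL.mul_mem_cancel_left (R.conj_mem_PGL e)).mp h1)
  have hv1 : v ≠ 1 := by
    rintro rfl
    apply hvP
    rw [show act N ⟨1, hvN⟩ = 1 from map_one (act N)]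
    exact one_mem _
  rw [← hactv] at hlX
  obtain ⟨R', hR', hord, hsub⟩ := exists_twist R hvP hv2
  obtain ⟨K₀, hK₀, hcard⟩ := exists_fixed_field (R.fld (act N ⟨v, hvN⟩))
  obtain ⟨I, hI, hIN, hIT, -⟩ := exists_comp_field hN hvv hvN R (by omega)
    (fun h1 => hvP (R.mem_PGL_iff_fld.2 h1))
  -- `ρ ∈ {t', t t'}` in `I`
  obtain ⟨ρ, hρV, hρN, hρX, hρφ, hρ1⟩ : ∃ ρ : G, ρ ∈ jn t' (zpowers t) ∧ ∃ (hρN : ρ ∈ N),
      (QuotientGroup.mk ⟨ρ, hρN⟩ : ↥N ⧸ oddCore ↥N) = R.π X ∧ L.φ ρ = Cfsg.Agent.UGT.L2Inner.ta ∧ ρ ≠ 1 := by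
    rcases hX with h1 | h1
    · exact ⟨t', t_mem_V', htN', h1.symm, h.ta, h.t1'⟩
    · refine ⟨t * t', mul_mem t_mem_V t_mem_V', mul_mem htN htN', h1.symm, ?_, ?_⟩
      · rw [L.mul _ _ (h.norm (mem_c rfl)) (h.norm (mem_c h.cmm.symm)), h.ta,
          (L.fixes_iff hft.1).mpr hft, one_mul]
      · intro h2
        exact h.ne (by rw [eq_inv_of_mul_eq_one_left h2, inv_eq_of_mul_eq_one_left h.tt'])
  have hρρ := h.four_gp.elem ρ hρV
  have hρt : ρ * t = t * ρ := by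
    have : jn t' (zpowers t) ≤ centralizer ({t} : Set G) :=
      sup_le (zpowers_le.mpr (mem_c h.cmm.symm)) (zpowers_le.mpr (mem_c rfl))
    exact comm_c (this hρV)
  have hρv : ρ * v = v * ρ := by
    have : jn t' (zpowers t) ≤ centralizer ({v} : Set G) :=
      sup_le (zpowers_le.mpr (mem_c hvt'.symm)) (zpowers_le.mpr (mem_c hvt.symm))
    exact comm_c (this hρV)
  have hmem : ∀ I' : Subgroup G, IsComp (centralizer ({y} : Set G) ⊓ centralizer ({v} : Set G)) I' → I' ≤ N →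
      ρ ∈ I' := by
    intro I' hI' hI'N
    refine mem_comp_field hN hvv hvN (by omega) R' hord hR' hK₀ hcard hI' hI'N hρN hρv hρρ ?_
    rw [hρX]
    exact hsub K₀ hK₀ X hlX
  have hρI := hmem I hI hIN
  -- `d`
  have hvx : v * x = x * v := by
    rcases hx with rfl | rfl
    · exact hvY _ hy
    · exact Commute.mul_right (hvY y hy : Commute v y) (hvt : Commute v t)
  obtain ⟨d, hd, hdt, hdv, hdK⟩ := T.exists_bad (order_two hvv hv1) hvt hvx hvK
  have hdt' : d * t = t * d := comm_c hdt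
  have hdx : d * x = x * d := comm_c (core_le _ hd)
  have hdy : d * y = y * d := by
    rcases hx with rfl | rfl
    · exact hdx
    · have h1 : d * y * t = y * d * t := by
        rw [mul_assoc, hdx, mul_assoc, ← hdt', ← mul_assoc]
      exact mul_right_cancel h1
  have hdN := h.mem_norm hN hMN hT hdy hdt'
  have hdI : d ∈ normalizer (I : Set G) := by
    rw [mem_normalizer_iff_cj]
    have h1 : IsComp (centralizer ({y} : Set G) ⊓ centralizer ({v} : Set G)) (cj d I) :=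
      isComp_cj_of_mem hI ⟨mem_c hdy, hdv⟩
    have h2 : cj d I ≤ N := by
      rw [← mem_normalizer_iff_cj.mp hdN]
      exact cj_mono hIN
    exact (eq_of_inv hI h1 hIT hρI (hmem _ h1 h2) hρρ hρ1).symm
  have hmI : d * ρ * d⁻¹ * ρ⁻¹ ∈ I := mul_mem (conj_mem hdI hρI) (inv_mem hρI)
  have hmt : d * ρ * d⁻¹ * ρ⁻¹ * t = t * (d * ρ * d⁻¹ * ρ⁻¹) := by
    have c1 : Commute d t := hdt'
    have c2 : Commute ρ t := hρt
    exact ((c1.mul_left c2).mul_left c1.inv_left).mul_left c2.inv_left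
  have hdKn : d ∈ normalizer (K : Set G) := h.norm hdt
  have hρKn : ρ ∈ normalizer (K : Set G) := h.norm (mem_c hρt)
  have htK : t ∈ normalizer (K : Set G) := hft.1
  have hyK : y ∈ normalizer (K : Set G) := h.norm (mem_c (h.ty hy))
  refine false_of_pump hP7 L T (h.ysq y hy) hyK (h.yV y hy) (h.y1 y hy hy1) hvv hv1 hvt hvx
    (hvY y hy) hvK hI (not_lab_of_L2T hIT) hmI hmt (h.norm (mem_c hmt)) fun hf => hdK ?_
  rw [← L.fixes_iff hdKn]
  have hxφ : L.φ x = L.φ y := by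
    rcases hx with rfl | rfl
    · rfl
    · rw [L.mul _ _ hyK htK, (L.fixes_iff htK).mpr hft, mul_one]
  have h3 := (RedAlt.three_fix T L).2 d ⟨hd, hdt⟩
  rw [hxφ] at h3
  refine eq_one_of_comm_ta (h.yV y hy) (h.y1 y hy hy1) h3 ?_
  have h4 := (L.fixes_iff (h.norm (mem_c hmt))).mpr hf
  rw [L.mul _ _ (mul_mem (mul_mem hdKn hρKn) (inv_mem hdKn)) (inv_mem hρKn), L.conj hdKn hρKn,
    L.inv hρKn, hρφ, mul_inv_eq_one, mul_inv_eq_iff_eq_mul] at h4
  exact h4

/-- **(6)-(8) of bb #12930** -/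
theorem Out.rank_of (h : Out M Y t t' K L) (hP7 : A7.Pump7 G)
    (big : ∃ (F : Type) (_ : Field F) (_ : Finite F), 11 ≤ Nat.card F ∧
      Nonempty (GH.L2Aut.Rep F (↥M ⧸ oddCore ↥M)))
    (tri : ∃ y ∈ Y, y ≠ 1 ∧ ∃ x, (x = y ∨ x = y * t) ∧ IsTriple x t K) : SectionalPRankLE 2 4 G :=
  h.rank (h.seven hP7 big tri)

end main

end Cfsg.Agent.UGT.L2Inner
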