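import Cfsg.Agent.UGT.L2Inner.P3Loc
import Cfsg.Agent.UGT.TMCMax

/-!
# PIECE 3: the subgroup `W(y)`

`IsW 𝒯 Wh y W`: `W = Wh (⟨y⟩ P)` for a four-group `P` of some `N` with `𝒯 y N`.  It is unique (`IsW.unique`),
normalized by `C_G(y)` (`IsW.cent`), compatible with conjugation, and the same for linked involutions
(`IsW.link`).
-/

set_option autoImplicit false
set_option linter.unusedSectionVars false
set_option linter.unusedVariables false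

open Cfsg Subgroup
open Cfsg.Agent.SignalizersComponents Cfsg.Agent.Lib
open Cfsg.Agent.SignalizersComponents.IntrinsicBasic
open Cfsg.Agent.SignalizersComponents.IntrinsicIntr
open Cfsg.Agent.Intrinsic.Basic Cfsg.Agent.Intrinsic.Cen Cfsg.Agent.Intrinsic.Diag
open Cfsg.Agent.McLLyComp.Act
open Cfsg.Agent.UGT.Triple Cfsg.Agent.UGT.TMCSyl
open Cfsg.Agent.UGT.TriBase (IsSyl exists_isSyl card_cj fixes_self' exists_central isPGroup_cj)
open scoped commutatorElement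

universe u

namespace Cfsg.Agent.UGT.L2Inner

variable {G : Type u} [Group G] [Finite G]
variable {𝒯 : G → Subgroup G → Prop} {Wh : Subgroup G → Subgroup G} {y t : G} {N P : Subgroup G}

/-- a subgroup covering `N / O(N)` contains a Sylow 2-subgroup of `N` -/
theorem isSyl_of_cover {M N S : Subgroup G} (hs : M ⊔ core N = N) (hS : IsSyl M S) : IsSyl N S := by
  have hMN : M ≤ N := by rw [← hs]; exact le_sup_left
  have hp : Fact (Nat.Prime 2) := ⟨Nat.prime_two⟩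
  refine ⟨hS.two, hS.le.trans hMN, fun R h1 h2 h3 => ?_⟩
  obtain ⟨k, hk⟩ := h1.exists_card_eq
  have h4 : 2 ^ k ∣ Nat.card N := hk ▸ card_dvd_of_le h2
  have h5 : Nat.card N ∣ Nat.card (core N) * Nat.card M := by
    have h6 := CoprimeBasic.card_sup_dvd (X := core N) (Y := M) (hMN.trans (le_normalizer_core N))
    rw [sup_comm, hs] at h6
    exact h6
  have h7 : (2 ^ k).Coprime (Nat.card (core N)) := by
    apply Nat.Coprime.pow_left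
    exact (coprime_card_core N).symm
  have h8 : 2 ^ k ∣ Nat.card M := h7.dvd_of_dvd_mul_left (h4.trans h5)
  have h9 := Nat.le_of_dvd Nat.card_pos (hS.dvd_card h8)
  exact (Subgroup.eq_of_le_of_card_ge h3 (by rw [hk]; exact h9)).symm

/-- conjugation by an element commuting with `y` -/
theorem cj_jn_of_comm {g y : G} (h : g * y = y * g) (V : Subgroup G) : cj g (jn y V) = jn y (cj g V) := by
  rw [cj_jn, h, mul_inv_cancel_right]

namespace Adm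

variable (F : PFam 𝒯) (A : Adm 𝒯 y t N P)
include F A

/-- **(5)** all four-groups of `N` give the same subgroup -/
theorem eq_of_four (hW : WFun 𝒯 Wh) {V : Subgroup G} (hV : Four V) (hVN : V ≤ N) :
    Wh (jn y V) = Wh (jn y P) := by
  obtain ⟨S, hS, hPS⟩ := exists_isSyl (E := cen N t) A.four.elem.isPGroup A.le
  have hSN := isSyl_of_cover (A.sup F) hS
  obtain ⟨n, hn, hle⟩ := hSN.conj hV.elem.isPGroup hVN
  have hV' : cj n⁻¹ V ≤ S := by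
    have := cj_mono (g := n⁻¹) hle
    rwa [cj_inv_cj] at this
  have hV4 : Four (cj n⁻¹ V) := hV.cj _
  have hSb : S ≠ ⊥ := by
    rintro rfl
    obtain ⟨a, haP, ha1, -⟩ := A.four.exists_ne 1
    exact ha1 (mem_bot.mp (hPS haP))
  obtain ⟨z, hzS, hz2, hzc⟩ := exists_central hS.two le_rfl le_normalizer hSb
  have hzz := sq_of_order hz2
  have hz1 := ne_one_of_order hz2
  have hzN := hSN.le hzS
  have hzP : z ∈ P := F.mem_of_comm A.fam A.four (A.leN F) hzN hzz fun p hp => hzc p (hPS hp)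
  have hzV : z ∈ cj n⁻¹ V :=
    F.mem_of_comm A.fam hV4 (hV'.trans hSN.le) hzN hzz fun p hp => hzc p (hV' hp)
  have A' : Adm 𝒯 y t N (cj n⁻¹ V) :=
    ⟨A.fam, A.sq, A.ne, A.ne', A.comm, A.fix, hV4, hV'.trans hS.le⟩
  have e1 : Wh (jn y P) = Wh (jn z (jn t (zpowers y))) :=
    hW.eq A (A.y_le F) (A.v_le F hzP) (A.card_y F) (A.card_v F hzP hz1)
  have e2 : Wh (jn y (cj n⁻¹ V)) = Wh (jn z (jn t (zpowers y))) :=
    hW.eq A' (A'.y_le F) (A'.v_le F hzV) (A'.card_y F) (A'.card_v F hzV hz1)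
  have hny : n * y = y * n := F.comm A.fam hn
  have e3 : Wh (jn y V) = cj n (Wh (jn y (cj n⁻¹ V))) := by
    rw [← hW.cj, cj_jn_of_comm hny, cj_cj_inv]
  rw [e3, e2, ← e1]
  exact mem_normalizer_iff_cj.mp (A.le_norm F hW hn)

end Adm

/-! ### lifting -/

theorem comm_core_sup {X R : Subgroup G} {u b : G} (huX : u ∈ X) (hbX : b ∈ X) (hRX : R ≤ X)
    (hub : ⁅u, b⁆ ∈ core X) (hRb : ∀ r ∈ R, ⁅r, b⁆ ∈ core X) : ∀ r ∈ zpowers u ⊔ R, ⁅r, b⁆ ∈ core X := by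
  obtain ⟨Z, hZ⟩ : ∃ Z, Z = ((centralizer ({(QuotientGroup.mk' (oddCore ↥X))
      ⟨b, hbX⟩} : Set (↥X ⧸ oddCore ↥X))).comap (QuotientGroup.mk' (oddCore ↥X))).map
      X.subtype := ⟨_, rfl⟩
  have hmem : ∀ x (hx : x ∈ X), ⁅x, b⁆ ∈ core X → x ∈ Z := by
    intro x hx h
    rw [hZ]
    refine ⟨⟨x, hx⟩, ?_, rfl⟩
    rw [SetLike.mem_coe, mem_comap, mem_centralizer_singleton_iff]
    exact (commutator_mem_core_iff hx hbX).mp h
  have hmem' : ∀ x ∈ Z, ⁅x, b⁆ ∈ core X := by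
    intro x hx
    rw [hZ] at hx
    obtain ⟨⟨z, hz⟩, h1, rfl⟩ := hx
    rw [SetLike.mem_coe, mem_comap, mem_centralizer_singleton_iff] at h1
    exact (commutator_mem_core_iff hz hbX).mpr h1
  have hle : zpowers u ⊔ R ≤ Z := by
    refine sup_le ?_ fun r hr => hmem r (hRX hr) (hRb r hr)
    rw [zpowers_le]
    exact hmem u huX hub
  exact fun r hr => hmem' r (hle hr)

/-- lifting of an involution modulo `O(X)` commuting with a 2-group -/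
theorem exists_lift_inv {X P : Subgroup G} (hPX : P ≤ X) (hP : IsPGroup 2 P)
    {u₀ : G} (huX : u₀ ∈ X) (h2 : u₀ * u₀ ∈ core X) (hc : ∀ p ∈ P, ⁅p, u₀⁆ ∈ core X) :
    ∃ w ∈ X, w * w = 1 ∧ u₀⁻¹ * w ∈ core X ∧ ∀ p ∈ P, p * w = w * p := by
  have hp2 : Fact (Nat.Prime 2) := ⟨Nat.prime_two⟩
  have hP' : IsPGroup 2 (P.subgroupOf X) := hP.comap_of_injective _ X.subtype_injective
  have hNp' : ¬ 2 ∣ Nat.card (oddCore ↥X) := by
    have := Cores.pPrimeCore_coprime (G := ↥X) 2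
    exact (hp2.out.coprime_iff_not_dvd).mp this.symm
  obtain ⟨g, hg1, hg2⟩ := CoreOfCentralizer.exists_centralizing_of_quotient (P.subgroupOf X) hP'
    (oddCore ↥X) hNp' (QuotientGroup.mk' (oddCore ↥X) ⟨u₀, huX⟩) (by
      rintro ⟨p, hpX⟩ hp
      exact (commutator_mem_core_iff hpX huX).mp (hc p hp))
  have hg3 : u₀⁻¹ * (g : G) ∈ core X := by
    have : (QuotientGroup.mk' (oddCore ↥X)) ⟨u₀, huX⟩ = (QuotientGroup.mk' (oddCore ↥X)) ⟨g, g.2⟩ :=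
      hg2.symm
    exact mk_eq_mk_iff.mp this
  have hgg : (g : G) ^ 2 ^ 1 ∈ core X := by
    have h1 : (QuotientGroup.mk' (oddCore ↥X)) (g ^ 2 ^ 1) = 1 := by
      rw [map_pow, hg2, ← map_pow]
      refine (mem_relCore_iff (pow_mem huX _)).mp ?_
      rw [pow_one, pow_two]
      exact h2
    exact (mem_relCore_iff (pow_mem g.2 _)).mpr h1
  obtain ⟨k, hk1, hk2⟩ := Cfsg.Agent.Intrinsic.Lifting.exists_two_part (odd_card_core X) hgg
  have h4 : u₀⁻¹ * (g : G) ^ k ∈ core X := by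
    have : u₀⁻¹ * (g : G) ^ k = (u₀⁻¹ * g) * ((g : G)⁻¹ * (g : G) ^ k) := by group
    rw [this]; exact mul_mem hg3 hk2
  refine ⟨(g : G) ^ k, pow_mem g.2 _, ?_, h4, ?_⟩
  · rw [pow_one] at hk1
    rw [← pow_two]; exact hk1
  intro p hp
  have h5 : p * (g : G) = g * p := congrArg Subtype.val (hg1 ⟨p, hPX hp⟩ hp)
  exact (Commute.pow_right h5 k).eq

/-- lifting of a four-group of `X / O(X)` centralized by the 2-group `R` -/
theorem exists_four_liftX {X R : Subgroup G} (hR : IsPGroup 2 R) (hRX : R ≤ X) {a b : G} (ha : a ∈ X)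
    (hb : b ∈ X) (haa : a * a ∈ core X) (hbb : b * b ∈ core X) (hab : ⁅a, b⁆ ∈ core X)
    (ha1 : a ∉ core X) (hb1 : b ∉ core X) (hba : a⁻¹ * b ∉ core X)
    (haR : ∀ r ∈ R, ⁅r, a⁆ ∈ core X) (hbR : ∀ r ∈ R, ⁅r, b⁆ ∈ core X) :
    ∃ V : Subgroup G, Four V ∧ V ≤ X ∧ (∀ v ∈ V, ∀ r ∈ R, r * v = v * r) ∧
      ∃ a' ∈ V, ∃ b' ∈ V, a' ≠ 1 ∧ b' ≠ 1 ∧ b' ≠ a' ∧ a⁻¹ * a' ∈ core X ∧ b⁻¹ * b' ∈ core X := by
  obtain ⟨u, huN, huu, huc, hur⟩ := exists_lift_inv hRX hR ha haa haR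
  -- `⟨u⟩ R`
  have huR : ∀ r ∈ R, r * u = u * r := hur
  obtain ⟨R₁, hR₁⟩ : ∃ R₁, R₁ = zpowers u ⊔ R := ⟨_, rfl⟩
  have hRn : R ≤ normalizer (zpowers u : Set G) := by
    intro r hr
    rw [mem_normalizer_iff_cj, cj_zpowers, huR r hr, mul_inv_cancel_right]
  have hR₁2 : IsPGroup 2 R₁ := by
    rw [hR₁]
    have h1 : IsPGroup 2 (zpowers u) := by
      intro x
      rcases mem_zpowers_sq huu x.2 with hx | hx
      · exact ⟨0, Subtype.ext (by simpa using hx)⟩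
      · exact ⟨1, Subtype.ext (by rw [pow_one, pow_two]; change (x : G) * x = 1; rw [hx, huu])⟩
    exact h1.to_sup_of_normal_left' hR hRn
  have hR₁X : R₁ ≤ X := by
    rw [hR₁]
    exact sup_le (by rw [zpowers_le]; exact huN) hRX
  have hbR₁ : ∀ r ∈ R₁, ⁅r, b⁆ ∈ core X := by
    rw [hR₁]
    refine comm_core_sup huN hb hRX ?_ hbR
    have h1 : ⁅u, b⁆ = ⁅a * (a⁻¹ * u), b⁆ := by rw [mul_inv_cancel_left]
    have h2 : ⁅a * (a⁻¹ * u), b⁆ = a * ⁅a⁻¹ * u, b⁆ * a⁻¹ * ⁅a, b⁆ := by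
      simp only [commutatorElement_def]; group
    rw [h1, h2]
    refine mul_mem ?_ hab
    refine conj_mem_core (le_normalizer ha) ?_
    rw [commutatorElement_def, mul_assoc, mul_assoc]
    refine mul_mem huc ?_
    rw [← mul_assoc]
    exact conj_mem_core (le_normalizer hb) (inv_mem huc)
  obtain ⟨w, hwN, hww, hwc, hwr⟩ := exists_lift_inv hR₁X hR₁2 hb hbb hbR₁
  have huR₁ : u ∈ R₁ := by rw [hR₁]; exact mem_sup_left (mem_zpowers u)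
  have hRR₁ : R ≤ R₁ := by rw [hR₁]; exact le_sup_right
  have huw : u * w = w * u := hwr u huR₁
  have hu1 : u ≠ 1 := by
    rintro rfl
    apply ha1
    simpa using huc
  have hw1 : w ≠ 1 := by
    rintro rfl
    apply hb1
    simpa using hwc
  have hwu : w ≠ u := by
    rintro rfl
    apply hba
    have h1 : a⁻¹ * b = (a⁻¹ * w) * (b⁻¹ * w)⁻¹ := by group
    rw [h1]
    exact mul_mem huc (inv_mem hwc)
  have hV := four_of huu hww huw hu1 hw1 hwu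
  have huV : u ∈ jn w (zpowers u) := le_jn _ _ (mem_zpowers u)
  have hwV : w ∈ jn w (zpowers u) := self_mem_jn _ _
  refine ⟨jn w (zpowers u), hV, jn_le hwN (by rw [zpowers_le]; exact huN), ?_, u, huV, w, hwV, hu1, hw1,
    hwu, huc, hwc⟩
  intro v hv r hr
  have e1 := huR r hr
  have e2 := hwr r (hRR₁ hr)
  rcases hV.mem_cases huV hwV hu1 hw1 hwu hv with rfl | rfl | rfl | rfl
  · rw [one_mul, mul_one]
  · exact e1
  · exact e2
  · rw [← mul_assoc, e1, mul_assoc, e2, mul_assoc]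

/-- lifting of a four-group of `N / O(N)`, `N` a 2-component of `X`, centralized by the 2-group `R ≤ X` -/
theorem exists_four_lift {X N R : Subgroup G} (hN : IsComp X N) (hR : IsPGroup 2 R) (hRX : R ≤ X)
    {a b : G} (ha : a ∈ N) (hb : b ∈ N) (haa : a * a ∈ core N)
    (hbb : b * b ∈ core N) (hab : ⁅a, b⁆ ∈ core N) (ha1 : a ∉ core N) (hb1 : b ∉ core N)
    (hba : a⁻¹ * b ∉ core N)
    (haR : ∀ r ∈ R, ⁅r, a⁆ ∈ core X)
    (hbR : ∀ r ∈ R, ⁅r, b⁆ ∈ core X) :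
    ∃ V : Subgroup G, Four V ∧ V ≤ N ∧ (∀ v ∈ V, ∀ r ∈ R, r * v = v * r) ∧
      ∃ a' ∈ V, ∃ b' ∈ V, a' ≠ 1 ∧ b' ≠ 1 ∧ b' ≠ a' ∧ a⁻¹ * a' ∈ core N ∧ b⁻¹ * b' ∈ core N := by
  have hnc : ∀ {c : G}, c ∈ N → c ∉ core N → c ∉ core X := by
    intro c hc h h'
    apply h
    rw [hN.core_eq]
    exact ⟨hc, h'⟩
  obtain ⟨V, hV, hVX, hVR, a', ha', b', hb', h1, h2, h3, h4, h5⟩ := exists_four_liftX hR hRX (hN.le ha)
    (hN.le hb) (hN.core_le_core haa) (hN.core_le_core hbb) (hN.core_le_core hab) (hnc ha ha1)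
    (hnc hb hb1) (hnc (N.mul_mem (N.inv_mem ha) hb) hba) haR hbR
  have ha'N : a' ∈ N := hN.mem_of_two ha h4 (n := 1) (by rw [pow_one, pow_two]; exact hV.elem a' ha')
  have hb'N : b' ∈ N := hN.mem_of_two hb h5 (n := 1) (by rw [pow_one, pow_two]; exact hV.elem b' hb')
  refine ⟨V, hV, ?_, hVR, a', ha', b', hb', h1, h2, h3, ?_, ?_⟩
  · intro v hv
    rcases hV.mem_cases ha' hb' h1 h2 h3 hv with rfl | rfl | rfl | rfl
    · exact N.one_mem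
    · exact ha'N
    · exact hb'N
    · exact N.mul_mem ha'N hb'N
  · rw [hN.core_eq]
    exact ⟨N.mul_mem (N.inv_mem ha) ha'N, h4⟩
  · rw [hN.core_eq]
    exact ⟨N.mul_mem (N.inv_mem hb) hb'N, h5⟩

/-- the same in terms of `N / O(N)` -/
theorem exists_four_lift' {X N R : Subgroup G} (hN : IsComp X N) (hR : IsPGroup 2 R)
    (hRX : R ≤ X) {a b : ↥N ⧸ oddCore ↥N} (haa : a * a = 1) (hbb : b * b = 1)
    (hab : a * b = b * a) (ha1 : a ≠ 1) (hb1 : b ≠ 1) (hba : b ≠ a)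
    (hact : ∀ r ∈ R, ∃ hr : r ∈ normalizer (N : Set G), act N ⟨r, hr⟩ a = a ∧ act N ⟨r, hr⟩ b = b) :
    ∃ V : Subgroup G, Four V ∧ V ≤ N ∧ (∀ v ∈ V, ∀ r ∈ R, r * v = v * r) ∧
      ∃ (a' : G) (ha' : a' ∈ N) (b' : G) (hb' : b' ∈ N), a' ∈ V ∧ b' ∈ V ∧ a' ≠ 1 ∧ b' ≠ 1 ∧ b' ≠ a' ∧
        (QuotientGroup.mk ⟨a', ha'⟩ : ↥N ⧸ oddCore ↥N) = a ∧
        (QuotientGroup.mk ⟨b', hb'⟩ : ↥N ⧸ oddCore ↥N) = b := by
  obtain ⟨⟨a₀, ha₀⟩, rfl⟩ := QuotientGroup.mk_surjective a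
  obtain ⟨⟨b₀, hb₀⟩, rfl⟩ := QuotientGroup.mk_surjective b
  have e1 : a₀ * a₀ ∈ core N := (mk_eq_one_iff (mul_mem ha₀ ha₀)).mp haa
  have e2 : b₀ * b₀ ∈ core N := (mk_eq_one_iff (mul_mem hb₀ hb₀)).mp hbb
  have e3 : ⁅a₀, b₀⁆ ∈ core N := by
    have h1 : (QuotientGroup.mk ⟨a₀ * b₀, mul_mem ha₀ hb₀⟩ : ↥N ⧸ oddCore ↥N) =
      QuotientGroup.mk ⟨b₀ * a₀, mul_mem hb₀ ha₀⟩ := hab
    have h2 := (mk_eq_iff _ _).mp h1.symm
    have h3 : ⁅a₀, b₀⁆ = (b₀ * a₀) * ((b₀ * a₀)⁻¹ * (a₀ * b₀)) * (b₀ * a₀)⁻¹ := by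
      rw [commutatorElement_def]; group
    rw [h3]
    exact conj_mem_core (le_normalizer (mul_mem hb₀ ha₀)) h2
  have e4 : a₀ ∉ core N := fun h => ha1 ((mk_eq_one_iff ha₀).mpr h)
  have e5 : b₀ ∉ core N := fun h => hb1 ((mk_eq_one_iff hb₀).mpr h)
  have e6 : a₀⁻¹ * b₀ ∉ core N := fun h => hba ((mk_eq_iff ha₀ hb₀).mpr h).symm
  have key : ∀ r ∈ R, ∀ c (hc : c ∈ N) (hr : r ∈ normalizer (N : Set G)),
      act N ⟨r, hr⟩ (QuotientGroup.mk ⟨c, hc⟩) = QuotientGroup.mk ⟨c, hc⟩ →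
      ⁅r, c⁆ ∈ core X := by
    intro r hr c hc hrN hact
    rw [act_mk hrN hc] at hact
    have h1 := (mk_eq_iff _ _).mp hact.symm
    apply hN.core_le_core
    have h2 : ⁅r, c⁆ = c * (c⁻¹ * (r * c * r⁻¹)) * c⁻¹ := by
      rw [commutatorElement_def]; group
    rw [h2]
    exact conj_mem_core (le_normalizer hc) h1
  obtain ⟨V, h1, h2, h3, a', ha', b', hb', h4, h5, h6, h7, h8⟩ :=
    exists_four_lift hN hR hRX ha₀ hb₀ e1 e2 e3 e4 e5 e6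
      (fun r hr => by obtain ⟨hr', h9, -⟩ := hact r hr; exact key r hr a₀ ha₀ hr' h9)
      (fun r hr => by obtain ⟨hr', -, h9⟩ := hact r hr; exact key r hr b₀ hb₀ hr' h9)
  exact ⟨V, h1, h2, h3, a', h2 ha', b', h2 hb', ha', hb', h4, h5, h6, ((mk_eq_iff _ _).mpr h7).symm,
    ((mk_eq_iff _ _).mpr h8).symm⟩

theorem act_of_fixes {K : Subgroup G} {r : G} (hr : Fixes r K) (a : ↥K ⧸ oddCore ↥K) :
    act K ⟨r, hr.1⟩ a = a := by
  rw [(act_eq_one_iff hr.1).mpr hr]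
  rfl

theorem isPGroup_zpowers {x : G} (hx : x * x = 1) : IsPGroup 2 (zpowers x) := by
  intro z
  rcases mem_zpowers_sq hx z.2 with hz | hz
  · exact ⟨0, Subtype.ext (by simpa using hz)⟩
  · exact ⟨1, Subtype.ext (by rw [pow_one, pow_two]; change (z : G) * z = 1; rw [hz, hx])⟩

/-- admissible data exist for every linked involution `t ≠ y` -/
theorem PFam.exists_adm_of (F : PFam 𝒯) (h : 𝒯 y N) (htt : t * t = 1) (ht1 : t ≠ 1) (hty : t ≠ y)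
    (hc : t * y = y * t) (hf : Fixes t N) : ∃ P, Adm 𝒯 y t N P := by
  obtain ⟨γ, hγ, a, b, haa, hbb, hab, ha1, hb1, hba, -, -⟩ :=
    (F.lf h).typ 1 1 (one_mul 1) (one_mul 1) rfl
  obtain ⟨V, hV, hVN, hVR, -⟩ := exists_four_lift' (F.comp h) (R := zpowers t) (isPGroup_zpowers htt)
    (by rw [zpowers_le]; exact mem_c hc) haa hbb hab ha1 hb1 hba (by
      intro r hr
      have hrf : Fixes r N := by
        rcases mem_zpowers_sq htt hr with rfl | rfl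
        · exact fixes_one N
        · exact hf
      exact ⟨hrf.1, act_of_fixes hrf _, act_of_fixes hrf _⟩)
  refine ⟨V, h, htt, ht1, hty, hc, hf, hV, fun v hv => ?_⟩
  exact mem_cen_of_sq (hVN hv) (hVR v hv t (mem_zpowers t)).symm (hV.elem v hv)

theorem PFam.exists_adm (F : PFam 𝒯) (h : 𝒯 y N) : ∃ t P, Adm 𝒯 y t N P := by
  obtain ⟨t, h1, h2, h3, h4, h5⟩ := F.two h
  obtain ⟨P, hP⟩ := F.exists_adm_of h h1 h2 h3 h4 h5
  exact ⟨t, P, hP⟩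

/-- **(5')** all four-groups of `N` give the same subgroup -/
theorem PFam.eq_of_four (F : PFam 𝒯) (hW : WFun 𝒯 Wh) (h : 𝒯 y N) {V V' : Subgroup G} (hV : Four V)
    (hVN : V ≤ N) (hV' : Four V') (hVN' : V' ≤ N) : Wh (jn y V) = Wh (jn y V') := by
  obtain ⟨t, P, A⟩ := F.exists_adm h
  rw [A.eq_of_four F hW hV hVN, A.eq_of_four F hW hV' hVN']

theorem PFam.le_norm (F : PFam 𝒯) (hW : WFun 𝒯 Wh) (h : 𝒯 y N) (hP : Four P) (hPN : P ≤ N) :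
    N ≤ normalizer (Wh (jn y P) : Set G) := by
  obtain ⟨t, V, A⟩ := F.exists_adm h
  rw [F.eq_of_four hW h hP hPN A.four (A.leN F)]
  exact A.le_norm F hW

theorem PFam.core_le_norm (F : PFam 𝒯) (hW : WFun 𝒯 Wh) (h : 𝒯 y N) (hP : Four P) (hPN : P ≤ N) :
    core (centralizer ({y} : Set G)) ≤ normalizer (Wh (jn y P) : Set G) := by
  obtain ⟨t, V, A⟩ := F.exists_adm h
  rw [F.eq_of_four hW h hP hPN A.four (A.leN F)]
  exact A.core_le_norm F hW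

/-- **(7)** `Wh (⟨y⟩ P)` does not depend on `N` -/
theorem PFam.eq_of_two (F : PFam 𝒯) (hW : WFun 𝒯 Wh) {N₁ N₂ P₁ P₂ : Subgroup G} (h₁ : 𝒯 y N₁)
    (h₂ : 𝒯 y N₂) (hP₁ : Four P₁) (hPN₁ : P₁ ≤ N₁) (hP₂ : Four P₂) (hPN₂ : P₂ ≤ N₂) :
    Wh (jn y P₁) = Wh (jn y P₂) := by
  rcases eq_or_ne N₁ N₂ with rfl | hne
  · exact F.eq_of_four hW h₁ hP₁ hPN₁ hP₂ hPN₂
  have hN₁ := F.comp h₁
  have hN₂ := F.comp h₂
  have hyy := F.sq h₁
  have hy1 := F.ne_one h₁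
  -- a four-group of `N₂` commuting with `P₁`
  obtain ⟨γ, hγ, a, b, haa, hbb, hab, ha1, hb1, hba, -, -⟩ :=
    (F.lf h₂).typ 1 1 (one_mul 1) (one_mul 1) rfl
  have hfix : ∀ r ∈ P₁, Fixes r N₂ := fun r hr => hN₂.fixes_of_mem hN₁ hne.symm (hPN₁ hr)
  obtain ⟨V, hV, hVN, hVR, -⟩ := exists_four_lift' hN₂ (R := P₁) hP₁.elem.isPGroup
    (hPN₁.trans hN₁.le) haa hbb hab ha1 hb1 hba
    (fun r hr => ⟨(hfix r hr).1, act_of_fixes (hfix r hr) _, act_of_fixes (hfix r hr) _⟩)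
  rw [F.eq_of_four hW h₂ hP₂ hPN₂ hV hVN]
  obtain ⟨p, hp, hp1, -⟩ := hP₁.exists_ne 1
  obtain ⟨v, hv, hv1, -⟩ := hV.exists_ne 1
  have hpp := hP₁.elem p hp
  have hvv := hV.elem v hv
  have hvf : Fixes v N₁ := hN₁.fixes_of_mem hN₂ hne (hVN hv)
  have A₁ : Adm 𝒯 y v N₁ P₁ := by
    refine ⟨h₁, hvv, hv1, ?_, F.comm h₂ (hVN hv), hvf, hP₁, fun x hx => ?_⟩
    · exact F.ne_of_fix h₂ (hVN hv) hv1 hvv (F.fixes_self h₂)
    · exact mem_cen_of_sq (hPN₁ hx) (hVR v hv x hx) (hP₁.elem x hx)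
  have A₂ : Adm 𝒯 y p N₂ V := by
    refine ⟨h₂, hpp, hp1, ?_, F.comm h₁ (hPN₁ hp), hfix p hp, hV, fun x hx => ?_⟩
    · exact F.ne_of_fix h₁ (hPN₁ hp) hp1 hpp (F.fixes_self h₁)
    · exact mem_cen_of_sq (hVN hx) (hVR x hx p hp).symm (hV.elem x hx)
  have e1 : Wh (jn y P₁) = Wh (jn p (jn v (zpowers y))) :=
    hW.eq A₁ (A₁.y_le F) (A₁.v_le F hp) (A₁.card_y F) (A₁.card_v F hp hp1)
  have e2 : Wh (jn y V) = Wh (jn v (jn p (zpowers y))) :=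
    hW.eq A₂ (A₂.y_le F) (A₂.v_le F hv) (A₂.card_y F) (A₂.card_v F hv hv1)
  rw [e1, e2]
  congr 1
  unfold jn
  rw [sup_left_comm]

/-! ### the subgroup `W(y)` -/

/-- `W = W(y)` -/
def IsW (𝒯 : G → Subgroup G → Prop) (Wh : Subgroup G → Subgroup G) (y : G) (W : Subgroup G) : Prop :=
  ∃ N P : Subgroup G, 𝒯 y N ∧ Four P ∧ P ≤ N ∧ Wh (jn y P) = W

variable {W W' : Subgroup G}

theorem PFam.isW (F : PFam 𝒯) (h : 𝒯 y N) : ∃ W, IsW 𝒯 Wh y W := by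
  obtain ⟨t, P, A⟩ := F.exists_adm h
  exact ⟨_, N, P, h, A.four, A.leN F, rfl⟩

theorem IsW.unique (F : PFam 𝒯) (hW : WFun 𝒯 Wh) (h : IsW 𝒯 Wh y W) (h' : IsW 𝒯 Wh y W') : W = W' := by
  obtain ⟨N, P, h1, h2, h3, rfl⟩ := h
  obtain ⟨N', P', h1', h2', h3', rfl⟩ := h'
  exact F.eq_of_two hW h1 h1' h2 h3 h2' h3'

theorem IsW.eq (F : PFam 𝒯) (hW : WFun 𝒯 Wh) (h : IsW 𝒯 Wh y W) (hN : 𝒯 y N) (hP : Four P)
    (hPN : P ≤ N) : Wh (jn y P) = W := IsW.unique F hW ⟨N, P, hN, hP, hPN, rfl⟩ h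

theorem IsW.conj (F : PFam 𝒯) (hW : WFun 𝒯 Wh) (h : IsW 𝒯 Wh y W) (g : G) :
    IsW 𝒯 Wh (g * y * g⁻¹) (cj g W) := by
  obtain ⟨N, P, h1, h2, h3, rfl⟩ := h
  refine ⟨cj g N, cj g P, F.conj h1 g, h2.cj g, cj_mono h3, ?_⟩
  rw [← cj_jn, hW.cj]

/-- **(6)** `C_G(y) ≤ N(W(y))` -/
theorem IsW.cent (F : PFam 𝒯) (hW : WFun 𝒯 Wh) (h : IsW 𝒯 Wh y W) {g : G} (hg : g * y = y * g) :
    g ∈ normalizer (W : Set G) := by
  have h1 := h.conj F hW g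
  rw [hg, mul_inv_cancel_right] at h1
  rw [mem_normalizer_iff_cj]
  exact h1.unique F hW h

/-- **(8)** linked involutions have the same `W` -/
theorem IsW.link (F : PFam 𝒯) (hW : WFun 𝒯 Wh) (h : IsW 𝒯 Wh y W) (hN : 𝒯 y N) (htt : t * t = 1)
    (ht1 : t ≠ 1) (hc : t * y = y * t) (hf : Fixes t N) : IsW 𝒯 Wh t W := by
  rcases eq_or_ne t y with rfl | hty
  · exact h
  obtain ⟨P, A⟩ := F.exists_adm_of hN htt ht1 hty hc hf
  obtain ⟨N', hN', hs⟩ := F.link hN htt ht1 hc hf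
  have hle : cen N t ≤ N' := by rw [← hs]; exact le_sup_left
  refine ⟨N', P, hN', A.four, A.le.trans hle, ?_⟩
  rw [← h.eq F hW hN A.four (A.leN F)]
  exact hW.eq A (le_jn _ _) (A.y_le F) (A.card_t F) (A.card_y F)

theorem PFam.order (F : PFam 𝒯) (h : 𝒯 y N) : orderOf y = 2 := F.inv h

end Cfsg.Agent.UGT.L2Inner
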