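import Cfsg.Agent.UGT.L2Inner.WBAut
import Cfsg.Agent.UGT.Res.Base
import Cfsg.Agent.UGT.SL.GamMod

/-!
# UGT, inner L2: triples

* `mem_PGL`: the involution of a triple `(x, a, L)`, `L / O(L) ≅ PSL(2,F)`, acts on `L / O(L)` by `PGL(2,F)`.
-/

set_option autoImplicit false

open Cfsg Subgroup
open Cfsg.Agent.SignalizersComponents Cfsg.Agent.Lib
open Cfsg.Agent.SignalizersComponents.IntrinsicBasic
open Cfsg.Agent.SignalizersComponents.PLayerAut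
open Cfsg.Agent.Intrinsic.Basic Cfsg.Agent.Intrinsic.Cen Cfsg.Agent.Intrinsic.Diag
open Cfsg.Agent.McLLyComp.Act
open Cfsg.Agent.UGT.Triple Cfsg.Agent.UGT.TriBase
open scoped commutatorElement

namespace Cfsg.Agent.UGT.L2Inner.WBTriple

variable {G : Type*} [Group G]

/-- fixed points of an involution on `L / O(L)` lift -/
theorem exists_lift [Finite G] {L : Subgroup G} {x : G} (hxL : x ∈ normalizer (L : Set G)) (hx : x * x = 1)
    {y : ↥L ⧸ oddCore ↥L} (hy : act L ⟨x, hxL⟩ y = y) :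
    ∃ (l : G) (hl : l ∈ L), l * x = x * l ∧ QuotientGroup.mk ⟨l, hl⟩ = y := by
  obtain ⟨⟨l, hl⟩, rfl⟩ := QuotientGroup.mk_surjective y
  rw [act_mk hxL hl, mk_eq_iff (conj_mem hxL hl) hl] at hy
  have hxi : x⁻¹ = x := inv_eq_of_mul_eq_one_left hx
  obtain ⟨w, hw, hc⟩ := SL.exists_fix_lift (W := core L) (odd_card_core L) (a := x) (x := l) hx (by
    have h1 : (x * l * x⁻¹)⁻¹ * l = x * (l⁻¹ * x * l) := by
      rw [mul_inv_rev, mul_inv_rev, inv_inv, hxi]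
      group
    rwa [h1] at hy)
  refine ⟨l * w, L.mul_mem hl (core_le L hw), hc, ?_⟩
  rw [mk_eq_iff (L.mul_mem hl (core_le L hw)) hl]
  have h1 : (l * w)⁻¹ * l = w⁻¹ := by group
  rw [h1]
  exact inv_mem hw

variable [Finite G]

/-- **the involution of a triple acts by `PGL(2,F)`** -/
theorem mem_PGL {x a : G} {L : Subgroup G} (T : IsTriple x a L) {F : Type*} [Field F] [Finite F]
    (R : GH.L2Aut.Rep F (↥L ⧸ oddCore ↥L)) : act L ⟨x, T.x_mem⟩ ∈ R.PGL := by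
  by_contra hcon
  obtain ⟨d, hd, hda, hf⟩ := T.bad
  have hx2 := sq_of_order T.invx
  have hdL := T.mem_normalizer_of_core hd hda
  have hdC := inf_le_core hd hda
  obtain ⟨D, hD⟩ : ∃ D, D = core (centralizer ({a} : Set G) ⊓ centralizer ({x} : Set G)) := ⟨_, rfl⟩
  rw [← hD] at hdC
  have hDx : ∀ y ∈ D, y * x = x * y := by
    intro y hy
    rw [hD] at hy
    exact comm_c (core_le _ hy).2
  have hDn : ∀ l ∈ L, l * x = x * l → ∀ y ∈ D, l * y * l⁻¹ ∈ D := by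
    intro l hl hlx y hy
    rw [hD] at hy ⊢
    exact conj_core ⟨T.comp.le hl, mem_c hlx⟩ hy
  have hlift := fun {y} (hy : act L ⟨x, T.x_mem⟩ y = y) => exists_lift T.x_mem hx2 hy
  apply hf
  rw [← act_eq_one_iff hdL]
  refine WBAut.field_bal R (φ := act L ⟨x, T.x_mem⟩) (β := act L ⟨d, hdL⟩)
    (N := ((D ⊓ L).subgroupOf L).map (QuotientGroup.mk' (oddCore ↥L))) ?_ ?_ ?_ ?_ ?_ ?_ ?_
  · rw [← map_mul]
    have h1 : (⟨x, T.x_mem⟩ : ↥(normalizer (L : Set G))) * ⟨x, T.x_mem⟩ = 1 := Subtype.ext hx2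
    rw [h1, map_one]
  · intro h
    exact hcon (R.mem_PGL_iff_fld.mpr h)
  · refine Odd.of_dvd_nat (odd_card_core (centralizer ({a} : Set G) ⊓ centralizer ({x} : Set G))) ?_
    refine (card_map_dvd _ _).trans ?_
    rw [Nat.card_congr (subgroupOfEquivOfLe (inf_le_right : D ⊓ L ≤ L)).toEquiv, ← hD]
    exact card_dvd_of_le inf_le_left
  · rintro _ ⟨⟨l, hl⟩, hlD, rfl⟩
    rw [SetLike.mem_coe, mem_subgroupOf] at hlD
    change act L ⟨x, T.x_mem⟩ (QuotientGroup.mk ⟨l, hl⟩) = QuotientGroup.mk ⟨l, hl⟩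
    rw [act_mk T.x_mem hl, mk_eq_iff (conj_mem T.x_mem hl) hl, ← hDx l hlD.1,
      mul_inv_cancel_right, inv_mul_cancel]
    exact one_mem _
  · rintro y hy _ ⟨⟨n, hn⟩, hnD, rfl⟩
    rw [SetLike.mem_coe, mem_subgroupOf] at hnD
    obtain ⟨l, hl, hlx, rfl⟩ := hlift hy
    refine ⟨⟨l, hl⟩ * ⟨n, hn⟩ * ⟨l, hl⟩⁻¹, ?_, rfl⟩
    rw [SetLike.mem_coe, mem_subgroupOf]
    exact ⟨hDn l hl hlx n hnD.1, L.mul_mem (L.mul_mem hl hn) (L.inv_mem hl)⟩
  · have h1 : orderOf (act L ⟨d, hdL⟩) ∣ orderOf d := by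
      have h2 : orderOf (⟨d, hdL⟩ : ↥(normalizer (L : Set G))) = orderOf d := Subgroup.orderOf_mk _ _
      rw [← h2]
      exact orderOf_map_dvd _ _
    refine Odd.of_dvd_nat (odd_card_core (centralizer ({x} : Set G))) (h1.trans ?_)
    rw [← Subgroup.orderOf_mk d hd]
    exact orderOf_dvd_natCard _
  · intro y hy
    obtain ⟨l, hl, hlx, rfl⟩ := hlift hy
    rw [act_mk hdL hl]
    refine ⟨⟨d * l * d⁻¹, conj_mem hdL hl⟩ * ⟨l, hl⟩⁻¹, ?_, rfl⟩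
    rw [SetLike.mem_coe, mem_subgroupOf]
    refine ⟨?_, L.mul_mem (conj_mem hdL hl) (L.inv_mem hl)⟩
    have h2 := hDn l hl hlx d⁻¹ (inv_mem hdC)
    have h3 : d * (l * d⁻¹ * l⁻¹) = d * l * d⁻¹ * l⁻¹ := by group
    change d * l * d⁻¹ * l⁻¹ ∈ D
    rw [← h3]
    exact mul_mem hdC h2

end Cfsg.Agent.UGT.L2Inner.WBTriple
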