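import Cfsg.Agent.UGT.RedAlt
import Cfsg.Agent.UAlt.FourConj

/-!
# UGT, inner L2 with `A₇`-triples present: the bad configuration

* `P7`, `b1`, `b2`, `b3`, `ta`, `IsV`: permutations of seven points, `V₄ = {1, b1, b2, b3}`, `ta = (4 5)`.
* `Bad7 Y V w x K L`: `E = Y V` acts on `K / O(K) ≅ A₇`, `K` a 2-component of `C(w)`, as `V₄ × ⟨ta⟩`, and `(x, w, K)`
  is a triple with `x ∈ E` acting by an element of `V₄`.
* `No7 M Y`: there is no bad configuration with `V` a four-group of `M`.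
-/

set_option autoImplicit false

open Cfsg Subgroup Equiv Equiv.Perm
open Cfsg.Agent.UAlt
open Cfsg.Agent.SignalizersComponents.IntrinsicBasic
open Cfsg.Agent.Intrinsic.Basic
open Cfsg.Agent.UGT.Triple

namespace Cfsg.Agent.UGT.L2Inner

/-- permutations of seven points -/
abbrev P7 := Perm (Fin 7)

def b1 : P7 := swap 0 1 * swap 2 3
def b2 : P7 := swap 0 2 * swap 1 3
def b3 : P7 := swap 0 3 * swap 1 2
def ta : P7 := swap 4 5

/-- the elements of `V₄` -/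
def IsV (σ : P7) : Prop := σ = 1 ∨ σ = b1 ∨ σ = b2 ∨ σ = b3

variable {G : Type*} [Group G]

/-- labels for `K / O(K) ≅ A₇` -/
abbrev Lab (K : Subgroup G) := Mod K (Finset.univ : Finset (Fin 7))

/-- The bad configuration (bb #12930): `K` is a 2-component of `C(w)` with `K / O(K) ≅ A₇`, `w ∈ Y V - Y`, `Y V` acts
on `K / O(K)` as `V₄ × ⟨ta⟩`, `x ∈ Y V` acts as an element of `V₄` and `O(C(x)) ∩ C(w)` acts nontrivially on
`K / O(K)`. No `y ∈ Y#` acts as `1` or `ta`. -/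
structure Bad7 (Y V : Subgroup G) (w x : G) (K : Subgroup G) (L : Lab K) : Prop where
  wE : w ∈ Y ⊔ V
  wY : w ∉ Y
  xE : x ∈ Y ⊔ V
  tri : IsTriple x w K
  nrm : Y ⊔ V ≤ normalizer (K : Set G)
  img : ∀ e ∈ Y ⊔ V, IsV (L.φ e) ∨ IsV (L.φ e * ta)
  sur : ∀ σ, IsV σ → (∃ e ∈ Y ⊔ V, L.φ e = σ) ∧ ∃ e ∈ Y ⊔ V, L.φ e = σ * ta
  xV : IsV (L.φ x)
  y1 : ∀ y ∈ Y, y ≠ 1 → L.φ y ≠ 1
  yt : ∀ y ∈ Y, L.φ y ≠ ta

/-- there is no bad configuration -/
def No7 (M Y : Subgroup G) : Prop :=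
  ∀ V : Subgroup G, V ≤ M → (∀ v ∈ V, v * v = 1) → Nat.card V = 4 →
    ∀ (w x : G) (K : Subgroup G) (L : Lab K), ¬ Bad7 Y V w x K L

end Cfsg.Agent.UGT.L2Inner
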