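import Cfsg.Agent.UGT.TMCSyl
import Cfsg.Agent.UGT.TriBase

/-!
# Elementary abelian 2-subgroups: `jn y P = ⟨y⟩ P`, four-groups, covering, lifting
-/

set_option autoImplicit false

open Cfsg Subgroup
open Cfsg.Agent.SignalizersComponents Cfsg.Agent.Lib
open Cfsg.Agent.SignalizersComponents.IntrinsicBasic
open Cfsg.Agent.Intrinsic.Basic Cfsg.Agent.Intrinsic.Cen
open Cfsg.Agent.UGT.TMCSyl

namespace Cfsg.Agent.UGT.L2Inner

variable {G : Type*} [Group G]

/-- `⟨y⟩ P` -/
def jn (y : G) (P : Subgroup G) : Subgroup G := zpowers y ⊔ P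

theorem cj_jn (g y : G) (P : Subgroup G) : cj g (jn y P) = jn (g * y * g⁻¹) (cj g P) := by
  unfold jn
  rw [cj_def, cj_def, Subgroup.map_sup, MonoidHom.map_zpowers]
  rfl

theorem mem_zpowers_sq {y x : G} (hyy : y * y = 1) (h : x ∈ zpowers y) : x = 1 ∨ x = y := by
  obtain ⟨k, rfl⟩ := mem_zpowers_iff.mp h
  rcases Int.even_or_odd' k with ⟨m, hm | hm⟩
  · left
    rw [hm, zpow_mul, zpow_two, hyy, one_zpow]
  · right
    rw [hm, zpow_add, zpow_mul, zpow_two, hyy, one_zpow, one_mul, zpow_one]

theorem mem_jn {y : G} {P : Subgroup G} (hyy : y * y = 1) (hc : ∀ p ∈ P, p * y = y * p) {x : G} :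
    x ∈ jn y P ↔ x ∈ P ∨ y * x ∈ P := by
  constructor
  · intro h
    have hn : ∀ b ∈ zpowers y, ∀ a ∈ P, b * a * b⁻¹ ∈ P := by
      intro b hb a ha
      rcases mem_zpowers_sq hyy hb with rfl | rfl
      · simpa using ha
      · rw [← hc a ha, mul_inv_cancel_right]; exact ha
    have h1 : x ∈ P ⊔ zpowers y := by rw [sup_comm]; exact h
    have h2 : ∀ z ∈ P ⊔ zpowers y, z ∈ P ∨ y * z ∈ P := by
      intro z hz
      refine Subgroup.closure_induction (k := (P : Set G) ∪ {y})
        (p := fun z _ => z ∈ P ∨ y * z ∈ P) ?_ ?_ ?_ ?_ ?_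
      · rintro z (hz | hz)
        · exact Or.inl hz
        · rw [Set.mem_singleton_iff.mp hz]
          right; rw [hyy]; exact one_mem _
      · exact Or.inl (one_mem _)
      · rintro a b - - ha hb
        rcases ha with ha | ha <;> rcases hb with hb | hb
        · exact Or.inl (mul_mem ha hb)
        · right
          have h1 : y * (a * b) = a * (y * b) := by rw [← mul_assoc, ← hc a ha, mul_assoc]
          rw [h1]; exact mul_mem ha hb
        · right
          rw [← mul_assoc]; exact mul_mem ha hb
        · left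
          have h3 := hc _ ha
          have h4 : a * y = y * a := by
            calc a * y = (y * y) * (a * y) := by rw [hyy, one_mul]
              _ = y * ((y * a) * y) := by group
              _ = y * (y * (y * a)) := by rw [h3]
              _ = (y * y) * (y * a) := by group
              _ = y * a := by rw [hyy, one_mul]
          have h5 : a * b = (y * a) * (y * b) := by
            calc a * b = (y * y) * (a * b) := by rw [hyy, one_mul]
              _ = y * (y * a) * b := by group
              _ = y * (a * y) * b := by rw [h4]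
              _ = _ := by group
          rw [h5]; exact mul_mem ha hb
      · rintro a - ha
        rcases ha with ha | ha
        · exact Or.inl (inv_mem ha)
        · right
          have h3 := hc _ ha
          have hyi : y⁻¹ = y := inv_eq_of_mul_eq_one_left hyy
          have h4 : a * y = y * a := by
            calc a * y = (y * y) * (a * y) := by rw [hyy, one_mul]
              _ = y * ((y * a) * y) := by group
              _ = y * (y * (y * a)) := by rw [h3]
              _ = (y * y) * (y * a) := by group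
              _ = y * a := by rw [hyy, one_mul]
          have h5 : y * a⁻¹ = (y * a)⁻¹ := by
            rw [mul_inv_rev, hyi]
            calc y * a⁻¹ = a⁻¹ * (a * y) * a⁻¹ := by group
              _ = a⁻¹ * (y * a) * a⁻¹ := by rw [h4]
              _ = a⁻¹ * y := by group
          rw [h5]; exact inv_mem ha
      · have : P ⊔ zpowers y = Subgroup.closure ((P : Set G) ∪ {y}) := by
          rw [Subgroup.closure_union, Subgroup.closure_eq, zpowers_eq_closure]
        rw [← this]; exact hz
    exact h2 x h1
  · rintro (h | h)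
    · exact mem_sup_right h
    · have h1 : x = y * (y * x) := by rw [← mul_assoc, hyy, one_mul]
      rw [h1]
      exact mul_mem (mem_sup_left (mem_zpowers y)) (mem_sup_right h)

theorem self_mem_jn (y : G) (P : Subgroup G) : y ∈ jn y P := mem_sup_left (mem_zpowers y)

theorem le_jn (y : G) (P : Subgroup G) : P ≤ jn y P := le_sup_right

theorem jn_le {y : G} {P A : Subgroup G} (hy : y ∈ A) (hP : P ≤ A) : jn y P ≤ A :=
  sup_le (by rw [zpowers_le]; exact hy) hP

/-- `⟨y⟩ P = ⟨y p⟩ P` for `p ∈ P` -/
theorem jn_mul {y p : G} {P : Subgroup G} (hp : p ∈ P) : jn (y * p) P = jn y P := by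
  apply le_antisymm
  · exact jn_le (mul_mem (self_mem_jn y P) (le_jn y P hp)) (le_jn y P)
  · refine jn_le ?_ (le_jn _ P)
    have h := mul_mem (self_mem_jn (y * p) P) (le_jn (y * p) P (inv_mem hp))
    rwa [mul_inv_cancel_right] at h

/-- `jn y P` is elementary abelian -/
theorem elem_jn {y : G} {P : Subgroup G} (hP : Elem P) (hyy : y * y = 1)
    (hc : ∀ p ∈ P, p * y = y * p) : Elem (jn y P) := by
  intro x hx
  rcases (mem_jn hyy hc).mp hx with h | h
  · exact hP x h
  · have h1 := hP _ h
    have h2 := hc _ h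
    calc x * x = (y * y) * x * (y * y) * x := by rw [hyy]; group
      _ = y * ((y * x) * y) * (y * x) := by group
      _ = y * (y * (y * x)) * (y * x) := by rw [h2]
      _ = (y * y) * ((y * x) * (y * x)) := by group
      _ = 1 := by rw [h1, hyy, one_mul]

theorem card_jn {y : G} {P : Subgroup G} [Finite P] (hP : Elem P) (hyy : y * y = 1)
    (hc : ∀ p ∈ P, p * y = y * p) (hy : y ∉ P) : Nat.card (jn y P) = 2 * Nat.card P := by
  obtain ⟨B, h1, h2, h3, -, h5⟩ := elem_insert hP hyy hc hy
  have h6 : B = jn y P := by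
    apply le_antisymm
    · intro x hx
      exact (mem_jn hyy hc).mpr (h3 x hx)
    · exact jn_le h2 h1
  rw [← h6, h5]

theorem Elem.mono {A B : Subgroup G} (hB : Elem B) (h : A ≤ B) : Elem A := fun x hx => hB x (h hx)

theorem Elem.cj {A : Subgroup G} (hA : Elem A) (g : G) : Elem (cj g A) := by
  intro x hx
  rw [mem_cj] at hx
  have h4 := hA _ hx
  calc x * x = g * ((g⁻¹ * x * g) * (g⁻¹ * x * g)) * g⁻¹ := by group
    _ = 1 := by rw [h4]; group

/-! ### four-groups -/

/-- four-groups -/
structure Four (P : Subgroup G) : Prop where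
  card : Nat.card P = 4
  elem : Elem P

theorem Four.cj {P : Subgroup G} (h : Four P) (g : G) : Four (cj g P) :=
  ⟨by rw [TriBase.card_cj]; exact h.card, Elem.cj h.elem g⟩

theorem Four.finite {P : Subgroup G} (h : Four P) : Finite P :=
  Nat.finite_of_card_ne_zero (by rw [h.card]; norm_num)

/-- an element of the four-group `P` outside `{1, a}` -/
theorem Four.exists_ne {P : Subgroup G} (h : Four P) (a : G) : ∃ b ∈ P, b ≠ 1 ∧ b ≠ a := by
  have := h.finite
  by_contra hno
  push Not at hno
  have h1 : (P : Set G) ⊆ {1, a} := by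
    intro x hx
    rcases eq_or_ne x 1 with h2 | h2
    · exact Or.inl h2
    · exact Or.inr (hno x hx h2)
  have h2 : Set.ncard (P : Set G) ≤ Set.ncard ({1, a} : Set G) :=
    Set.ncard_le_ncard h1 (Set.toFinite _)
  have h3 : Set.ncard ({1, a} : Set G) ≤ 2 := by
    have h5 := Set.ncard_insert_le (1 : G) ({a} : Set G)
    rwa [Set.ncard_singleton] at h5
  have h4 : Set.ncard (P : Set G) = 4 := by
    rw [← h.card]; rfl
  omega

theorem Four.mem_cases {P : Subgroup G} (h : Four P) {a b : G} (ha : a ∈ P) (hb : b ∈ P) (ha1 : a ≠ 1)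
    (hb1 : b ≠ 1) (hba : b ≠ a) {x : G} (hx : x ∈ P) : x = 1 ∨ x = a ∨ x = b ∨ x = a * b := by
  have := h.finite
  by_contra hno
  push Not at hno
  obtain ⟨h1, h2, h3, h4⟩ := hno
  have haa := h.elem a ha
  have hbb := h.elem b hb
  have hai : a⁻¹ = a := inv_eq_of_mul_eq_one_left haa
  have hab1 : a * b ≠ 1 := by
    intro h5
    apply hba
    have : b = a⁻¹ := (inv_eq_of_mul_eq_one_right h5).symm
    rw [this, hai]
  have h5 : ({1, a, b, a * b, x} : Set G) ⊆ (P : Set G) := by
    intro z hz
    simp only [Set.mem_insert_iff, Set.mem_singleton_iff] at hz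
    rcases hz with rfl | rfl | rfl | rfl | rfl
    · exact one_mem P
    · exact ha
    · exact hb
    · exact mul_mem ha hb
    · exact hx
  have h6 : Set.ncard ({1, a, b, a * b, x} : Set G) ≤ Set.ncard (P : Set G) :=
    Set.ncard_le_ncard h5 (Set.toFinite _)
  have h7 : Set.ncard (P : Set G) = 4 := by
    rw [← h.card]; rfl
  have e1 : a * b ≠ a := fun h => hb1 (by simpa using h)
  have e2 : a * b ≠ b := fun h => ha1 (by simpa using h)
  have h8 : Set.ncard ({1, a, b, a * b, x} : Set G) = 5 := by
    rw [Set.ncard_insert_of_notMem, Set.ncard_insert_of_notMem, Set.ncard_insert_of_notMem,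
      Set.ncard_pair]
    · exact h4.symm
    · simp only [Set.mem_insert_iff, Set.mem_singleton_iff, not_or]
      exact ⟨e2.symm, h3.symm⟩
    · simp only [Set.mem_insert_iff, Set.mem_singleton_iff, not_or]
      exact ⟨hba.symm, e1.symm, h2.symm⟩
    · simp only [Set.mem_insert_iff, Set.mem_singleton_iff, not_or]
      exact ⟨ha1.symm, hb1.symm, hab1.symm, h1.symm⟩
  omega

/-- a four-group from two commuting involutions -/
theorem four_of {a b : G} (haa : a * a = 1) (hbb : b * b = 1) (hab : a * b = b * a) (ha1 : a ≠ 1)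
    (hb1 : b ≠ 1) (hba : b ≠ a) : Four (jn b (zpowers a)) := by
  have h1 : Elem (zpowers a) := by
    intro x hx
    rcases mem_zpowers_sq haa hx with rfl | rfl
    · rw [one_mul]
    · exact haa
  have h2 : ∀ p ∈ zpowers a, p * b = b * p := by
    intro p hp
    rcases mem_zpowers_sq haa hp with rfl | rfl
    · rw [one_mul, mul_one]
    · exact hab
  have h3 : b ∉ zpowers a := by
    intro h
    rcases mem_zpowers_sq haa h with h | h
    · exact hb1 h
    · exact hba h
  have h4 : orderOf a = 2 := orderOf_eq_prime (by rw [pow_two, haa]) ha1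
  have h5 : Nat.card (zpowers a) = 2 := by rw [Nat.card_zpowers, h4]
  have : Finite (zpowers a) := Nat.finite_of_card_ne_zero (by rw [h5]; norm_num)
  refine ⟨?_, elem_jn h1 hbb h2⟩
  rw [card_jn h1 hbb h2 h3, h5]

theorem Four.card_jn {y : G} {P : Subgroup G} (h : Four P) (hyy : y * y = 1)
    (hc : ∀ p ∈ P, p * y = y * p) (hy : y ∉ P) : Nat.card (jn y P) = 8 := by
  have := h.finite
  rw [L2Inner.card_jn h.elem hyy hc hy, h.card]

/-- three independent commuting involutions -/
theorem card_eight {a b c : G} (haa : a * a = 1) (hbb : b * b = 1) (hcc : c * c = 1)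
    (hab : a * b = b * a) (hac : a * c = c * a) (hbc : b * c = c * b) (ha1 : a ≠ 1)
    (hb1 : b ≠ 1) (hba : b ≠ a) (hc1 : c ≠ 1) (hca : c ≠ a) (hcb : c ≠ b) (hcab : c ≠ a * b) :
    Nat.card (jn c (jn b (zpowers a))) = 8 := by
  have h := four_of haa hbb hab ha1 hb1 hba
  have ha : a ∈ jn b (zpowers a) := le_jn _ _ (mem_zpowers a)
  have hb : b ∈ jn b (zpowers a) := self_mem_jn _ _
  refine h.card_jn hcc ?_ ?_
  · intro p hp
    rcases h.mem_cases ha hb ha1 hb1 hba hp with rfl | rfl | rfl | rfl
    · rw [one_mul, mul_one]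
    · exact hac
    · exact hbc
    · rw [mul_assoc, hbc, ← mul_assoc, hac, mul_assoc]
  · intro hcm
    rcases h.mem_cases ha hb ha1 hb1 hba hcm with h | h | h | h
    · exact hc1 h
    · exact hca h
    · exact hcb h
    · exact hcab h

end Cfsg.Agent.UGT.L2Inner
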