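import Cfsg.Agent.UGT.L2Inner.WBField

/-!
# UGT, inner L2: `(A)` (bb #12280 (I4))

`YFrame M Y`; `t ∈ M` an involution, `s ∈ C_M(t)` of odd order, inverted by an element `t'` of `C_M(t)` with
`t' * t' = 1` (`Tor M t s t'`); `c ∈ Y`.

* `No7 M Y` is assumed in the last two statements (types `PSL(2,F)` and `A₇`).
* `YFrame.fixes_of_pgl`: `K` a 2-component of type `PSL(2,F)` of `C(c t)` on which some `y ∈ Y` acts as an
  involution of `PGL(2,F)`: `s` fixes `K`.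
* `YFrame.comm_mem`: `[O(C(y)) ∩ C(c t), s] ≤ O(C(c t))`, `y ∈ Y#`.
* `YFrame.mem_core`: if `s ∈ O(C(c' t))` for some `c' ∈ Y` then `s ∈ O(C(c t))` for all `c ∈ Y`.
-/

set_option autoImplicit false

open Cfsg Subgroup
open Cfsg.Agent.SignalizersComponents Cfsg.Agent.Lib
open Cfsg.Agent.SignalizersComponents.IntrinsicBasic
open Cfsg.Agent.SignalizersComponents.PLayerAut
open Cfsg.Agent.Intrinsic.Basic Cfsg.Agent.Intrinsic.Cen Cfsg.Agent.Intrinsic.Diag
open Cfsg.Agent.McLLyComp.Act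
open Cfsg.Agent.UGT.Triple Cfsg.Agent.UGT.TriBase
open Cfsg.Agent.UAlt (fixIn)
open Cfsg.Agent.GH.L2Aut (Four)
open scoped commutatorElement

namespace Cfsg.Agent.UGT.L2Inner

variable {G : Type*} [Group G]

/-- a torus element `s` of `C_M(t)` inverted by `t'` -/
structure Tor (M : Subgroup G) (t s t' : G) : Prop where
  tM : t ∈ M
  tt : t * t = 1
  t1 : t ≠ 1
  sM : s ∈ M
  st : s * t = t * s
  odd : Odd (orderOf s)
  rM : t' ∈ M
  rr : t' * t' = 1
  rt : t' * t = t * t'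
  inv : t' * s * t'⁻¹ = s⁻¹

/-- an element of odd order is a power of its square -/
theorem pow_of_odd {s : G} (ho : Odd (orderOf s)) : ∃ n : ℕ, (s * s) ^ n = s := by
  obtain ⟨k, hk⟩ := ho
  refine ⟨k + 1, ?_⟩
  rw [← pow_two, ← pow_mul, show 2 * (k + 1) = (2 * k + 1) + 1 by ring, ← hk, pow_succ,
    pow_orderOf_eq_one, one_mul]

variable [Finite G]

namespace YFrame

variable {M Y : Subgroup G} (hF : YFrame M Y)

include hF

omit [Finite G] in
theorem comm_ct {y c t : G} (hy : y ∈ Y) (hc : c ∈ Y) (ht : t ∈ M) :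
    y * (c * t) = c * t * y := by
  calc y * (c * t) = (y * c) * t := by group
    _ = c * (y * t) := by rw [comm_of_sq hF.ysq hy hc]; group
    _ = c * t * y := by rw [hF.ym y hy t ht]; group

omit [Finite G] in
theorem comm_mt {m c t : G} (hm : m ∈ M) (hmt : m * t = t * m) (hc : c ∈ Y) :
    m * (c * t) = c * t * m := by
  calc m * (c * t) = (m * c) * t := by group
    _ = c * (m * t) := by rw [← hF.ym c hc m hm]; group
    _ = c * t * m := by rw [hmt]; group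

/-- `Y ∩ M = 1` -/
theorem inf_eq {t : G} (hy : t ∈ Y) (hM : t ∈ M) : t = 1 := by
  by_contra h1
  obtain ⟨L, hL, hML, -, hT⟩ := hF.comp t hy h1
  exact not_fixes_of_mem hT.t27 (hML hM) (hF.ysq t hy) h1 (fixes_self' hL.le)

/-- some element of `Y` moves `K` -/
theorem fixes_of_moved {t s t' c y : G} {K : Subgroup G} (T : Tor M t s t') (hc : c ∈ Y)
    (hK : IsComp (centralizer ({c * t} : Set G)) K) (hy : y ∈ Y)
    (hyK : y ∉ normalizer (K : Set G)) : Fixes s K := by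
  have hy1 : y ≠ 1 := by
    rintro rfl
    exact hyK (one_mem _)
  have hyy := hF.ysq y hy
  have hyX : y ∈ centralizer ({c * t} : Set G) := mem_c (hF.comm_ct hy hc T.tM)
  have hsX : s ∈ centralizer ({c * t} : Set G) := mem_c (hF.comm_mt T.sM T.st hc)
  have hne : cj y K ≠ K := fun h => hyK (mem_normalizer_iff_cj.mpr h)
  obtain ⟨h1, -, -, h4, -⟩ := exists_diag hK hyX hyy hne
  have hsI := hF.star T.tM T.tt T.t1 hc hy hy1 h1 T.sM T.st
  have hsy : s * y = y * s := (hF.ym y hy s T.sM).symm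
  have hyi : cj y (cj y K) = K := by rw [← cj_mul, hyy, cj_one]
  have hsyK : ∀ J : Subgroup G, cj s (cj y J) = cj y (cj s J) := by
    intro J
    rw [← cj_mul, hsy, cj_mul]
  -- `s` permutes `K` and `K ^ y`
  have hcase : cj s K = K ∨ cj s K = cj y K := by
    by_contra hcon
    push Not at hcon
    have h5 : diag (centralizer ({c * t} : Set G)) (cj s K) y =
        diag (centralizer ({c * t} : Set G)) K y := by
      have h6 := mem_normalizer_iff_cj.mp hsI.1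
      rw [cj_diag, cj_eq_self_of_mem hsX] at h6
      have h7 : s * y * s⁻¹ = y := by rw [hsy, mul_inv_cancel_right]
      rwa [h7] at h6
    refine diag_ne hK hyX hyy hne (isComp_cj_of_mem hK hsX) ?_ hcon.1 hcon.2 h5
    rw [← hsyK]
    intro h8
    exact hne (cj_injective s h8)
  have hs2 : s * s ∈ normalizer (K : Set G) := by
    rw [mem_normalizer_iff_cj, cj_mul]
    rcases hcase with h | h
    · rw [h, h]
    · rw [h, hsyK, h, hyi]
  have hsK : s ∈ normalizer (K : Set G) := by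
    obtain ⟨n, hn⟩ := pow_of_odd T.odd
    rw [← hn]
    exact pow_mem hs2 n
  refine fixes_of_comm_diag hK hyX hyy hne hsX hsK ?_ fun m hm => ?_
  · rw [mem_normalizer_iff_cj, hsyK, mem_normalizer_iff_cj.mp hsK]
  · have h5 := hsI.2 m hm
    rw [h4] at h5
    exact h5.2

/-- `t'` and `s` normalize `K` -/
theorem s_mem {t s t' c : G} {K : Subgroup G} (T : Tor M t s t') (hc : c ∈ Y)
    (hK : IsComp (centralizer ({c * t} : Set G)) K) (hT : T27 K)
    (hYK : ∀ y' ∈ Y, y' ∈ normalizer (K : Set G)) :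
    t' ∈ normalizer (K : Set G) ∧ s ∈ normalizer (K : Set G) := by
  have hri : t'⁻¹ = t' := inv_eq_of_mul_eq_one_left T.rr
  have hrK : t' ∈ normalizer (K : Set G) := hF.norm T.tM T.tt T.t1 T.rM T.rr T.rt.symm hc hK hT hYK
  have hrK' : s * t' * s⁻¹ ∈ normalizer (K : Set G) := by
    refine hF.norm T.tM T.tt T.t1 (mul_mem (mul_mem T.sM T.rM) (inv_mem T.sM)) ?_ ?_ hc hK hT hYK
    · calc s * t' * s⁻¹ * (s * t' * s⁻¹) = s * (t' * t') * s⁻¹ := by group
        _ = 1 := by rw [T.rr]; group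
    · have h1 : s⁻¹ * t = t * s⁻¹ := by
        rw [inv_mul_eq_iff_eq_mul, ← mul_assoc, T.st, mul_inv_cancel_right]
      calc t * (s * t' * s⁻¹) = (t * s) * t' * s⁻¹ := by group
        _ = s * (t * t') * s⁻¹ := by rw [← T.st]; group
        _ = s * t' * (t * s⁻¹) := by rw [← T.rt]; group
        _ = s * t' * s⁻¹ * t := by rw [← h1]; group
  have hs2 : s * s ∈ normalizer (K : Set G) := by
    have h1 : s * s = (s * t' * s⁻¹) * t' := by
      have h2 : t' * s⁻¹ * t' = s := by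
        have h3 := T.inv
        rw [hri] at h3
        rw [← h3]
        calc t' * (t' * s * t') * t' = (t' * t') * s * (t' * t') := by group
          _ = s := by rw [T.rr, one_mul, mul_one]
      calc s * s = s * (t' * s⁻¹ * t') := by rw [h2]
        _ = (s * t' * s⁻¹) * t' := by group
    rw [h1]
    exact mul_mem hrK' hrK
  have hsK : s ∈ normalizer (K : Set G) := by
    obtain ⟨n, hn⟩ := pow_of_odd T.odd
    rw [← hn]
    exact pow_mem hs2 n
  exact ⟨hrK, hsK⟩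

/-- **(A), K-level** -/
theorem fixes_of_pgl {t s t' c y : G} {K : Subgroup G} (T : Tor M t s t') (hc : c ∈ Y)
    (hK : IsComp (centralizer ({c * t} : Set G)) K) {F : Type} [Field F] [Finite F]
    (R : GH.L2Aut.Rep F (↥K ⧸ oddCore ↥K)) (hy : y ∈ Y) (hyK : y ∈ normalizer (K : Set G))
    (hyf : ¬ Fixes y K) (hyP : act K ⟨y, hyK⟩ ∈ R.PGL) : Fixes s K := by
  have hT : L2T K := ⟨F, inferInstance, inferInstance, ⟨R⟩⟩
  by_cases hYK : ∀ y' ∈ Y, y' ∈ normalizer (K : Set G)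
  swap
  · push Not at hYK
    obtain ⟨y', hy', hy'K⟩ := hYK
    exact hF.fixes_of_moved T hc hK hy' hy'K
  obtain ⟨hrK, hsK⟩ := hF.s_mem T hc hK hT.t27 hYK
  have hYX : ∀ y ∈ Y, y ∈ centralizer ({c * t} : Set G) := fun y hy =>
    mem_c (hF.comm_ct hy hc T.tM)
  by_cases hfx : ∃ y' ∈ Y, y' ≠ 1 ∧ Fixes y' K
  · obtain ⟨y', hy', hy'1, hf⟩ := hfx
    obtain ⟨h1, h3⟩ := isComp_cen hK (hYX y' hy') (hF.ysq y' hy') hf
    have h4 := hF.star T.tM T.tt T.t1 hc hy' hy'1 h1 T.sM T.st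
    exact (fixes_iff_of_sup h3 h4.1 hsK).mp h4
  push Not at hfx
  -- `Y` is faithful on `K / O(K)`
  obtain ⟨y₂, hy₂, hy₂1, hne⟩ : ∃ y₂ ∈ Y, y₂ ≠ 1 ∧ y ≠ y₂ := by
    obtain ⟨a, ha, b, hb, ha1, hb1, hab⟩ := exists_gens hF.ycard
    by_cases h : y = a
    · exact ⟨b, hb, hb1, h ▸ hab⟩
    · exact ⟨a, ha, ha1, h⟩
  have hy1 : y ≠ 1 := by
    rintro rfl
    exact hyf (fixes_one K)
  have hy₂K := hYK y₂ hy₂
  have hsq : ∀ u ∈ Y, ∀ n : u ∈ normalizer (K : Set G), act K ⟨u, n⟩ * act K ⟨u, n⟩ = 1 := by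
    intro u hu n
    rw [← map_mul]
    have h1 : (⟨u, n⟩ : ↥(normalizer (K : Set G))) * ⟨u, n⟩ = 1 := Subtype.ext (hF.ysq u hu)
    rw [h1, map_one]
  have hso : Odd (orderOf (act K ⟨s, hsK⟩)) := by
    have h3 : orderOf (act K ⟨s, hsK⟩) ∣ orderOf s := by
      have h2 : orderOf (⟨s, hsK⟩ : ↥(normalizer (K : Set G))) = orderOf s := Subgroup.orderOf_mk _ _
      rw [← h2]
      exact orderOf_map_dvd _ _
    exact Odd.of_dvd_nat T.odd h3
  have hcomm : ∀ u ∈ Y, ∀ n : u ∈ normalizer (K : Set G),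
      act K ⟨s, hsK⟩ * act K ⟨u, n⟩ = act K ⟨u, n⟩ * act K ⟨s, hsK⟩ := by
    intro u hu n
    rw [← map_mul, ← map_mul]
    congr 1
    exact Subtype.ext (hF.ym u hu s T.sM).symm
  have hsP : act K ⟨s, hsK⟩ ∈ R.PGL := by
    rw [R.mem_PGL_iff_fld]
    have h1 : act K ⟨t', hrK⟩ * act K ⟨s, hsK⟩ * (act K ⟨t', hrK⟩)⁻¹ = (act K ⟨s, hsK⟩)⁻¹ := by
      rw [← map_inv, ← map_inv, ← map_mul, ← map_mul]
      congr 1
      exact Subtype.ext T.inv
    have h2 := congrArg R.fld h1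
    rw [map_mul, map_mul, map_inv, map_inv,
      Cfsg.Agent.Lib.AutSL2Out.ringEquiv_comm (R.fld (act K ⟨t', hrK⟩)), mul_inv_cancel_right] at h2
    have h3 : R.fld (act K ⟨s, hsK⟩) * R.fld (act K ⟨s, hsK⟩) = 1 := by
      nth_rw 1 [h2]
      exact inv_mul_cancel _
    exact Cfsg.Agent.OddHalf.D6.PglType.eq_one_of_odd_sq h3
      (Odd.of_dvd_nat hso (orderOf_map_dvd _ _))
  have hφ1 : act K ⟨y, hyK⟩ ≠ 1 := fun h => hyf ((act_eq_one_iff hyK).mp h)
  by_cases hP2 : act K ⟨y₂, hy₂K⟩ ∈ R.PGL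
  · rw [← act_eq_one_iff hsK]
    refine Cfsg.Agent.OddHalf.D6.PglType.eq_one_of_odd_sq ?_ hso
    have hc12 : act K ⟨y, hyK⟩ * act K ⟨y₂, hy₂K⟩ = act K ⟨y₂, hy₂K⟩ * act K ⟨y, hyK⟩ := by
      rw [← map_mul, ← map_mul]
      congr 1
      exact Subtype.ext (comm_of_sq hF.ysq hy hy₂)
    rcases WBAut.pgl_four R hyP hP2 hsP hφ1 (fun h => hfx y₂ hy₂ hy₂1 ((act_eq_one_iff hy₂K).mp h))
      (fun h => hfx (y * y₂) (mul_mem hy hy₂) (fun h3 => hne (by
        have h4 := eq_inv_of_mul_eq_one_left h3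
        rwa [inv_eq_of_mul_eq_one_left (hF.ysq y₂ hy₂)] at h4))
        (Frame.fixes_of_act_eq hyK hy₂K (hF.ysq y₂ hy₂) h))
      (hsq y hy hyK) (hsq y₂ hy₂ hy₂K) hc12 (hcomm y hy hyK) (hcomm y₂ hy₂ hy₂K) with
      h | h | h | h
    · rw [h, one_mul]
    · rw [h]; exact hsq y hy hyK
    · rw [h]; exact hsq y₂ hy₂ hy₂K
    · rw [h, ← act_mul hyK hy₂K]
      exact hsq _ (mul_mem hy hy₂) _
  · have hf : R.fld (act K ⟨y₂, hy₂K⟩) ≠ 1 := fun h => hP2 (R.mem_PGL_iff_fld.mpr h)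
    by_cases h9 : 9 < Nat.card F
    · obtain ⟨I, hI, -, -, hfin⟩ := exists_comp_field hK (hF.ysq y₂ hy₂) hy₂K R h9 hf
      exact hfin s hsK hso (hF.star T.tM T.tt T.t1 hc hy₂ hy₂1 hI T.sM T.st)
    · have h9' : Nat.card F = 9 := by
        have hord : orderOf (R.fld (act K ⟨y₂, hy₂K⟩)) = 2 := by
          rw [orderOf_eq_prime_iff]
          exact ⟨by rw [sq, ← map_mul, hsq y₂ hy₂ hy₂K, map_one], hf⟩
        obtain ⟨K₀, hK₀, hcard⟩ := GH.L2Aut.exists_fixed_field (R.fld (act K ⟨y₂, hy₂K⟩))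
        rw [hord] at hcard
        have h1 : Odd (Nat.card K₀) := GH.L2Aut.odd_card (GH.L2Aut.two_sub R.two K₀)
        have h2 : 1 < Nat.card K₀ := Finite.one_lt_card
        have h3 : Nat.card K₀ ≤ 3 := by
          by_contra h
          push Not at h
          have h4 : 4 ≤ Nat.card K₀ := h
          have := Nat.pow_le_pow_left h4 2
          omega
        obtain ⟨k, hk⟩ := h1
        have h4 : Nat.card K₀ = 3 := by omega
        rw [hcard, h4]
        norm_num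
      rw [← act_eq_one_iff hsK]
      exact nine R h9' hyP hφ1 (hsq y hy hyK) (hsq y₂ hy₂ hy₂K) hf hsP hso (hcomm y hy hyK)
        (hcomm y₂ hy₂ hy₂K)

/-- **(A), K-level, type `A₇`** -/
theorem fixes_of_lab (no7 : No7 M Y) {t s t' c x u : G} {K : Subgroup G} (T : Tor M t s t')
    (hc : c ∈ Y) (L₀ : Lab K) (S : IsTriple x (c * t) K) (hu : u ∈ Y) (hux : Fixes (u⁻¹ * x) K)
    (hxE : ∃ y ∈ Y, x = y ∨ x = y * t) : Fixes s K := by
  have hK := S.comp
  have hT : T27 K := Or.inr ⟨L₀⟩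
  by_cases hYK : ∀ y' ∈ Y, y' ∈ normalizer (K : Set G)
  swap
  · push Not at hYK
    obtain ⟨y', hy', hy'K⟩ := hYK
    exact hF.fixes_of_moved T hc hK hy' hy'K
  obtain ⟨hrK, hsK⟩ := hF.s_mem T hc hK hT hYK
  have hYX : ∀ y ∈ Y, y ∈ centralizer ({c * t} : Set G) := fun y hy =>
    mem_c (hF.comm_ct hy hc T.tM)
  by_cases hfx : ∃ y' ∈ Y, y' ≠ 1 ∧ Fixes y' K
  · obtain ⟨y', hy', hy'1, hf⟩ := hfx
    obtain ⟨h1, h3⟩ := isComp_cen hK (hYX y' hy') (hF.ysq y' hy') hf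
    have h4 := hF.star T.tM T.tt T.t1 hc hy' hy'1 h1 T.sM T.st
    exact (fixes_iff_of_sup h3 h4.1 hsK).mp h4
  push Not at hfx
  have hso : ∀ L : Lab K, Odd (orderOf (L.φ s)) := by
    intro L
    have h3 : orderOf (L.hom ⟨s, hsK⟩) ∣ orderOf s := by
      have h2 : orderOf (⟨s, hsK⟩ : ↥(normalizer (K : Set G))) = orderOf s := Subgroup.orderOf_mk _ _
      rw [← h2]
      exact orderOf_map_dvd _ _
    exact Odd.of_dvd_nat T.odd h3
  by_cases h5 : ∃ y' ∈ Y, y' ≠ 1 ∧ 5 ≤ (fixIn Finset.univ (L₀.φ y')).card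
  · obtain ⟨y', hy', hy'1, h5⟩ := h5
    have h1 := L₀.isComp_cmp_of hK (hYK y' hy') (hF.ysq y' hy') h5
    have h4 := hF.star T.tM T.tt T.t1 hc hy' hy'1 h1 T.sM T.st
    rw [← L₀.fixes_iff hsK]
    exact eq_one_of_five (hso L₀) (L₀.sq (hYK y' hy') (hF.ysq y' hy')) h5 fun i hi =>
      fix_of_fixes_cmp L₀ (hYK y' hy') (hF.ysq y' hy') h5 hsK h4 hi
  push Not at h5
  by_contra hfs
  have h3 : ∀ y' ∈ Y, y' ≠ 1 → (fixIn Finset.univ (L₀.φ y')).card ≤ 3 := by
    intro y' hy' hy'1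
    have h6 := h5 y' hy' hy'1
    have h7 := (card_fix_odd (L₀.sq (hYK y' hy') (hF.ysq y' hy'))).1
    omega
  obtain ⟨y₁, hy₁, y₂, hy₂, n1, n2, n12⟩ := exists_gens hF.ycard
  have m1 := hYK y₁ hy₁
  have m2 := hYK y₂ hy₂
  have n3 : y₁ * y₂ ≠ 1 := by
    intro h
    apply n12
    have h4 := eq_inv_of_mul_eq_one_left h
    rwa [inv_eq_of_mul_eq_one_left (hF.ysq y₂ hy₂)] at h4
  have hsy : ∀ y ∈ Y, s * y = y * s := fun y hy => (hF.ym y hy s T.sM).symm
  obtain ⟨a1, a2, p, hp, a3⟩ := odd_comm (hso L₀) (L₀.comm hsK m1 (hsy _ hy₁))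
    (L₀.comm hsK m2 (hsy _ hy₂)) (L₀.sq m1 (hF.ysq _ hy₁)) (L₀.sq m2 (hF.ysq _ hy₂))
    (L₀.comm m1 m2 (comm_of_sq hF.ysq hy₁ hy₂)) (h3 _ hy₁ n1) (h3 _ hy₂ n2)
    (by rw [← L₀.mul _ _ m1 m2]; exact h3 _ (mul_mem hy₁ hy₂) n3)
    (fun h => hfs ((L₀.fixes_iff hsK).mp h))
  -- normalized labels
  have hp2 : L₀.φ s (L₀.φ s p) ≠ p := fun h => hp (fix_of_sq (hso L₀) h)
  have hp3 : L₀.φ s (L₀.φ s p) ≠ L₀.φ s p := fun h => hp ((L₀.φ s).injective h)
  obtain ⟨τ, t4, t5, t6⟩ := exists_three hp.symm hp2.symm hp3.symm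
  obtain ⟨L, hL⟩ : ∃ L, L = relab L₀ τ := ⟨_, rfl⟩
  have hcj : ∀ (σ : P7) i, (τ * σ * τ⁻¹) i = i ↔ σ (τ⁻¹ i) = τ⁻¹ i := by
    intro σ i
    rw [Equiv.Perm.mul_apply, Equiv.Perm.mul_apply]
    constructor
    · intro h
      apply τ.injective
      rw [h]
      exact (τ.apply_symm_apply i).symm
    · intro h
      rw [h]
      exact τ.apply_symm_apply i
  have e2 : ∀ i (j k : Fin 7), τ j = k → (τ⁻¹ i = j ↔ i = k) := by
    rintro i j k rfl
    rw [Equiv.Perm.inv_eq_iff_eq]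
  have hM : M3 (L.φ s) := by
    intro i
    rw [hL, relab_φ, Ne, hcj, ← Ne, a3, e2 i _ _ t4, e2 i _ _ t5, e2 i _ _ t6]
  have hfix : ∀ y, (∀ i, L₀.φ s i ≠ i ↔ L₀.φ y i = i) →
      ∀ i, L.φ y i = i ↔ i = 4 ∨ i = 5 ∨ i = 6 := by
    intro y hy i
    rw [hL, relab_φ, hcj, ← hy, a3, e2 i _ _ t4, e2 i _ _ t5, e2 i _ _ t6]
  obtain ⟨v1, w1⟩ := isV_of_fix (L.sq m1 (hF.ysq _ hy₁)) (hfix _ a1)
  obtain ⟨v2, w2⟩ := isV_of_fix (L.sq m2 (hF.ysq _ hy₂)) (hfix _ a2)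
  have w3 : L.φ y₁ ≠ L.φ y₂ := by
    intro h
    refine hfx _ (mul_mem hy₁ hy₂) n3 ((L.fixes_iff (mul_mem m1 m2)).mp ?_)
    rw [L.mul _ _ m1 m2, h]
    exact L.sq m2 (hF.ysq _ hy₂)
  -- `s` and `t'` do not commute
  have hs1 : s ≠ s⁻¹ := by
    intro h
    apply hfs
    have h1 : s = 1 := by
      refine Cfsg.Agent.OddHalf.D6.PglType.eq_one_of_odd_sq ?_ T.odd
      nth_rw 1 [h]
      exact inv_mul_cancel s
    rw [h1]
    exact fixes_one K
  have hinv : L.φ t' * L.φ s * (L.φ t')⁻¹ = (L.φ s)⁻¹ := by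
    rw [← L.conj hrK hsK, T.inv, L.inv hsK]
  have hcm : L.φ s * L.φ t' ≠ L.φ t' * L.φ s := by
    intro h
    rw [← h, mul_inv_cancel_right] at hinv
    have h1 : L.φ s = 1 := by
      refine Cfsg.Agent.OddHalf.D6.PglType.eq_one_of_odd_sq ?_ (hso L)
      nth_rw 1 [hinv]
      exact inv_mul_cancel _
    exact hfs ((L.fixes_iff hsK).mp h1)
  have hfour : Four t t' := by
    refine ⟨T.tt, T.rr, T.t1, ?_, ?_, T.rt.symm⟩
    · rintro rfl
      have h1 := T.inv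
      rw [one_mul, inv_one, mul_one] at h1
      exact hs1 h1
    · rintro rfl
      have h1 := T.inv
      rw [← T.st, mul_inv_cancel_right] at h1
      exact hs1 h1
  obtain ⟨V, hV⟩ : ∃ V, V = hfour.sub := ⟨_, rfl⟩
  have hVm : ∀ v, v ∈ V ↔ v = 1 ∨ v = t ∨ v = t' ∨ v = t * t' := by
    intro v
    rw [hV]
    rfl
  have hV4 : Nat.card V = 4 := by rw [hV]; exact card_four hfour
  have hVsq : ∀ v ∈ V, v * v = 1 := by rw [hV]; exact sq_four hfour
  have hVM : V ≤ M := by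
    intro v hv
    rcases (hVm v).mp hv with rfl | rfl | rfl | rfl
    · exact one_mem _
    · exact T.tM
    · exact T.rM
    · exact mul_mem T.tM T.rM
  have hFr := hF.frame hVsq hV4 hVM
  have htV : t ∈ V := (hVm t).mpr (Or.inr (Or.inl rfl))
  have ht'V : t' ∈ V := (hVm t').mpr (Or.inr (Or.inr (Or.inl rfl)))
  have hYE : Y ≤ Y ⊔ V := le_sup_left
  have hVE : V ≤ Y ⊔ V := le_sup_right
  have htK : t ∈ normalizer (K : Set G) := by
    have h1 : t = c * (c * t) := by rw [← mul_assoc, hF.ysq c hc, one_mul]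
    rw [h1]
    exact mul_mem (hYK c hc) (fixes_self' hK.le).1
  have hN : Y ⊔ V ≤ normalizer (K : Set G) := by
    refine sup_le hYK fun v hv => ?_
    rcases (hVm v).mp hv with rfl | rfl | rfl | rfl
    · exact one_mem _
    · exact htK
    · exact hrK
    · exact mul_mem htK hrK
  obtain ⟨L', c1, c2, c3⟩ := exists_act L (fun f hf => hFr.E_sq hf) hN (hYE hy₁) (hYE hy₂) (hVE ht'V)
    v1 v2 w1 w2 w3 hM hcm
  have hctY : c * t ∉ Y := by
    intro h
    apply T.t1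
    apply hF.inf_eq _ T.tM
    have h1 : t = c * (c * t) := by rw [← mul_assoc, hF.ysq c hc, one_mul]
    rw [h1]
    exact mul_mem hc h
  have hctE : c * t ∈ Y ⊔ V := mul_mem (hYE hc) (hVE htV)
  obtain ⟨d1, d2⟩ := hFr.y_faith hctE hctY hK L' hN c2
  have hYV : ∀ y ∈ Y, IsV (L'.φ y) := by
    intro y hy
    rcases mem_of_four hF.ycard hy₁ hy₂ n1 n2 n12 (hF.ysq _ hy₁) hy with rfl | rfl | rfl | rfl
    · rw [L'.one]; exact IsV.one
    · rw [c3 _ v1]; exact v1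
    · rw [c3 _ v2]; exact v2
    · rw [L'.mul _ _ m1 m2, c3 _ v1, c3 _ v2]; exact v1.mul v2
  refine no7 V hVM hVsq hV4 (c * t) x K L' ⟨hctE, hctY, ?_, S, hN, c1, c2, ?_, d1, d2⟩
  · obtain ⟨y, hy, h⟩ := hxE
    rcases h with rfl | rfl
    · exact hYE hy
    · exact mul_mem (hYE hy) (hVE htV)
  · have h1 := (L'.fixes_iff hux.1).mpr hux
    rw [L'.mul _ _ (inv_mem (hYK u hu)) S.x_mem, L'.inv (hYK u hu), inv_mul_eq_one] at h1
    rw [← h1]
    exact hYV u hu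

/-- `s` fixes the 2-components of `C(c t)` moved by `O(C(y)) ∩ C(c t)`, `y ∈ Y#` -/
theorem fixes_of_core (no7 : No7 M Y) {t s t' c y z : G} {K : Subgroup G} (T : Tor M t s t') (hc : c ∈ Y)
    (hK : IsComp (centralizer ({c * t} : Set G)) K) (hy : y ∈ Y) (hy1 : y ≠ 1)
    (hz : z ∈ core (centralizer ({y} : Set G))) (hzc : z ∈ centralizer ({c * t} : Set G))
    (hf : ¬ Fixes z K) : Fixes s K := by
  have hct : c * t ≠ 1 := by
    intro h
    have h1 : c = t := by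
      rw [eq_inv_of_mul_eq_one_left h, inv_eq_of_mul_eq_one_left T.tt]
    exact T.t1 (hF.inf_eq (h1 ▸ hc) T.tM)
  have S : IsTriple y (c * t) K := ⟨order_two (hF.ysq y hy) hy1,
    order_two (hF.sq_mul hc T.tM T.tt) hct, (hF.comm_ct hy hc T.tM).symm, hK, z, hz, hzc, hf⟩
  rcases hF.rep _ _ _ S with ⟨F, _, _, ⟨R⟩⟩ | ⟨⟨L₀⟩⟩
  · exact hF.fixes_of_pgl T hc hK R hy S.x_mem S.not_fixes (WBTriple.mem_PGL S R)
  · exact hF.fixes_of_lab no7 T hc L₀ S hy (by rw [inv_mul_cancel]; exact fixes_one K)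
      ⟨y, hy, Or.inl rfl⟩

/-- **(A1)** -/
theorem comm_mem (no7 : No7 M Y) {t s t' c y z : G} (T : Tor M t s t') (hc : c ∈ Y) (hy : y ∈ Y) (hy1 : y ≠ 1)
    (hz : z ∈ core (centralizer ({y} : Set G))) (hzc : z ∈ centralizer ({c * t} : Set G)) :
    ⁅z, s⁆ ∈ core (centralizer ({c * t} : Set G)) := by
  have hsX : s ∈ centralizer ({c * t} : Set G) := mem_c (hF.comm_mt T.sM T.st hc)
  have he : ⁅z, s⁆ = z * (s * z⁻¹ * s⁻¹) := by
    rw [commutatorElement_def]; group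
  have hw : ⁅z, s⁆ ∈ core (centralizer ({y} : Set G)) := by
    rw [he]
    exact mul_mem hz (conj_core (mem_c (hF.ym y hy s T.sM).symm) (inv_mem hz))
  have hwc : ⁅z, s⁆ ∈ centralizer ({c * t} : Set G) := by
    rw [he]
    exact mul_mem hzc (mul_mem (mul_mem hsX (inv_mem hzc)) (inv_mem hsX))
  by_contra hn
  obtain ⟨K, hK, hf⟩ := Res.Base.exists_moved (H := centralizer ({c * t} : Set G)) (x := y)
    (mem_c (hF.comm_ct hy hc T.tM)) (order_two (hF.ysq y hy) hy1) (inf_le_core hw hwc) hn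
  have hyX : c * t * y = y * (c * t) := (hF.comm_ct hy hc T.tM).symm
  have key : ∀ K : Subgroup G, IsComp (centralizer ({c * t} : Set G)) K → ¬ Fixes z K →
      Fixes s K := fun K hK h => hF.fixes_of_core no7 T hc hK hy hy1 hz hzc h
  by_cases hzK : Fixes z K
  · have hK' := isComp_cj_of_mem hK (inv_mem hsX)
    have hK'K : cj s (cj s⁻¹ K) = K := by rw [← cj_mul, mul_inv_cancel, cj_one]
    have hzK' : ¬ Fixes z (cj s⁻¹ K) := by
      intro h
      apply hf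
      have h1 := (fixes_inv h).cj s
      rw [hK'K] at h1
      rw [he]
      exact fixes_mul hzK h1
    have h2 := (key _ hK' hzK').1
    rw [mem_normalizer_iff_cj, hK'K] at h2
    rw [← h2] at hzK'
    exact hzK' hzK
  · have hsK := key K hK hzK
    have hzN : z ∈ normalizer (K : Set G) :=
      mem_normalizer hK (mem_c (hF.comm_ct hy hc T.tM)) (order_two (hF.ysq y hy) hy1)
        (inf_le_core hz hzc)
    apply hf
    rw [commutatorElement_def]
    exact fixes_mul (fixes_conj hsK hzN) (fixes_inv hsK)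

/-- **(A2)** -/
theorem mem_core (no7 : No7 M Y) {t s t' c c' : G} (T : Tor M t s t') (hc' : c' ∈ Y)
    (hs : s ∈ core (centralizer ({c' * t} : Set G))) (hc : c ∈ Y) :
    s ∈ core (centralizer ({c * t} : Set G)) := by
  by_cases hcc : c = c'
  · rw [hcc]; exact hs
  by_contra hn
  have hne1 : ∀ c ∈ Y, c * t ≠ 1 := by
    intro c hc h
    have h1 : c = t := by
      rw [eq_inv_of_mul_eq_one_left h, inv_eq_of_mul_eq_one_left T.tt]
    exact T.t1 (hF.inf_eq (h1 ▸ hc) T.tM)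
  have hsX : s ∈ centralizer ({c * t} : Set G) := mem_c (hF.comm_mt T.sM T.st hc)
  have hcomm : c * t * (c' * t) = c' * t * (c * t) := by
    have h1 : c' * t = t * c' := hF.ym c' hc' t T.tM
    have h2 : c * t = t * c := hF.ym c hc t T.tM
    calc c * t * (c' * t) = c * t * (t * c') := by rw [h1]
      _ = c * (t * t) * c' := by group
      _ = c' * c := by rw [T.tt, mul_one, comm_of_sq hF.ysq hc hc']
      _ = c' * (t * t) * c := by rw [T.tt, mul_one]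
      _ = c' * t * (t * c) := by group
      _ = c' * t * (c * t) := by rw [h2]
  have ho : orderOf (c' * t) = 2 := order_two (hF.sq_mul hc' T.tM T.tt) (hne1 c' hc')
  obtain ⟨K, hK, hf⟩ := Res.Base.exists_moved (H := centralizer ({c * t} : Set G)) (x := c' * t)
    (mem_c hcomm.symm) ho (inf_le_core hs hsX) hn
  have S : IsTriple (c' * t) (c * t) K := ⟨ho,
    order_two (hF.sq_mul hc T.tM T.tt) (hne1 c hc), hcomm, hK, s, hs, hsX, hf⟩
  have hcK : Fixes (c * t) K := fixes_self' hK.le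
  have hy : c' * c ∈ Y := mul_mem hc' hc
  have he : c' * c = c' * t * (c * t) := by
    have h2 : c * t = t * c := hF.ym c hc t T.tM
    calc c' * c = c' * (t * t) * c := by rw [T.tt, mul_one]
      _ = c' * t * (t * c) := by group
      _ = _ := by rw [h2]
  have hyK : c' * c ∈ normalizer (K : Set G) := by
    rw [he]
    exact mul_mem S.x_mem hcK.1
  have hact : act K ⟨c' * c, hyK⟩ = act K ⟨c' * t, S.x_mem⟩ := by
    rw [act_congr hyK he, act_mul S.x_mem hcK.1, (act_eq_one_iff hcK.1).mpr hcK, mul_one]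
  apply hf
  rcases hF.rep _ _ _ S with ⟨F, _, _, ⟨R⟩⟩ | ⟨⟨L₀⟩⟩
  swap
  · refine hF.fixes_of_lab no7 T hc L₀ S hy ?_ ⟨c', hc', Or.inr rfl⟩
    have h1 : (c' * c)⁻¹ * (c' * t) = c⁻¹ * t := by group
    rw [h1, inv_eq_of_mul_eq_one_left (hF.ysq c hc)]
    exact hcK
  refine hF.fixes_of_pgl T hc hK R hy hyK ?_ ?_
  · intro h
    rw [← act_eq_one_iff hyK, hact, act_eq_one_iff] at h
    exact S.not_fixes h
  · rw [hact]
    exact WBTriple.mem_PGL S R

end YFrame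

end Cfsg.Agent.UGT.L2Inner
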