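import Cfsg.Agent.UGT.L2Inner.Bad7

/-!
# Permutations of seven points

* `perm_eq`, `Fx`, `Fx.cases`: permutations fixing `0, 1, 2, 3`.
* `exists_isV`: permutations commuting with `V₄`.
* `isV_of_fix`: involutions with fixed points `4, 5, 6`.
* `odd_comm`: elements of odd order commuting with a four-group.
* `relab`, `exists_three`: change of labels.
-/

set_option autoImplicit false

open Cfsg Subgroup Equiv Equiv.Perm
open Cfsg.Agent.UAlt

namespace Cfsg.Agent.UGT.L2Inner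

theorem perm_eq {e f : P7} (h0 : e 0 = f 0) (h1 : e 1 = f 1) (h2 : e 2 = f 2) (h3 : e 3 = f 3)
    (h4 : e 4 = f 4) (h5 : e 5 = f 5) (h6 : e 6 = f 6) : e = f := by
  apply Equiv.ext
  intro i
  fin_cases i
  · exact h0
  · exact h1
  · exact h2
  · exact h3
  · exact h4
  · exact h5
  · exact h6

theorem IsV.rec4 {σ : P7} (h : IsV σ) {p : P7 → Prop} (h0 : p 1) (h1 : p b1) (h2 : p b2)
    (h3 : p b3) : p σ := by
  rcases h with rfl | rfl | rfl | rfl <;> assumption

theorem IsV.one : IsV 1 := Or.inl rfl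

theorem IsV.mul {σ τ : P7} (h : IsV σ) (h' : IsV τ) : IsV (σ * τ) := by
  unfold IsV at *
  rcases h with rfl | rfl | rfl | rfl <;> rcases h' with rfl | rfl | rfl | rfl <;> decide

theorem IsV.sq {σ : P7} (h : IsV σ) : σ * σ = 1 := by
  rcases h with rfl | rfl | rfl | rfl <;> decide

theorem IsV.comm {σ τ : P7} (h : IsV σ) (h' : IsV τ) : σ * τ = τ * σ := by
  rcases h with rfl | rfl | rfl | rfl <;> rcases h' with rfl | rfl | rfl | rfl <;> decide

theorem IsV.comm_ta {σ : P7} (h : IsV σ) : σ * ta = ta * σ := by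
  rcases h with rfl | rfl | rfl | rfl <;> decide

theorem ta_sq7 : ta * ta = 1 := by decide

/-- `e` fixes `0, 1, 2, 3` -/
def Fx (e : P7) : Prop := e 0 = 0 ∧ e 1 = 1 ∧ e 2 = 2 ∧ e 3 = 3

theorem ge_key : ∀ a : Fin 7, a ≠ 0 → a ≠ 1 → a ≠ 2 → a ≠ 3 → 4 ≤ a := by decide

set_option synthInstance.maxSize 1024 in
set_option synthInstance.maxHeartbeats 200000 in
theorem three_key : ∀ a b c : Fin 7, 4 ≤ a → 4 ≤ b → 4 ≤ c → a ≠ b → a ≠ c → b ≠ c →
      (a = 4 ∧ b = 5 ∧ c = 6) ∨ (a = 5 ∧ b = 4 ∧ c = 6) ∨ (a = 6 ∧ b = 5 ∧ c = 4) ∨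
      (a = 4 ∧ b = 6 ∧ c = 5) ∨ (a = 5 ∧ b = 6 ∧ c = 4) ∨ (a = 6 ∧ b = 4 ∧ c = 5) := by
  decide

theorem Fx.cases {e : P7} (h : Fx e) : e = 1 ∨ e = ta ∨ e = swap 4 6 ∨ e = swap 5 6 ∨
    e = swap 4 5 * swap 5 6 ∨ e = swap 5 6 * swap 4 5 := by
  obtain ⟨h0, h1, h2, h3⟩ := h
  have inj : ∀ {i j : Fin 7}, i ≠ j → e i ≠ e j := fun hij h => hij (e.injective h)
  have n : ∀ i : Fin 7, i ≠ 0 → i ≠ 1 → i ≠ 2 → i ≠ 3 → e i ≠ 0 ∧ e i ≠ 1 ∧ e i ≠ 2 ∧ e i ≠ 3 := by
    intro i i0 i1 i2 i3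
    refine ⟨?_, ?_, ?_, ?_⟩
    · intro h; rw [← h0] at h; exact i0 (e.injective h)
    · intro h; rw [← h1] at h; exact i1 (e.injective h)
    · intro h; rw [← h2] at h; exact i2 (e.injective h)
    · intro h; rw [← h3] at h; exact i3 (e.injective h)
  obtain ⟨a0, a1, a2, a3⟩ := n 4 (by decide) (by decide) (by decide) (by decide)
  obtain ⟨c0, c1, c2, c3⟩ := n 5 (by decide) (by decide) (by decide) (by decide)
  obtain ⟨d0, d1, d2, d3⟩ := n 6 (by decide) (by decide) (by decide) (by decide)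
  rcases three_key _ _ _ (ge_key _ a0 a1 a2 a3) (ge_key _ c0 c1 c2 c3) (ge_key _ d0 d1 d2 d3)
    (inj (by decide)) (inj (by decide)) (inj (by decide)) with ⟨h4, h5, h6⟩ | ⟨h4, h5, h6⟩ | ⟨h4, h5, h6⟩ | ⟨h4, h5, h6⟩ |
    ⟨h4, h5, h6⟩ | ⟨h4, h5, h6⟩
  · left
    apply perm_eq <;> simp only [h0, h1, h2, h3, h4, h5, h6] <;> decide
  · right; left
    apply perm_eq <;> simp only [h0, h1, h2, h3, h4, h5, h6] <;> decide
  · right; right; left
    apply perm_eq <;> simp only [h0, h1, h2, h3, h4, h5, h6] <;> decide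
  · right; right; right; left
    apply perm_eq <;> simp only [h0, h1, h2, h3, h4, h5, h6] <;> decide
  · right; right; right; right; left
    apply perm_eq <;> simp only [h0, h1, h2, h3, h4, h5, h6] <;> decide
  · right; right; right; right; right
    apply perm_eq <;> simp only [h0, h1, h2, h3, h4, h5, h6] <;> decide

theorem four_key : ∀ a : Fin 7, b1 a ≠ a → a = 0 ∨ a = 1 ∨ a = 2 ∨ a = 3 := by
  decide

/-- permutations commuting with `V₄` -/
theorem exists_isV {e : P7} (h1 : e * b1 = b1 * e) (h2 : e * b2 = b2 * e) :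
    ∃ v, IsV v ∧ Fx (v * e) := by
  have a1 : ∀ i, e (b1 i) = b1 (e i) := fun i => congrArg (fun z : P7 => z i) h1
  have a2 : ∀ i, e (b2 i) = b2 (e i) := fun i => congrArg (fun z : P7 => z i) h2
  have e1 : e 1 = b1 (e 0) := by rw [← a1]; rfl
  have e2 : e 2 = b2 (e 0) := by rw [← a2]; rfl
  have e3 : e 3 = b2 (b1 (e 0)) := by rw [← a1, ← a2]; rfl
  have h0 : b1 (e 0) ≠ e 0 := by
    rw [← e1]
    exact fun h => absurd (e.injective h) (by decide)
  rcases four_key _ h0 with h | h | h | h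
  · exact ⟨1, Or.inl rfl, by
      refine ⟨?_, ?_, ?_, ?_⟩ <;> simp only [Perm.mul_apply, e1, e2, e3, h] <;> decide⟩
  · exact ⟨b1, Or.inr (Or.inl rfl), by
      refine ⟨?_, ?_, ?_, ?_⟩ <;> simp only [Perm.mul_apply, e1, e2, e3, h] <;> decide⟩
  · exact ⟨b2, Or.inr (Or.inr (Or.inl rfl)), by
      refine ⟨?_, ?_, ?_, ?_⟩ <;> simp only [Perm.mul_apply, e1, e2, e3, h] <;> decide⟩
  · exact ⟨b3, Or.inr (Or.inr (Or.inr rfl)), by
      refine ⟨?_, ?_, ?_, ?_⟩ <;> simp only [Perm.mul_apply, e1, e2, e3, h] <;> decide⟩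

theorem fix_key0 : ∀ a i : Fin 7, i < 4 → a ≠ i → a ≠ 4 → a ≠ 5 → a ≠ 6 → a < 4 ∧ a ≠ i := by
  decide

set_option synthInstance.maxSize 1024 in
set_option synthInstance.maxHeartbeats 200000 in
theorem fix_key : ∀ a b c d : Fin 7, (a < 4 ∧ a ≠ 0) → (b < 4 ∧ b ≠ 1) → (c < 4 ∧ c ≠ 2) →
    (d < 4 ∧ d ≠ 3) → (a = 1 → b = 0) → (a = 2 → c = 0) → (a = 3 → d = 0) → [a, b, c, d].Nodup →
    (a = 1 ∧ b = 0 ∧ c = 3 ∧ d = 2) ∨ (a = 2 ∧ b = 3 ∧ c = 0 ∧ d = 1) ∨
      (a = 3 ∧ b = 2 ∧ c = 1 ∧ d = 0) := by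
  decide +kernel

/-- involutions with fixed points `4, 5, 6` -/
theorem isV_of_fix {e : P7} (he : e * e = 1) (h : ∀ i, e i = i ↔ i = 4 ∨ i = 5 ∨ i = 6) :
    IsV e ∧ e ≠ 1 := by
  have h4 : e 4 = 4 := (h 4).mpr (by decide)
  have h5 : e 5 = 5 := (h 5).mpr (by decide)
  have h6 : e 6 = 6 := (h 6).mpr (by decide)
  have inj : ∀ {i j : Fin 7}, i ≠ j → e i ≠ e j := fun hij h => hij (e.injective h)
  have hsq : ∀ i, e (e i) = i := fun i => congrArg (fun z : P7 => z i) he
  have nf : ∀ i, ¬ (i = 4 ∨ i = 5 ∨ i = 6) → e i ≠ i ∧ e i ≠ 4 ∧ e i ≠ 5 ∧ e i ≠ 6 := by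
    intro i hi
    refine ⟨fun h' => hi ((h i).mp h'), ?_, ?_, ?_⟩
    · intro h'; rw [← h4] at h'; exact hi (Or.inl (e.injective h'))
    · intro h'; rw [← h5] at h'; exact hi (Or.inr (Or.inl (e.injective h')))
    · intro h'; rw [← h6] at h'; exact hi (Or.inr (Or.inr (e.injective h')))
  obtain ⟨p0, p4, p5, p6⟩ := nf 0 (by decide)
  obtain ⟨q0, q4, q5, q6⟩ := nf 1 (by decide)
  obtain ⟨r0, r4, r5, r6⟩ := nf 2 (by decide)
  obtain ⟨s0, s4, s5, s6⟩ := nf 3 (by decide)
  have k1 : e 0 = 1 → e 1 = 0 := fun h => by rw [← h]; exact hsq 0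
  have k2 : e 0 = 2 → e 2 = 0 := fun h => by rw [← h]; exact hsq 0
  have k3 : e 0 = 3 → e 3 = 0 := fun h => by rw [← h]; exact hsq 0
  constructor
  · have hnd : [e 0, e 1, e 2, e 3].Nodup := by
      have : [(0 : Fin 7), 1, 2, 3].Nodup := by decide
      exact this.map e.injective
    rcases fix_key _ _ _ _ (fix_key0 _ 0 (by decide) p0 p4 p5 p6)
      (fix_key0 _ 1 (by decide) q0 q4 q5 q6) (fix_key0 _ 2 (by decide) r0 r4 r5 r6)
      (fix_key0 _ 3 (by decide) s0 s4 s5 s6) k1 k2 k3 hnd with ⟨h0, h1, h2, h3⟩ | ⟨h0, h1, h2, h3⟩ | ⟨h0, h1, h2, h3⟩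
    · right; left
      apply perm_eq <;> simp only [h0, h1, h2, h3, h4, h5, h6] <;> decide
    · right; right; left
      apply perm_eq <;> simp only [h0, h1, h2, h3, h4, h5, h6] <;> decide
    · right; right; right
      apply perm_eq <;> simp only [h0, h1, h2, h3, h4, h5, h6] <;> decide
  · rintro rfl
    exact p0 rfl

section odd

/-- elements of odd order have no orbits of length two -/
theorem fix_of_sq {α : Type*} {σ : Perm α} (ho : Odd (orderOf σ)) {p : α} (h : σ (σ p) = p) :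
    σ p = p := by
  obtain ⟨k, hk⟩ := ho
  have h1 : ∀ n : ℕ, (σ ^ (2 * n)) p = p := by
    intro n
    induction n with
    | zero => simp
    | succ n ih =>
      rw [show 2 * (n + 1) = 2 * n + 1 + 1 by ring, pow_succ, pow_succ, Perm.mul_apply,
        Perm.mul_apply, h, ih]
  have h2 : (σ ^ (2 * k + 1)) p = p := by rw [← hk, pow_orderOf_eq_one, Perm.one_apply]
  rw [pow_succ', Perm.mul_apply, h1] at h2
  exact h2

variable {σ α β : P7}

/-- some involution of the four-group fixes a given point moved by `σ` -/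
theorem exists_fixes (ho : Odd (orderOf σ)) (hα : σ * α = α * σ) (hβ : σ * β = β * σ)
    (hαα : α * α = 1) (hββ : β * β = 1) (hαβ : α * β = β * α) {p : Fin 7} (hp : σ p ≠ p) :
    α p = p ∨ β p = p ∨ α (β p) = p := by
  by_contra hcon
  push Not at hcon
  obtain ⟨n1, n2, n3⟩ := hcon
  have ca : ∀ i, σ (α i) = α (σ i) := fun i => congrArg (fun z : P7 => z i) hα
  have cb : ∀ i, σ (β i) = β (σ i) := fun i => congrArg (fun z : P7 => z i) hβ
  have cab : ∀ i, α (β i) = β (α i) := fun i => congrArg (fun z : P7 => z i) hαβ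
  have aa : ∀ i, α (α i) = i := fun i => congrArg (fun z : P7 => z i) hαα
  have bb : ∀ i, β (β i) = i := fun i => congrArg (fun z : P7 => z i) hββ
  -- `γ p ≠ σ p` for `γ² = 1` commuting with `σ`
  have key : ∀ γ : P7, (∀ i, γ (γ i) = i) → (∀ i, σ (γ i) = γ (σ i)) → γ (σ p) ≠ p := by
    intro γ h1 h2 h3
    apply hp
    have h5 : γ p = σ p := by
      calc γ p = γ (γ (σ p)) := by rw [h3]
        _ = σ p := h1 _
    exact fix_of_sq ho (by rw [← h5, h2, h3])
  have k0 := key 1 (fun i => rfl) (fun i => rfl)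
  have k1 := key α aa ca
  have k2 := key β bb cb
  have k3 := key (α * β) (fun i => by
    rw [Perm.mul_apply, Perm.mul_apply, ← cab (β i), bb, aa]) (fun i => by
    rw [Perm.mul_apply, Perm.mul_apply, ca, cb])
  rw [Perm.one_apply] at k0
  rw [Perm.mul_apply] at k3
  -- eight distinct points
  have inj : Function.Injective σ := σ.injective
  have ia : Function.Injective α := α.injective
  have ib : Function.Injective β := β.injective
  have hnd : [p, α p, β p, α (β p), σ p, α (σ p), β (σ p), α (β (σ p))].Nodup := by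
    have e1 : p ≠ α p := fun h => n1 h.symm
    have e2 : p ≠ β p := fun h => n2 h.symm
    have e3 : p ≠ α (β p) := fun h => n3 h.symm
    have e4 : p ≠ σ p := fun h => k0 h.symm
    have e5 : p ≠ α (σ p) := fun h => k1 h.symm
    have e6 : p ≠ β (σ p) := fun h => k2 h.symm
    have e7 : p ≠ α (β (σ p)) := fun h => k3 h.symm
    have f1 : α p ≠ β p := fun h => n3 (by rw [← h, aa])
    have f2 : α p ≠ α (β p) := fun h => e2 (ia h)
    have f3 : α p ≠ σ p := fun h => e5 (by rw [← h, aa])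
    have f4 : α p ≠ α (σ p) := fun h => e4 (ia h)
    have f5 : α p ≠ β (σ p) := fun h => e7 (by rw [← h, aa])
    have f6 : α p ≠ α (β (σ p)) := fun h => e6 (ia h)
    have g1 : β p ≠ α (β p) := fun h => e1 (ib (h.trans (cab p)))
    have g2 : β p ≠ σ p := fun h => e6 (by rw [← h, bb])
    have g3 : β p ≠ α (σ p) := fun h => e7 (by rw [cab, ← h, bb])
    have g4 : β p ≠ β (σ p) := fun h => e4 (ib h)
    have g5 : β p ≠ α (β (σ p)) := fun h => e5 (ib (h.trans (cab _)))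
    have i1 : α (β p) ≠ σ p := fun h => e7 (by rw [cab, ← h, aa, bb])
    have i2 : α (β p) ≠ α (σ p) := fun h => g2 (ia h)
    have i3 : α (β p) ≠ β (σ p) := fun h => f3 (ib ((cab p).symm.trans h))
    have i4 : α (β p) ≠ α (β (σ p)) := fun h => g4 (ia h)
    have j1 : σ p ≠ α (σ p) := fun h => e1 (inj (h.trans (ca p).symm))
    have j2 : σ p ≠ β (σ p) := fun h => e2 (inj (h.trans (cb p).symm))
    have j3 : σ p ≠ α (β (σ p)) := fun h => e3 (inj (by rw [ca, cb]; exact h))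
    have l1 : α (σ p) ≠ β (σ p) := fun h => j3 (by rw [← h, aa])
    have l2 : α (σ p) ≠ α (β (σ p)) := fun h => j2 (ia h)
    have m1 : β (σ p) ≠ α (β (σ p)) := fun h => j1 (ib (h.trans (cab _)))
    simp only [List.nodup_cons, List.mem_cons, List.not_mem_nil, or_false, not_or,
      List.nodup_nil, and_true, not_false_eq_true]
    exact ⟨⟨e1, e2, e3, e4, e5, e6, e7⟩, ⟨f1, f2, f3, f4, f5, f6⟩, ⟨g1, g2, g3, g4, g5⟩,
      ⟨i1, i2, i3, i4⟩, ⟨j1, j2, j3⟩, ⟨l1, l2⟩, m1⟩
  have h8 := hnd.length_le_card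
  simp at h8

/-- `α p = p` implies `β p = p` -/
theorem fix_fix (ho : Odd (orderOf σ)) (hα : σ * α = α * σ) (hβ : σ * β = β * σ)
    (hββ : β * β = 1) (hαβ : α * β = β * α) (h3 : (fixIn Finset.univ α).card ≤ 3) {p : Fin 7}
    (hp : σ p ≠ p) (hαp : α p = p) : β p = p ∧ ∀ i, α i = i → i = p ∨ i = σ p ∨ i = σ (σ p) := by
  have ca : ∀ i, σ (α i) = α (σ i) := fun i => congrArg (fun z : P7 => z i) hα
  have cb : ∀ i, σ (β i) = β (σ i) := fun i => congrArg (fun z : P7 => z i) hβ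
  have cab : ∀ i, α (β i) = β (α i) := fun i => congrArg (fun z : P7 => z i) hαβ
  have bb : ∀ i, β (β i) = i := fun i => congrArg (fun z : P7 => z i) hββ
  have hsub : ({p, σ p, σ (σ p)} : Finset (Fin 7)) ⊆ fixIn Finset.univ α := by
    intro i hi
    simp only [Finset.mem_insert, Finset.mem_singleton] at hi
    rw [fixIn, Finset.mem_filter]
    refine ⟨Finset.mem_univ _, ?_⟩
    rcases hi with rfl | rfl | rfl
    · exact hαp
    · rw [← ca, hαp]
    · rw [← ca, ← ca, hαp]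
  have hc : ({p, σ p, σ (σ p)} : Finset (Fin 7)).card = 3 := by
    rw [Finset.card_eq_three]
    exact ⟨p, σ p, σ (σ p), fun h => hp h.symm, fun h => hp (fix_of_sq ho h.symm),
      fun h => hp (σ.injective h.symm), rfl⟩
  have heq := Finset.eq_of_subset_of_card_le hsub (by rw [hc]; exact h3)
  have hall : ∀ i, α i = i → i = p ∨ i = σ p ∨ i = σ (σ p) := by
    intro i hi
    have h : i ∈ fixIn Finset.univ α := by
      rw [fixIn, Finset.mem_filter]
      exact ⟨Finset.mem_univ _, hi⟩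
    rw [← heq] at h
    simpa using h
  refine ⟨?_, hall⟩
  rcases hall (β p) (by rw [cab, hαp]) with h | h | h
  · exact h
  · exfalso
    apply hp
    apply fix_of_sq ho
    have h5 := bb p
    rw [h, ← cb, h] at h5
    exact h5
  · exfalso
    apply hp
    apply fix_of_sq ho
    have h5 := bb p
    rw [h, ← cb, ← cb, h] at h5
    -- `σ⁴ p = p`
    have h6 : Odd (orderOf (σ * σ)) := by
      rw [← pow_two]
      exact Odd.of_dvd_nat ho (orderOf_pow_dvd 2)
    have h7 := fix_of_sq (σ := σ * σ) (p := p) h6 (by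
      rw [Perm.mul_apply, Perm.mul_apply]
      exact h5)
    rwa [Perm.mul_apply] at h7

/-- **elements of odd order commuting with a four-group without transpositions** -/
theorem odd_comm (ho : Odd (orderOf σ)) (hα : σ * α = α * σ) (hβ : σ * β = β * σ)
    (hαα : α * α = 1) (hββ : β * β = 1) (hαβ : α * β = β * α)
    (fa : (fixIn Finset.univ α).card ≤ 3) (fb : (fixIn Finset.univ β).card ≤ 3)
    (fab : (fixIn Finset.univ (α * β)).card ≤ 3) (hσ : σ ≠ 1) :
    (∀ i, σ i ≠ i ↔ α i = i) ∧ (∀ i, σ i ≠ i ↔ β i = i) ∧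
      ∃ p, σ p ≠ p ∧ ∀ i, σ i ≠ i ↔ i = p ∨ i = σ p ∨ i = σ (σ p) := by
  have bb : ∀ i, β (β i) = i := fun i => congrArg (fun z : P7 => z i) hββ
  have aa : ∀ i, α (α i) = i := fun i => congrArg (fun z : P7 => z i) hαα
  have cab : ∀ i, α (β i) = β (α i) := fun i => congrArg (fun z : P7 => z i) hαβ
  have hab : (α * β) * (α * β) = 1 := by
    calc (α * β) * (α * β) = α * (β * α) * β := by group
      _ = α * (α * β) * β := by rw [← hαβ]
      _ = (α * α) * (β * β) := by group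
      _ = 1 := by rw [hαα, hββ, one_mul]
  have hσab : σ * (α * β) = (α * β) * σ := by
    rw [← mul_assoc, hα, mul_assoc, hβ, mul_assoc]
  have key : ∀ p, σ p ≠ p → α p = p ∧ β p = p := by
    intro p hp
    rcases exists_fixes ho hα hβ hαα hββ hαβ hp with h | h | h
    · exact ⟨h, (fix_fix ho hα hβ hββ hαβ fa hp h).1⟩
    · exact ⟨(fix_fix ho hβ hα hαα hαβ.symm fb hp h).1, h⟩
    · have h1 := (fix_fix ho hσab hα hαα (by
        rw [mul_assoc, ← hαβ, ← mul_assoc]) fab hp (by rw [Perm.mul_apply]; exact h)).1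
      refine ⟨h1, ?_⟩
      have h2 := aa (β p)
      rw [h, h1] at h2
      exact h2.symm
  obtain ⟨p, hp⟩ : ∃ p, σ p ≠ p := by
    by_contra hcon
    push Not at hcon
    exact hσ (Equiv.ext hcon)
  have hmv : σ (σ p) ≠ σ p := fun h => hp (σ.injective h)
  have hmv2 : σ (σ (σ p)) ≠ σ (σ p) := fun h => hmv (σ.injective h)
  have ha := (fix_fix ho hα hβ hββ hαβ fa hp (key p hp).1).2
  have hb := (fix_fix ho hβ hα hαα hαβ.symm fb hp (key p hp).2).2
  have hback : ∀ i, i = p ∨ i = σ p ∨ i = σ (σ p) → σ i ≠ i := by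
    rintro i (rfl | rfl | rfl)
    · exact hp
    · exact hmv
    · exact hmv2
  refine ⟨fun i => ⟨fun h => (key i h).1, fun h => hback i (ha i h)⟩,
    fun i => ⟨fun h => (key i h).2, fun h => hback i (hb i h)⟩, p, hp, fun i =>
    ⟨fun h => ha i (key i h).1, hback i⟩⟩

end odd

/-- the parity of the number of fixed points of an involution -/
theorem card_fix_odd {σ : P7} (h : σ * σ = 1) :
    (fixIn Finset.univ σ).card ≠ 4 ∧ σ.support.card + (fixIn Finset.univ σ).card = 7 := by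
  have h1 : 2 ∣ σ.support.card := Equiv.Perm.two_dvd_card_support (by rw [pow_two, h])
  have h2 := Finset.card_filter_add_card_filter_not (s := (Finset.univ : Finset (Fin 7)))
    (p := fun i => σ i = i)
  rw [Finset.card_univ, Fintype.card_fin] at h2
  have h3 : (Finset.univ.filter fun i : Fin 7 => ¬ σ i = i) = σ.support := by
    ext i
    rw [Finset.mem_filter, Equiv.Perm.mem_support]
    simp
  rw [h3] at h2
  have h4 : (fixIn Finset.univ σ).card = (Finset.univ.filter fun i => σ i = i).card := rfl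
  rw [h4]
  constructor <;> omega

/-- elements of odd order fixing at least five points of seven -/
theorem eq_one_of_five {σ α : P7} (ho : Odd (orderOf σ))
    (hα : α * α = 1) (h5 : 5 ≤ (fixIn Finset.univ α).card) (h : ∀ i, α i = i → σ i = i) : σ = 1 := by
  by_contra hne
  obtain ⟨p, hp⟩ : ∃ p, σ p ≠ p := by
    by_contra hcon
    push Not at hcon
    exact hne (Equiv.ext hcon)
  have h1 : σ (σ p) ≠ σ p := fun h => hp (σ.injective h)
  have h2 : σ (σ p) ≠ p := fun h => hp (fix_of_sq ho h)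
  have h3 : σ (σ (σ p)) ≠ σ (σ p) := fun h => h1 (σ.injective h)
  have hsub : ({p, σ p, σ (σ p)} : Finset (Fin 7)) ⊆ α.support := by
    intro i hi
    simp only [Finset.mem_insert, Finset.mem_singleton] at hi
    rw [Equiv.Perm.mem_support]
    rcases hi with rfl | rfl | rfl
    · exact fun h' => hp (h _ h')
    · exact fun h' => h1 (h _ h')
    · exact fun h' => h3 (h _ h')
  have h4 := Finset.card_le_card hsub
  rw [Finset.card_eq_three.mpr ⟨p, σ p, σ (σ p), hp.symm, h2.symm, h1.symm, rfl⟩] at h4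
  have h6 := (card_fix_odd hα).2
  omega

/-! ### change of labels -/

variable {G : Type*} [Group G] {K : Subgroup G}

/-- change of labels -/
def relab (L : Lab K) (τ : P7) : Lab K where
  φ x := τ * L.φ x * τ⁻¹
  mul := (L.relabel τ).mul
  mem_sym := fun x hx i hi => absurd (Finset.mem_univ i) hi
  mem_alt := fun x hx => by
    have h := (L.relabel τ).mem_alt x hx
    exact ⟨h.1, fun i hi => absurd (Finset.mem_univ i) hi⟩
  lift := fun σ hσ => (L.relabel τ).lift σ ⟨hσ.1, fun i hi =>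
    absurd (Finset.mem_map.mpr ⟨τ.symm i, Finset.mem_univ _, τ.apply_symm_apply i⟩) hi⟩
  core_iff := (L.relabel τ).core_iff
  five := by decide

theorem relab_φ (L : Lab K) (τ : P7) (x : G) : (relab L τ).φ x = τ * L.φ x * τ⁻¹ := rfl

/-- a permutation taking three given points to `4, 5, 6` -/
theorem exists_three {p q r : Fin 7} (hpq : p ≠ q) (hpr : p ≠ r) (hqr : q ≠ r) :
    ∃ τ : P7, τ p = 4 ∧ τ q = 5 ∧ τ r = 6 := by
  obtain ⟨τ₁, h1⟩ : ∃ τ : P7, τ p = 4 := ⟨swap p 4, swap_apply_left _ _⟩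
  have e2 : τ₁ q ≠ 4 := fun h => hpq (τ₁.injective (h1.trans h.symm))
  obtain ⟨τ₂, h2, h2'⟩ : ∃ τ : P7, τ 4 = 4 ∧ τ (τ₁ q) = 5 :=
    ⟨swap (τ₁ q) 5, swap_apply_of_ne_of_ne (Ne.symm e2) (by decide), swap_apply_left _ _⟩
  have e3 : τ₂ (τ₁ r) ≠ 4 := by
    intro h
    apply hpr
    apply τ₁.injective
    apply τ₂.injective
    rw [h1, h2, h]
  have e4 : τ₂ (τ₁ r) ≠ 5 := by
    intro h
    apply hqr
    apply τ₁.injective
    apply τ₂.injective
    rw [h2', h]
  refine ⟨swap (τ₂ (τ₁ r)) 6 * τ₂ * τ₁, ?_, ?_, ?_⟩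
  · rw [Perm.mul_apply, Perm.mul_apply, h1, h2]
    exact swap_apply_of_ne_of_ne (Ne.symm e3) (by decide)
  · rw [Perm.mul_apply, Perm.mul_apply, h2']
    exact swap_apply_of_ne_of_ne (Ne.symm e4) (by decide)
  · rw [Perm.mul_apply, Perm.mul_apply]
    exact swap_apply_left _ _

end Cfsg.Agent.UGT.L2Inner
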