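import Cfsg.Agent.UGT.A7.PumpSeven
import Cfsg.Agent.UGT.L2Inner.Bad7
import Cfsg.Agent.UGT.TMCBase

/-!
# The bad `A₇`-configuration: the core of step (7) of bb #12930

`(x, t, K)` a triple, `K / O(K) ≅ A₇`, `y ∈ {x, x t}` an involution, `r` an involution commuting with `t`, `y` and
fixing `K / O(K)`; `I` a 2-component of `C(y, r)` which is not `A₇`; `ρ ∈ I` acts on `K` such that it does not commute
with any 3-cycle on the fixed points of `x`. Then the element `d ∈ O(C(x)) ∩ C(t, r)` moving `K` gives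
`[d, ρ] ∈ I` which acts nontrivially on `K`; the pump-ups of `K` and `I` in `C(r)` are the same and `y` would act as
a transposition.
-/

set_option autoImplicit false

open Cfsg Subgroup Equiv Equiv.Perm
open Cfsg.Agent.SignalizersComponents Cfsg.Agent.Lib
open Cfsg.Agent.SignalizersComponents.IntrinsicBasic
open Cfsg.Agent.UAlt
open Cfsg.Agent.Intrinsic.Basic Cfsg.Agent.Intrinsic.Cen Cfsg.Agent.Intrinsic.Diag
open Cfsg.Agent.McLLyComp.Act
open Cfsg.Agent.UGT.Triple Cfsg.Agent.UGT.Iface Cfsg.Agent.UGT.TriBase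
open Cfsg.Agent.UGT.PumpGen
open scoped commutatorElement

namespace Cfsg.Agent.UGT.L2Inner

universe u

/-- labels of diagonals -/
theorem lab_diagBC {G : Type*} [Group G] [Finite G] {X N : Subgroup G} {v : G} (hN : IsComp X N) (hvX : v ∈ X)
    (hv : v * v = 1) (hne : cj v N ≠ N) (M : Lab N) : Nonempty (Lab (diag X N v)) := by
  obtain ⟨-, -, -, -, f, hf, hfk, -, -⟩ := exists_diag hN hvX hv hne
  have hs' : IsSimpleGroup ↥(alternatingGroup ↥(Finset.univ : Finset (Fin 7))) :=
    alternatingGroup.isSimpleGroup (by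
      rw [Nat.card_eq_fintype_card, Fintype.card_coe, Finset.card_univ, Fintype.card_fin]
      decide)
  have hs'' : IsSimpleGroup (↥N ⧸ oddCore ↥N) := M.quotEquiv.isSimpleGroup
  have hc : center (↥N ⧸ oddCore ↥N) = ⊥ := by
    rcases (inferInstance : (center (↥N ⧸ oddCore ↥N)).Normal).eq_bot_or_eq_top with h | h
    · exact h
    · exfalso
      have h1 : ∀ a b : ↥N ⧸ oddCore ↥N, a * b = b * a := fun a b =>
        mem_center_iff.1 (h ▸ mem_top b : b ∈ center _) a
      have h2 : (swap 0 1 * swap 2 3 : Perm (Fin 7)) ∈ alt (Finset.univ : Finset (Fin 7)) := by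
        rw [alt_univ, Equiv.Perm.mem_alternatingGroup]; decide
      have h3 : (swap 0 1 * swap 1 2 : Perm (Fin 7)) ∈ alt (Finset.univ : Finset (Fin 7)) := by
        rw [alt_univ, Equiv.Perm.mem_alternatingGroup]; decide
      obtain ⟨a, ha, hφa⟩ := M.lift _ h2
      obtain ⟨b, hb, hφb⟩ := M.lift _ h3
      have h4 := h1 (QuotientGroup.mk ⟨a, ha⟩) (QuotientGroup.mk ⟨b, hb⟩)
      rw [← QuotientGroup.mk_mul, ← QuotientGroup.mk_mul, QuotientGroup.eq] at h4
      have h5 : (a * b)⁻¹ * (b * a) ∈ core N := ⟨_, h4, rfl⟩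
      rw [← M.eq_iff (mul_mem ha hb) (mul_mem hb ha), M.mul _ _ (le_normalizer ha) (le_normalizer hb),
        M.mul _ _ (le_normalizer hb) (le_normalizer ha), hφa, hφb] at h5
      revert h5
      decide
  rw [hc, le_bot_iff] at hfk
  let e : (↥N ⧸ oddCore ↥N) ≃* (↥(diag X N v) ⧸ oddCore ↥(diag X N v)) :=
    MulEquiv.ofBijective f ⟨(MonoidHom.ker_eq_bot_iff f).mp hfk, hf⟩
  obtain ⟨M', -⟩ := A7.PumpSeven.exists_transfer M (by simp) e
  exact ⟨M'⟩

variable {G : Type u} [Group G] [Finite G]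

/-- **The core of (7).** -/
theorem bad_core
    (hW : ∀ (x a : G) (L : Subgroup G), IsTriple x a L → IsL2 (Bar L) ∨ IsAlt 7 (Bar L))
    {t x y r ρ : G} {K I : Subgroup G} (T : IsTriple x t K) (Mo : Lab K)
    (hyy : y * y = 1) (hx : x = y ∨ x = y * t)
    (hr : orderOf r = 2) (hrt : r * t = t * r) (hry : r * y = y * r) (hrK : Fixes r K)
    (hρt : ρ * t = t * ρ) (hρK : ρ ∈ normalizer (K : Set G))
    (hρφ : ∀ σ ∈ alt (fixIn (Finset.univ : Finset (Fin 7)) (Mo.φ x)), σ ≠ 1 → σ * Mo.φ ρ ≠ Mo.φ ρ * σ)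
    (hI : IsComp (centralizer ({r} : Set G) ⊓ centralizer ({y} : Set G)) I) (hIL : ¬ Nonempty (Lab I))
    (hIρ : ρ ∈ I) (hIc : ∀ g, g * y = y * g → g * r = r * g → g * t = t * g → g * ρ * g⁻¹ ∈ I) : False := by
  have htt := sq_of_order T.inva
  have hrr := sq_of_order hr
  have hfT : Fixes t K := by
    refine ⟨?_, fun k hk => ?_⟩
    · rw [mem_normalizer_iff_cj]
      exact TMCBase.cj_of_comm T.comp.le
    · have h1 := comm_c (T.comp.le hk)
      have h2 : ⁅t, k⁆ = 1 := by rw [commutatorElement_eq_one_iff_mul_comm]; exact h1.symm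
      rw [h2]
      exact one_mem _
  have hφt : Mo.φ t = 1 := (Mo.fixes_iff hfT.1).2 hfT
  have hxN := T.x_mem
  have hyx : y = x ∨ y = x * t := by
    rcases hx with h | h
    · exact Or.inl h.symm
    · right; rw [h, mul_assoc, htt, mul_one]
  have hyN : y ∈ normalizer (K : Set G) := by
    rcases hyx with h | h
    · rw [h]; exact hxN
    · rw [h]; exact mul_mem hxN hfT.1
  have hφy : Mo.φ y = Mo.φ x := by
    rcases hyx with h | h
    · rw [h]
    · rw [h, Mo.mul _ _ hxN hfT.1, hφt, mul_one]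
  have hrx : r * x = x * r := by
    have c1 : Commute r y := hry
    have c2 : Commute r t := hrt
    rcases hx with h | h
    · rw [h]; exact hry
    · rw [h]; exact (c1.mul_right c2).eq
  obtain ⟨h3, hDD⟩ := RedAlt.three_fix T Mo
  -- the element `d`
  obtain ⟨d, hd, hda, hdc, hdf⟩ := T.exists_bad hr hrt hrx hrK
  have hdN := T.mem_normalizer_of_core hd hda
  have hdt : d * t = t * d := comm_c hda
  have hdr : d * r = r * d := comm_c hdc
  have hdx : d * x = x * d := comm_c (core_le _ hd)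
  have hdy : d * y = y * d := by
    have c1 : Commute d x := hdx
    have c2 : Commute d t := hdt
    rcases hyx with h | h
    · rw [h]; exact hdx
    · rw [h]; exact (c1.mul_right c2).eq
  have hdφ : Mo.φ d ∈ alt (fixIn (Finset.univ : Finset (Fin 7)) (Mo.φ x)) := hDD d ⟨hd, hda⟩
  have hdφ1 : Mo.φ d ≠ 1 := fun h => hdf ((Mo.fixes_iff hdN).1 h)
  -- the commutator
  obtain ⟨m, hm⟩ : ∃ m, m = d * ρ * d⁻¹ * ρ⁻¹ := ⟨_, rfl⟩
  have hmI : m ∈ I := by
    rw [hm]
    exact I.mul_mem (hIc d hdy hdr hdt) (I.inv_mem hIρ)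
  have hmN : m ∈ normalizer (K : Set G) := by
    rw [hm]
    exact mul_mem (mul_mem (mul_mem hdN hρK) (inv_mem hdN)) (inv_mem hρK)
  have hmφ : Mo.φ m ≠ 1 := by
    rw [hm, Mo.mul _ _ (mul_mem (mul_mem hdN hρK) (inv_mem hdN)) (inv_mem hρK), Mo.conj hdN hρK, Mo.inv hρK,
      Ne, mul_inv_eq_one, mul_inv_eq_iff_eq_mul]
    exact hρφ _ hdφ hdφ1
  have hmt : m * t = t * m := by
    have c1 : Commute d t := hdt
    have c2 : Commute ρ t := hρt
    rw [hm]
    exact (((c1.mul_left c2).mul_left c1.inv_left).mul_left c2.inv_left).eq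
  have hmr : m * r = r * m := comm_c (hI.le hmI).1
  -- the pump-up of `K`
  obtain ⟨K1, M1, T1, hM1, hor⟩ := A7.PumpSeven.pump7 hW Mo T hr hrt hrx hrK
  have hor' : cen K r ≤ K1 ∨ (cj t K1 ≠ K1 ∧ cen K r = diag (centralizer ({r} : Set G)) K1 t) := by
    rcases hor with h | h
    · exact Or.inl h.2
    · exact Or.inr h
  obtain ⟨hcen, hsup⟩ := isComp_cen T.comp (mem_c hrt) hrr hrK
  have hcen' : IsComp (centralizer ({r} : Set G) ⊓ centralizer ({t} : Set G)) (cen K r) := by
    rw [inf_comm]; exact hcen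
  have htr : t * r = r * t := hrt.symm
  -- `m` does not fix `K1`
  have hm1 : ¬ Fixes m K1 := by
    intro h
    have h1 : Fixes m (cen K r) := fixes_of_pump htt hrt hcen' T1.comp (mem_c hmr) (mem_c hmt) h hor'
    have h2 : Fixes m K := (fixes_iff_of_sup hsup h1.1 hmN).1 h1
    exact hmφ ((Mo.fixes_iff hmN).2 h2)
  -- the pump-up of `I`
  obtain ⟨N, hN, -, hN'⟩ := McLLyComp.PumpT.exists_pump (X := centralizer ({r} : Set G)) (mem_c hry.symm) hyy hI
  -- `y` normalises `cen K r`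
  have hyC : ∀ z ∈ cen K r, y * z * y⁻¹ ∈ cen K r := by
    have h1 := mem_normalizer_cen hyN hry.symm
    exact fun z hz => (mem_normalizer_iff.1 h1 z).1 hz
  have hCN : cen K r ≤ normalizer (K1 : Set G) := by
    rcases hor' with h | h
    · exact h.trans le_normalizer
    · exact (isComp_le_L2 (mem_c htr) htt hcen').trans T1.comp.L2_le_normalizer
  have hCK : cen K r ≤ K := cen_le K r
  rcases hN' with ⟨hyNN, hIN⟩ | ⟨hne, hId⟩
  · -- `I ≤ N`, `N` is `y`-invariant
    have hKN : K1 = N := by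
      by_contra hne
      exact hm1 (T1.comp.fixes_of_mem hN hne (hIN hmI))
    subst hKN
    have h1 : IsComp (K1 ⊓ centralizer ({y} : Set G)) I :=
      hI.restrict (inf_le_inf_right _ hN.le) (le_inf hIN (hI.le.trans inf_le_right))
    obtain ⟨-, h5⟩ := (M1.isComp_iff_cmp hyNN hyy).1 h1
    -- but `y` acts on `K1` as on `K`
    have h6 : M1.φ y = Mo.φ y := by
      have h7 : ∀ σ ∈ alt (Finset.univ : Finset (Fin 7)), ((Mo.φ y)⁻¹ * M1.φ y) * σ = σ * ((Mo.φ y)⁻¹ * M1.φ y) := by
        intro σ hσ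
        obtain ⟨k, hk, rfl⟩ := Mo.lift σ hσ
        rw [← hsup] at hk
        obtain ⟨z, hz, hzk⟩ := exists_mul_of_sup hsup (by rw [← hsup]; exact hk)
        have hkK : k ∈ K := by rw [← hsup]; exact hk
        have h8 : Mo.φ k = Mo.φ z := (Mo.eq_iff (hCK hz) hkK).2 hzk ▸ rfl
        have h9 := hM1 z hz
        have h10 := hM1 _ (hyC z hz)
        rw [M1.conj hyNN (hCN hz), Mo.conj hyN (le_normalizer (hCK hz)), h9] at h10
        rw [h8]
        calc (Mo.φ y)⁻¹ * M1.φ y * Mo.φ z = (Mo.φ y)⁻¹ * (M1.φ y * Mo.φ z * (M1.φ y)⁻¹) * M1.φ y := by group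
          _ = (Mo.φ y)⁻¹ * (Mo.φ y * Mo.φ z * (Mo.φ y)⁻¹) * M1.φ y := by rw [h10]
          _ = _ := by group
      have h11 : (Mo.φ y)⁻¹ * M1.φ y = 1 := by
        ext a
        rw [apply_of_comm_alt (S := (Finset.univ : Finset (Fin 7))) (by simp) (fun σ hσ => h7 σ hσ)
          (Finset.mem_univ a)]
        rfl
      exact (inv_mul_eq_one.1 h11).symm
    rw [h6, hφy, h3] at h5
    omega
  · -- `I` diagonal
    have hKN : K1 = N ∨ K1 = cj y N := by
      by_contra hcon
      rw [not_or] at hcon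
      apply hm1
      rw [hId] at hmI
      exact LemG.fixes_of_comm_core T1.comp (mem_c hmr) fun l hl =>
        comm_diag_of_ne hN (mem_c hry.symm) hyy hne T1.comp hcon.1 hcon.2 hmI hl
    apply hIL
    rw [hId]
    rcases hKN with h | h
    · subst h
      exact lab_diagBC hN (mem_c hry.symm) hyy hne M1
    · have h1 : N = cj y K1 := by rw [h]; exact (TMCBase.cj_cj_self hyy).symm
      have M2 : Lab N := by
        rw [h1]
        exact M1.cj y
      exact lab_diagBC hN (mem_c hry.symm) hyy hne M2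

end Cfsg.Agent.UGT.L2Inner
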