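import Cfsg.Agent.UGT.L2Inner.BadOut
import Cfsg.Agent.UGT.L2Inner.P3Elem
import Cfsg.Agent.UGT.A7.MaxRank
import Cfsg.Agent.UGT.A7.RankEnds
import Cfsg.Agent.UGT.A7.Star
import Cfsg.Agent.UGT.A7.WZero

/-!
# UGT, inner L2 with `A₇`-triples present: (6), (8) of bb #12930 and Lemma D

* `Out.norm`: `K` is normal in `C(t)`.
* `Out.rank`: `Out` and `Seven` imply sectional 2-rank at most 4.
-/

set_option autoImplicit false
set_option linter.unusedSectionVars false

open Cfsg Subgroup Equiv Equiv.Perm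
open Cfsg.Agent.UAlt
open Cfsg.Agent.SignalizersComponents Cfsg.Agent.Lib
open Cfsg.Agent.SignalizersComponents.IntrinsicBasic
open Cfsg.Agent.SignalizersComponents.PLayerAut
open Cfsg.Agent.Intrinsic.Basic Cfsg.Agent.Intrinsic.Cen Cfsg.Agent.Intrinsic.Diag
open Cfsg.Agent.McLLyComp.Act
open Cfsg.Agent.UGT.Triple Cfsg.Agent.UGT.TriBase
open Cfsg.Agent.UGT.A7 (TwoP EightS W0 P0 z0 w0)
open scoped commutatorElement

namespace Cfsg.Agent.UGT.L2Inner

/-! ### permutations -/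

theorem ta_mul_self : ta * ta = 1 := by decide

theorem ta_ne : ta ≠ 1 := by decide

theorem IsV.ne_ta {σ : P7} (h : IsV σ) : σ ≠ ta := by
  rcases h with rfl | rfl | rfl | rfl <;> decide

theorem sign_ta : sign ta = -1 := by decide

/-- a 2-group of permutations of seven points containing `V₄` and `ta` centralizes `ta` -/
theorem comm_ta_of_two {W : Subgroup P7} (hW : IsPGroup 2 W) (h1 : b1 ∈ W) (h2 : b2 ∈ W) (ht : ta ∈ W)
    {σ : P7} (hσ : σ ∈ W) : σ * ta = ta * σ := by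
  have hp : Fact (Nat.Prime 2) := ⟨Nat.prime_two⟩
  have key : ∀ i : Fin 7, ∃ n, (MulAction.orbit W i).ncard = 2 ^ n := by
    intro i
    obtain ⟨n, hn⟩ := hW.card_orbit i
    exact ⟨n, by rw [← Nat.card_coe_set_eq]; exact hn⟩
  have hmem : ∀ (i j : Fin 7) (τ : P7), τ ∈ W → τ i = j → j ∈ MulAction.orbit W i := by
    intro i j τ hτ h
    exact ⟨⟨τ, hτ⟩, h⟩
  -- the orbit of `0`
  obtain ⟨n, hn⟩ := key 0
  have h3 : ({0, 1, 2, 3} : Finset (Fin 7)).card = 4 := by decide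
  have hs0 : ((({0, 1, 2, 3} : Finset (Fin 7)) : Set (Fin 7))) ⊆ MulAction.orbit W (0 : Fin 7) := by
    intro i hi
    rw [Finset.mem_coe, Finset.mem_insert, Finset.mem_insert, Finset.mem_insert,
      Finset.mem_singleton] at hi
    rcases hi with rfl | rfl | rfl | rfl
    · exact MulAction.mem_orbit_self _
    · exact hmem 0 1 b1 h1 (by decide)
    · exact hmem 0 2 b2 h2 (by decide)
    · exact hmem 0 3 (b1 * b2) (mul_mem h1 h2) (by decide)
  have hle : (MulAction.orbit W (0 : Fin 7)).ncard ≤ 7 := by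
    have := Set.ncard_le_ncard (Set.subset_univ (MulAction.orbit W (0 : Fin 7))) Set.finite_univ
    rwa [Set.ncard_univ, Nat.card_eq_fintype_card, Fintype.card_fin] at this
  have hge : 4 ≤ (MulAction.orbit W (0 : Fin 7)).ncard := by
    have := Set.ncard_le_ncard hs0 (Set.toFinite _)
    rwa [Set.ncard_coe_finset, h3] at this
  have hn2 : (MulAction.orbit W (0 : Fin 7)).ncard = 4 := by
    rw [hn] at hle hge ⊢
    have h5 : n < 3 := by
      by_contra hcon
      push Not at hcon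
      have : 2 ^ 3 ≤ 2 ^ n := Nat.pow_le_pow_right (by norm_num) hcon
      omega
    interval_cases n <;> omega
  have h0 : ((({0, 1, 2, 3} : Finset (Fin 7)) : Set (Fin 7))) = MulAction.orbit W (0 : Fin 7) :=
    Set.eq_of_subset_of_ncard_le hs0 (by rw [Set.ncard_coe_finset, h3, hn2]) (Set.toFinite _)
  -- the orbit of `4`
  have h4sub : MulAction.orbit W (4 : Fin 7) ⊆ (({4, 5, 6} : Finset (Fin 7)) : Set (Fin 7)) := by
    intro i hi
    have h5 : i ∉ (({0, 1, 2, 3} : Finset (Fin 7)) : Set (Fin 7)) := by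
      rw [h0]
      intro h6
      have h7 : (4 : Fin 7) ∈ MulAction.orbit W (0 : Fin 7) := by
        rw [← MulAction.orbit_eq_iff] at hi h6
        rw [← h6, hi]
        exact MulAction.mem_orbit_self _
      rw [← h0] at h7
      exact absurd h7 (by decide)
    rw [Finset.mem_coe] at h5 ⊢
    revert h5
    fin_cases i <;> decide
  obtain ⟨m, hm⟩ := key 4
  have h45 : ((({4, 5} : Finset (Fin 7)) : Set (Fin 7))) ⊆ MulAction.orbit W (4 : Fin 7) := by
    intro i hi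
    rw [Finset.mem_coe, Finset.mem_insert, Finset.mem_singleton] at hi
    rcases hi with rfl | rfl
    · exact MulAction.mem_orbit_self _
    · exact hmem 4 5 ta ht (by decide)
  have hle4 : (MulAction.orbit W (4 : Fin 7)).ncard ≤ 3 := by
    have := Set.ncard_le_ncard h4sub (Set.toFinite _)
    rwa [Set.ncard_coe_finset, show ({4, 5, 6} : Finset (Fin 7)).card = 3 from by decide] at this
  have hge4 : 2 ≤ (MulAction.orbit W (4 : Fin 7)).ncard := by
    have := Set.ncard_le_ncard h45 (Set.toFinite _)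
    rwa [Set.ncard_coe_finset, show ({4, 5} : Finset (Fin 7)).card = 2 from by decide] at this
  have hm2 : (MulAction.orbit W (4 : Fin 7)).ncard = 2 := by
    rw [hm] at hle4 hge4 ⊢
    have h5 : m < 2 := by
      by_contra hcon
      push Not at hcon
      have : 2 ^ 2 ≤ 2 ^ m := Nat.pow_le_pow_right (by norm_num) hcon
      omega
    interval_cases m <;> omega
  have h4 : ((({4, 5} : Finset (Fin 7)) : Set (Fin 7))) = MulAction.orbit W (4 : Fin 7) :=
    Set.eq_of_subset_of_ncard_le h45 (by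
      rw [Set.ncard_coe_finset, show ({4, 5} : Finset (Fin 7)).card = 2 from by decide, hm2])
      (Set.toFinite _)
  have h5 : σ 4 ∈ (({4, 5} : Finset (Fin 7)) : Set (Fin 7)) := by
    rw [h4]; exact hmem 4 _ σ hσ rfl
  have h6 : σ 5 ∈ (({4, 5} : Finset (Fin 7)) : Set (Fin 7)) := by
    rw [h4]
    exact hmem 4 _ (σ * ta) (mul_mem hσ ht) (by
      rw [Perm.mul_apply]
      congr 1)
  have h7 : σ * ta * σ⁻¹ = ta := by
    have h8 : σ * swap 4 5 * σ⁻¹ = swap (σ 4) (σ 5) := (swap_apply_apply σ 4 5).symm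
    unfold ta
    rw [h8]
    rw [Finset.mem_coe, Finset.mem_insert, Finset.mem_singleton] at h5 h6
    have hne : σ 4 ≠ σ 5 := fun h => absurd (σ.injective h) (by decide)
    rcases h5 with h5 | h5 <;> rcases h6 with h6 | h6
    · exact absurd (h5.trans h6.symm) hne
    · rw [h5, h6]
    · rw [h5, h6, swap_comm]
    · exact absurd (h5.trans h6.symm) hne
  calc σ * ta = σ * ta * σ⁻¹ * σ := by group
    _ = ta * σ := by rw [h7]

/-! ### `K` is normal in `C(t)` -/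

variable {G : Type*} [Group G]

theorem Out.ty {M Y : Subgroup G} {t t' : G} {K : Subgroup G} {L : Lab K} (h : Out M Y t t' K L)
    {y : G} (hy : y ∈ Y) : y * t = t * y := h.ym y hy t h.tM

variable [Finite G] {M Y : Subgroup G} {t t' : G} {K : Subgroup G} {L : Lab K}

/-- elements of `C(y) ∩ C(t)` normalize `L_y` -/
theorem Out.mem_norm (h : Out M Y t t' K L) {y : G} {N : Subgroup G}
    (hN : IsComp (centralizer ({y} : Set G)) N) (hMN : M ≤ N) (hT : L2T N) {g : G}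
    (hgy : g * y = y * g) (hgt : g * t = t * g) : g ∈ normalizer (N : Set G) :=
  normalizes_of_comm hN hT (hMN h.tM) h.tt h.t1 (mem_c hgy) hgt

/-- a perfect group centralizing `t` and `y` fixes `L_y` -/
theorem Out.fixes_of_perfect (h : Out M Y t t' K L) {y : G} {N : Subgroup G}
    (hN : IsComp (centralizer ({y} : Set G)) N) (hMN : M ≤ N) (hT : L2T N) {D : Subgroup G}
    (hD : ⁅D, D⁆ = D) (hDy : ∀ d ∈ D, d * y = y * d) (hDt : ∀ d ∈ D, d * t = t * d) {d : G}
    (hd : d ∈ D) : Fixes d N := by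
  have hDN : D ≤ normalizer (N : Set G) := fun d hd => h.mem_norm hN hMN hT (hDy d hd) (hDt d hd)
  have htN : t ∈ N := hMN h.tM
  have hft := not_fixes_of_mem hT htN h.tt h.t1
  obtain ⟨F, _, _, ⟨R⟩⟩ := hT
  let f : ↥D →* MulAut (↥N ⧸ oddCore ↥N) := (act N).comp (Subgroup.inclusion hDN)
  have hperf : ⁅f.range, f.range⁆ = f.range := by
    have h5 : Group.IsPerfect ↥D := by
      rw [isPerfect_iff]
      exact hD
    have h6 : ⁅(⊤ : Subgroup ↥D), ⊤⁆ = ⊤ := h5.commutator_eq_top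
    rw [MonoidHom.range_eq_map, ← map_commutator, h6]
  have hbot : f.range = ⊥ := by
    refine WBAut.perfect_comm R (φ := act N ⟨t, le_normalizer htN⟩) ?_ ?_ ?_ hperf ?_
    · rw [act_of_mem htN]
      exact R.conj_mem_PGL _
    · intro h1
      exact hft ((act_eq_one_iff (le_normalizer htN)).mp h1)
    · rw [← map_mul]
      have h7 : (⟨t, le_normalizer htN⟩ : ↥(normalizer (N : Set G))) * ⟨t, le_normalizer htN⟩ = 1 :=
        Subtype.ext h.tt
      rw [h7, map_one]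
    · rintro _ ⟨⟨i, hi⟩, rfl⟩
      change act N ⟨i, hDN hi⟩ * _ = _ * act N ⟨i, hDN hi⟩
      rw [← map_mul, ← map_mul]
      congr 1
      exact Subtype.ext (hDt i hi)
  rw [← act_eq_one_iff (hDN hd)]
  have h5 : f ⟨d, hd⟩ ∈ f.range := ⟨_, rfl⟩
  rw [hbot, mem_bot] at h5
  exact h5

/-- **`K` is normal in `C(t)`** -/
theorem Out.norm (h : Out M Y t t' K L) : centralizer ({t} : Set G) ≤ normalizer (K : Set G) := by
  intro g hg
  rw [mem_normalizer_iff_cj]
  by_contra hne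
  have hK' := isComp_cj_of_mem h.comp7 hg
  have hft : Fixes t (cj g K) := fixes_self' hK'.le
  have hfix : ∀ y ∈ Y, Fixes y (cj g K) := by
    intro y hy
    rcases h.yK y hy with h1 | h1
    · exact hK'.fixes_of_mem h.comp7 hne h1
    · exact (fixes_mul_iff_left hft).mp (hK'.fixes_of_mem h.comp7 hne h1)
  obtain ⟨y₁, hy₁, y₂, hy₂, hy₁1, hy₂1, hy⟩ := exists_gens h.ycard
  have hY12 : y₁ * y₂ = y₂ * y₁ := comm_of_sq h.ysq hy₁ hy₂
  obtain ⟨hc1, hs1⟩ := isComp_cen hK' (mem_c (h.ty hy₁)) (h.ysq y₁ hy₁) (hfix y₁ hy₁)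
  have hf2 : Fixes y₂ (cen (cj g K) y₁) := by
    refine (fixes_iff_of_sup hs1 (mem_normalizer_cen (hfix y₂ hy₂).1 hY12.symm) (hfix y₂ hy₂).1).mpr (hfix y₂ hy₂)
  obtain ⟨hc2, hs2⟩ := isComp_cen hc1 ⟨mem_c (h.ty hy₂), mem_c hY12.symm⟩ (h.ysq y₂ hy₂) hf2
  obtain ⟨D, hD⟩ : ∃ D, D = cen (cen (cj g K) y₁) y₂ := ⟨_, rfl⟩
  rw [← hD] at hc2 hs2
  have hDt : ∀ d ∈ D, d * t = t * d := fun d hd => comm_c (hc2.le hd).1.1
  have hD1 : ∀ d ∈ D, d * y₁ = y₁ * d := fun d hd => comm_c (hc2.le hd).1.2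
  have hD2 : ∀ d ∈ D, d * y₂ = y₂ * d := fun d hd => comm_c (hc2.le hd).2
  have hDY : ∀ d ∈ D, ∀ z ∈ Y, d * z = z * d := by
    intro d hd z hz
    have hF : Four Y := ⟨h.ycard, h.ysq⟩
    rcases hF.mem_cases hy₁ hy₂ hy₁1 hy₂1 hy.symm hz with rfl | rfl | rfl | rfl
    · rw [mul_one, one_mul]
    · exact hD1 d hd
    · exact hD2 d hd
    · exact Commute.mul_right (hD1 d hd : Commute d y₁) (hD2 d hd : Commute d y₂)
  obtain ⟨N, hN, hMN, -, hT⟩ := h.comp y₁ hy₁ hy₁1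
  have hp2 : Fact (Nat.Prime 2) := ⟨Nat.prime_two⟩
  obtain ⟨⟨r, hr⟩, hr2⟩ := exists_prime_orderOf_dvd_card' (G := D) 2 hc2.even
  rw [Subgroup.orderOf_mk] at hr2
  have hrr := sq_of_order hr2
  have hrY := h.rk y₁ hy₁ hy₁1 N hN hMN r hrr (hDt r hr) (hDY r hr)
    (h.fixes_of_perfect hN hMN hT hc2.perfect hD1 hDt hr)
  have hrK : r ∈ cj g K := by
    have h1 : D ≤ cj g K := by
      rw [hD]
      exact (cen_le _ _).trans (cen_le _ _)
    exact h1 hr
  have h1 : (L.cj g).φ r = 1 := ((L.cj g).fixes_iff (le_normalizer hrK)).mpr (hfix r hrY)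
  have h2 := ((L.cj g).core_iff r hrK).mp h1
  exact ne_one_of_order hr2 (eq_one_of_mem_core_sq h2 hrr)

/-! ### the Sylow 2-subgroup `T` of `C(t)` -/

/-- `T ∈ Syl₂(C(t))` contains `Y` and `V` -/
structure SylT (Y : Subgroup G) (t t' : G) (T : Subgroup G) : Prop where
  syl : IsSyl (centralizer ({t} : Set G)) T
  YT : Y ≤ T
  tT : t ∈ T
  tT' : t' ∈ T

omit [Finite G] in
theorem Out.four_gp (h : Out M Y t t' K L) : Four (jn t' (zpowers t)) :=
  four_of h.tt h.tt' h.cmm h.t1 h.t1' h.ne.symm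

theorem Out.exists_T (h : Out M Y t t' K L) : ∃ T, SylT Y t t' T := by
  obtain ⟨V, hV⟩ : ∃ V, V = jn t' (zpowers t) := ⟨_, rfl⟩
  have hV4 := hV ▸ h.four_gp
  have htV : t ∈ V := by rw [hV]; exact mem_sup_right (mem_zpowers t)
  have htV' : t' ∈ V := by rw [hV]; exact mem_sup_left (mem_zpowers t')
  have hVt : V ≤ centralizer ({t} : Set G) := by
    rw [hV]
    exact sup_le (zpowers_le.mpr (mem_c h.cmm.symm)) (zpowers_le.mpr (mem_c rfl))
  have hVM : V ≤ M := by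
    rw [hV]
    exact sup_le (zpowers_le.mpr h.tM') (zpowers_le.mpr h.tM)
  have h2 : IsPGroup 2 ↥(Y ⊔ V) := by
    refine (isPGroup_of_sq h.ysq).to_sup_of_normal_left' (isPGroup_of_sq hV4.elem) ?_
    intro v hv
    rw [mem_normalizer_iff_cj]
    exact TMCBase.cj_of_comm fun y hy => mem_c (h.ym y hy v (hVM hv))
  obtain ⟨T, hT, hle⟩ := exists_isSyl h2 (E := centralizer ({t} : Set G))
    (sup_le (fun y hy => mem_c (h.ty hy)) hVt)
  exact ⟨T, hT, le_sup_left.trans hle, hle (mem_sup_right htV), hle (mem_sup_right htV')⟩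

section syl

variable {T : Subgroup G} (h : Out M Y t t' K L) (S : SylT Y t t' T)

include h S

theorem Out.T_norm : T ≤ normalizer (K : Set G) := S.syl.le.trans h.norm

omit [Finite G] h in
theorem SylT.comm {s : G} (hs : s ∈ T) : s * t = t * s := comm_c (S.syl.le hs)

/-- the permutation group induced by `T` -/
theorem Out.comm_ta {s : G} (hs : s ∈ T) : L.φ s * Cfsg.Agent.UGT.L2Inner.ta =
    Cfsg.Agent.UGT.L2Inner.ta * L.φ s := by
  have hTn := h.T_norm S
  obtain ⟨W, hW⟩ : ∃ W : Subgroup P7, ∀ σ, σ ∈ W ↔ ∃ s ∈ T, L.φ s = σ := by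
    refine ⟨(T.subgroupOf (normalizer (K : Set G))).map L.hom, fun σ => ?_⟩
    constructor
    · rintro ⟨y, hy, rfl⟩
      exact ⟨y, hy, rfl⟩
    · rintro ⟨s, hs, rfl⟩
      exact ⟨⟨s, hTn hs⟩, hs, rfl⟩
  have hW2 : IsPGroup 2 W := by
    rintro ⟨σ, hσ⟩
    obtain ⟨s, hs, rfl⟩ := (hW σ).mp hσ
    obtain ⟨n, hn⟩ := S.syl.two ⟨s, hs⟩
    refine ⟨n, Subtype.ext ?_⟩
    show L.φ s ^ 2 ^ n = 1
    rw [← L.pow (hTn hs), show s ^ 2 ^ n = 1 from congrArg Subtype.val hn, L.one]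
  have hYsurj : ∀ σ, IsV σ → σ ∈ W := by
    -- `Y → V₄` is bijective
    intro σ hσ
    obtain ⟨a, ha, b, hb, ha1, hb1, hab⟩ := exists_gens h.ycard
    have hne : ∀ u ∈ Y, ∀ v ∈ Y, u ≠ v → L.φ u ≠ L.φ v := by
      intro u hu v hv huv h5
      have h6 := h.y1 (u * v) (mul_mem hu hv) (fun h7 => huv (by
        have h8 : v⁻¹ = v := inv_eq_of_mul_eq_one_left (h.ysq v hv)
        rw [← h8]; exact mul_eq_one_iff_eq_inv.mp h7))
      apply h6
      rw [L.mul _ _ (hTn (S.YT hu)) (hTn (S.YT hv)), h5]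
      exact L.sq (hTn (S.YT hv)) (h.ysq v hv)
    have hab' : a * b ∈ Y := mul_mem ha hb
    have h1 := h.yV a ha
    have h2 := h.yV b hb
    have h3 := h.y1 a ha ha1
    have h4 := h.y1 b hb hb1
    have h5 := hne a ha b hb hab
    have h6 : L.φ (a * b) = L.φ a * L.φ b := L.mul _ _ (hTn (S.YT ha)) (hTn (S.YT hb))
    have hmem : ∀ u ∈ Y, L.φ u ∈ W := fun u hu => (hW _).mpr ⟨u, S.YT hu, rfl⟩
    have m1 := hmem a ha
    have m2 := hmem b hb
    have m3 := hmem _ hab'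
    rw [h6] at m3
    obtain ⟨x, hx⟩ : ∃ x, x = L.φ a := ⟨_, rfl⟩
    obtain ⟨y, hy⟩ : ∃ y, y = L.φ b := ⟨_, rfl⟩
    rw [← hx] at h1 h3 h5 m1 m3
    rw [← hy] at h2 h4 h5 m2 m3
    rcases h1 with rfl | rfl | rfl | rfl
    · exact absurd rfl h3
    all_goals rcases h2 with rfl | rfl | rfl | rfl
    all_goals first | exact absurd rfl h4 | exact absurd rfl h5 | skip
    all_goals rcases hσ with rfl | rfl | rfl | rfl
    all_goals first | exact one_mem _ | assumption | skip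
    · rwa [show b1 * b2 = b3 from by decide] at m3
    · rwa [show b1 * b3 = b2 from by decide] at m3
    · rwa [show b2 * b1 = b3 from by decide] at m3
    · rwa [show b2 * b3 = b1 from by decide] at m3
    · rwa [show b3 * b1 = b2 from by decide] at m3
    · rwa [show b3 * b2 = b1 from by decide] at m3
  exact comm_ta_of_two hW2 (hYsurj _ (Or.inr (Or.inl rfl))) (hYsurj _ (Or.inr (Or.inr (Or.inl rfl))))
    ((hW _).mpr ⟨t', S.tT', h.ta⟩) ((hW _).mpr ⟨s, hs, rfl⟩)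

end syl

/-- `Q* = {e ∈ T : L.φ e ∈ {1, ta}}` -/
def Qs {K : Subgroup G} (L : Lab K) (T : Subgroup G) (hT : T ≤ normalizer (K : Set G)) : Subgroup G where
  carrier := {e | e ∈ T ∧ (L.φ e = 1 ∨ L.φ e = ta)}
  one_mem' := ⟨one_mem _, Or.inl L.one⟩
  mul_mem' := by
    rintro a b ⟨ha, ha'⟩ ⟨hb, hb'⟩
    refine ⟨mul_mem ha hb, ?_⟩
    rw [L.mul _ _ (hT ha) (hT hb)]
    rcases ha' with h1 | h1 <;> rcases hb' with h2 | h2 <;> rw [h1, h2]
    · left; rw [one_mul]
    · right; rw [one_mul]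
    · right; rw [mul_one]
    · left; exact ta_mul_self
  inv_mem' := by
    rintro a ⟨ha, ha'⟩
    refine ⟨inv_mem ha, ?_⟩
    rw [L.inv (hT ha)]
    rcases ha' with h1 | h1 <;> rw [h1]
    · left; rw [inv_one]
    · right; exact inv_eq_of_mul_eq_one_left ta_mul_self

theorem two_elt {T K : Subgroup G} {s : G} (hT : IsPGroup 2 ↥T) (hs : s ∈ T) (hK : s ∈ core K) : s = 1 := by
  obtain ⟨n, hn⟩ := hT ⟨s, hs⟩
  exact eq_one_of_mem_core hK (n := n) (congrArg Subtype.val hn)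

section syl

variable {T : Subgroup G} (h : Out M Y t t' K L) (S : SylT Y t t' T)

include h S

/-- `T ∩ K ∈ Syl₂(K)` -/
theorem Out.syl_K : IsSyl K (T ⊓ K) := S.syl.inf h.comp7.le h.norm

/-- **`T = (T ∩ K) × Q*`** -/
theorem Out.twoP : TwoP T (T ⊓ K) (Qs L T (h.T_norm S)) := by
  have hTn := h.T_norm S
  obtain ⟨h8, hev⟩ := A7.Star.exists_even L S.syl.two hTn (h.syl_K S) inf_le_left
  have halt : ∀ p ∈ T ⊓ K, L.φ p ∈ alternatingGroup (Fin 7) := by
    intro p hp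
    have := L.mem_alt p hp.2
    rwa [alt_univ] at this
  refine ⟨inf_le_left, fun e he => he.1, fun s hs => ?_, fun p hp r hr => ?_, fun p hp hpr => ?_⟩
  · have key : ∀ p ∈ T ⊓ K, L.φ (p⁻¹ * s) = 1 ∨ L.φ (p⁻¹ * s) = Cfsg.Agent.UGT.L2Inner.ta →
        ∃ p ∈ T ⊓ K, ∃ r ∈ Qs L T hTn, s = p * r := fun p hp hr =>
      ⟨p, hp, p⁻¹ * s, ⟨mul_mem (inv_mem hp.1) hs, hr⟩, by rw [mul_inv_cancel_left]⟩
    by_cases hse : sign (L.φ s) = 1
    · obtain ⟨p, hp, hps⟩ := hev s hs (Equiv.Perm.mem_alternatingGroup.mpr hse)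
      refine key p hp (Or.inl ?_)
      rw [L.mul _ _ (inv_mem (hTn hp.1)) (hTn hs), L.inv (hTn hp.1), hps, inv_mul_cancel]
    · have hse' : sign (L.φ s) = -1 := (Int.units_eq_one_or _).resolve_left hse
      have h1 : L.φ (s * t') = L.φ s * Cfsg.Agent.UGT.L2Inner.ta := by
        rw [L.mul _ _ (hTn hs) (hTn S.tT'), h.ta]
      obtain ⟨p, hp, hps⟩ := hev (s * t') (mul_mem hs S.tT') (Equiv.Perm.mem_alternatingGroup.mpr (by
        rw [h1, Perm.sign_mul, hse', sign_ta]; decide))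
      refine key p hp (Or.inr ?_)
      rw [L.mul _ _ (inv_mem (hTn hp.1)) (hTn hs), L.inv (hTn hp.1), hps, h1, mul_inv_rev,
        inv_mul_cancel_right]
      exact inv_eq_of_mul_eq_one_left ta_mul_self
  · have hc : p * r * p⁻¹ * r⁻¹ = 1 := by
      apply two_elt (K := K) S.syl.two
      · exact mul_mem (mul_mem (mul_mem hp.1 hr.1) (inv_mem hp.1)) (inv_mem hr.1)
      · have hK : p * r * p⁻¹ * r⁻¹ ∈ K := by
          have h1 : p * r * p⁻¹ * r⁻¹ = p * (r * p⁻¹ * r⁻¹) := by group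
          rw [h1]
          exact mul_mem hp.2 (conj_mem (hTn hr.1) (inv_mem hp.2))
        rw [← L.core_iff _ hK, L.mul _ _ (mul_mem (mul_mem (hTn hp.1) (hTn hr.1)) (inv_mem (hTn hp.1)))
          (inv_mem (hTn hr.1)), L.conj (hTn hp.1) (hTn hr.1), L.inv (hTn hr.1)]
        rcases hr.2 with h2 | h2
        · rw [h2, mul_one, mul_inv_cancel, inv_one, one_mul]
        · rw [h2, h.comm_ta S hp.1, mul_inv_cancel_right, mul_inv_cancel]
    have h1 : p * r = (p * r * p⁻¹ * r⁻¹) * (r * p) := by group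
    rw [h1, hc, one_mul]
  · apply two_elt (K := K) S.syl.two hp.1
    rw [← L.core_iff _ hp.2]
    rcases hpr.2 with h2 | h2
    · exact h2
    · exfalso
      have h3 := Equiv.Perm.mem_alternatingGroup.mp (halt p hp)
      rw [h2, sign_ta] at h3
      exact absurd h3 (by decide)

/-- `Q*` centralizes `Y` -/
theorem Out.qs_comm {q y : G} (hq : q ∈ Qs L T (h.T_norm S)) (hy : y ∈ Y) : q * y = y * q := by
  have hP := h.twoP S
  have hqt := S.comm hq.1
  rcases h.yK y hy with h1 | h1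
  · exact (hP.comm y ⟨S.YT hy, h1⟩ q hq).symm
  · have h2 := (hP.comm (y * t) ⟨mul_mem (S.YT hy) S.tT, h1⟩ q hq).symm
    have h3 : q * y * t = y * q * t := by
      calc q * y * t = q * (y * t) := by group
        _ = y * (t * q) := by rw [h2]; group
        _ = y * q * t := by rw [← hqt]; group
    exact mul_right_cancel h3

/-- `Q*` is faithful on `L_y` -/
theorem Out.qs_faithful {q y : G} (hq : q ∈ Qs L T (h.T_norm S)) (hy : y ∈ Y) (hy1 : y ≠ 1)
    {N : Subgroup G} (hN : IsComp (centralizer ({y} : Set G)) N) (hMN : M ≤ N) (hf : Fixes q N) :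
    q = 1 := by
  by_contra hq1
  obtain ⟨n, hn⟩ := S.syl.two ⟨q, hq.1⟩
  have hn' : q ^ 2 ^ n = 1 := congrArg Subtype.val hn
  -- an involution of `⟨q⟩`
  obtain ⟨r, hr, hrr, hr1⟩ : ∃ r ∈ zpowers q, r * r = 1 ∧ r ≠ 1 := by
    clear hn
    induction n with
    | zero => exact absurd (by simpa using hn') hq1
    | succ n ih =>
      by_cases h1 : q ^ 2 ^ n = 1
      · exact ih h1
      · exact ⟨q ^ 2 ^ n, npow_mem_zpowers q _, by rw [← pow_add, ← two_mul, ← pow_succ']; exact hn', h1⟩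
  have hrQ : r ∈ Qs L T (h.T_norm S) := (zpowers_le.mpr hq) hr
  have hrf : Fixes r N := by
    obtain ⟨k, rfl⟩ := mem_zpowers_iff.mp hr
    have h1 : k = k := rfl
    have h2 : q ^ k ∈ fix (zpowers q) N := by
      exact (zpowers_le.mpr (show q ∈ fix (zpowers q) N from ⟨mem_zpowers q, hf⟩)) (zpow_mem_zpowers q k)
    exact h2.2
  have hrY := h.rk y hy hy1 N hN hMN r hrr (S.comm hrQ.1) (fun z hz => h.qs_comm S hrQ hz) hrf
  rcases hrQ.2 with h2 | h2
  · exact h.y1 r hrY hr1 h2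
  · exact (h.yV r hrY).ne_ta h2

theorem Out.t_mem : t ∈ Qs L T (h.T_norm S) :=
  ⟨S.tT, Or.inl ((L.fixes_iff (h.T_norm S S.tT)).mpr (fixes_self' h.comp7.le))⟩

theorem Out.t_mem' : t' ∈ Qs L T (h.T_norm S) := ⟨S.tT', Or.inr h.ta⟩

omit S in
theorem Out.V_le : jn t' (zpowers t) ≤ M := sup_le (zpowers_le.mpr h.tM') (zpowers_le.mpr h.tM)

omit [Finite G] h S in
theorem t_mem_V : t ∈ jn t' (zpowers t) := mem_sup_right (mem_zpowers t)

omit [Finite G] h S in
theorem t_mem_V' : t' ∈ jn t' (zpowers t) := mem_sup_left (mem_zpowers t')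

omit S in
theorem Out.V_cases {v : G} (hv : v ∈ jn t' (zpowers t)) : v = 1 ∨ v = t ∨ v = t' ∨ v = t * t' :=
  h.four_gp.mem_cases t_mem_V t_mem_V' h.t1 h.t1' h.ne.symm hv

theorem Out.V_le_Qs : jn t' (zpowers t) ≤ Qs L T (h.T_norm S) :=
  sup_le (zpowers_le.mpr (h.t_mem' S)) (zpowers_le.mpr (h.t_mem S))

omit S in
/-- `V` is faithful on `L_y` -/
theorem Out.V_faithful {N : Subgroup G} (hMN : M ≤ N) (hT : L2T N) {v : G}
    (hv : v ∈ jn t' (zpowers t)) (hf : Fixes v N) : v = 1 := by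
  by_contra hv1
  exact not_fixes_of_mem hT (hMN (h.V_le hv)) (h.four_gp.elem v hv) hv1 hf

omit S in
/-- elements of `C(y) ∩ C(V)` which act on `L_y` by `PGL₂` act as elements of `V` -/
theorem Out.pgl_V {g : G} {N : Subgroup G}
    (hMN : M ≤ N) (hT : L2T N) (hgt : g * t = t * g)
    (hgt' : g * t' = t' * g) {F : Type} [Field F] [Finite F] (R : GH.L2Aut.Rep F (↥N ⧸ oddCore ↥N))
    (hgN : g ∈ normalizer (N : Set G)) (hP : act N ⟨g, hgN⟩ ∈ R.PGL) :
    ∃ v ∈ jn t' (zpowers t), Fixes (g * v⁻¹) N := by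
  have htN : t ∈ N := hMN h.tM
  have htN' : t' ∈ N := hMN h.tM'
  have hsq : ∀ u (hu : u ∈ normalizer (N : Set G)), u * u = 1 → act N ⟨u, hu⟩ * act N ⟨u, hu⟩ = 1 := by
    intro u hu huu
    rw [← act_mul hu hu, act_congr (mul_mem hu hu) huu]
    exact map_one (act N)
  have hcm : ∀ u v (hu : u ∈ normalizer (N : Set G)) (hv : v ∈ normalizer (N : Set G)), u * v = v * u →
      act N ⟨u, hu⟩ * act N ⟨v, hv⟩ = act N ⟨v, hv⟩ * act N ⟨u, hu⟩ := by
    intro u v hu hv huv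
    rw [← act_mul hu hv, ← act_mul hv hu, act_congr (mul_mem hu hv) huv]
  rcases WBAut.pgl_four R (φ := act N ⟨t, le_normalizer htN⟩) (ψ := act N ⟨t', le_normalizer htN'⟩)
    (α := act N ⟨g, hgN⟩) (by rw [act_of_mem htN]; exact R.conj_mem_PGL _)
    (by rw [act_of_mem htN']; exact R.conj_mem_PGL _) hP
    (fun h1 => not_fixes_of_mem hT htN h.tt h.t1 ((act_eq_one_iff _).mp h1))
    (fun h1 => not_fixes_of_mem hT htN' h.tt' h.t1' ((act_eq_one_iff _).mp h1))
    (fun h1 => by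
      have h2 := (act_eq_iff _ _).mp h1
      have h3 := h.V_faithful hMN hT (mul_mem t_mem_V (inv_mem t_mem_V')) h2
      exact h.ne (mul_inv_eq_one.mp h3))
    (hsq _ _ h.tt) (hsq _ _ h.tt') (hcm _ _ _ _ h.cmm) (hcm _ _ _ _ hgt) (hcm _ _ _ _ hgt') with h1 | h1 | h1 | h1
  · exact ⟨1, one_mem _, by rw [inv_one, mul_one]; exact (act_eq_one_iff _).mp h1⟩
  · exact ⟨t, t_mem_V, (act_eq_iff _ _).mp h1⟩
  · exact ⟨t', t_mem_V', (act_eq_iff _ _).mp h1⟩
  · refine ⟨t * t', mul_mem t_mem_V t_mem_V', ?_⟩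
    rw [← act_mul] at h1
    exact (act_eq_iff _ _).mp h1

/-- elements of `C_{Q*}(V) ∖ V` do not act on `L_y` by `PGL₂` -/
theorem Out.not_pgl {q y : G} (hq : q ∈ Qs L T (h.T_norm S)) (hqt : q * t' = t' * q)
    (hqV : q ∉ jn t' (zpowers t)) (hy : y ∈ Y) (hy1 : y ≠ 1)
    {N : Subgroup G} (hN : IsComp (centralizer ({y} : Set G)) N) (hMN : M ≤ N)
    {F : Type} [Field F] [Finite F] (R : GH.L2Aut.Rep F (↥N ⧸ oddCore ↥N))
    (hqN : q ∈ normalizer (N : Set G)) : act N ⟨q, hqN⟩ ∉ R.PGL := by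
  intro hP
  obtain ⟨v, hv, hf⟩ := h.pgl_V hMN ⟨F, inferInstance, inferInstance, ⟨R⟩⟩ (S.comm hq.1) hqt R hqN hP
  have h1 := h.qs_faithful S (mul_mem hq (inv_mem (h.V_le_Qs S hv))) hy hy1 hN hMN hf
  rw [mul_inv_eq_one.mp h1] at hqV
  exact hqV hv

/-- an element of `C_{Q*}(V) ∖ V` with square in `V` is an involution -/
theorem Out.sq_one {q : G} (hq : q ∈ Qs L T (h.T_norm S)) (hqt : q * t' = t' * q)
    (hqq : q * q ∈ jn t' (zpowers t)) : q * q = 1 := by
  obtain ⟨y, hy, -, -, hy1, -, -⟩ := exists_gens h.ycard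
  obtain ⟨N, hN, hMN, -, hT⟩ := h.comp y hy hy1
  have hT' := hT
  obtain ⟨F, _, _, ⟨R⟩⟩ := hT'
  obtain ⟨d, hd, hdt, hdt'⟩ := h.cnj
  have hqt0 := S.comm hq.1
  have hqy := h.qs_comm S hq hy
  have hqN := h.mem_norm hN hMN hT hqy hqt0
  have hdN : d ∈ normalizer (N : Set G) := le_normalizer (hMN hd)
  obtain ⟨g, hg⟩ : ∃ g, g = d * q * d⁻¹ * q⁻¹ := ⟨_, rfl⟩
  have hgN : g ∈ normalizer (N : Set G) := by
    rw [hg]; exact mul_mem (mul_mem (mul_mem hdN hqN) (inv_mem hdN)) (inv_mem hqN)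
  have hdtt : d * (t * t') * d⁻¹ = t := by
    have h1 : d * (t * t') * d⁻¹ = (d * t * d⁻¹) * (d * t' * d⁻¹) := by group
    rw [h1, hdt, hdt', h.cmm, ← mul_assoc, h.tt', one_mul]
  -- `g` commutes with `V`
  have hdi : d⁻¹ * t * d = t * t' := by
    calc d⁻¹ * t * d = d⁻¹ * (d * (t * t') * d⁻¹) * d := by rw [hdtt]
      _ = t * t' := by group
  have hdi' : d⁻¹ * t' * d = t := by
    calc d⁻¹ * t' * d = d⁻¹ * (d * t * d⁻¹) * d := by rw [hdt]
      _ = t := by group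
  have hqtt : q * (t * t') = t * t' * q :=
    Commute.mul_right (hqt0 : Commute q t) (hqt : Commute q t')
  have key : ∀ u w : G, q * u = u * q → q * w = w * q → d⁻¹ * u * d = w → g * u = u * g := by
    intro u w hu hw hduw
    have e1 : q⁻¹ * u = u * q⁻¹ := by rw [inv_mul_eq_iff_eq_mul, ← mul_assoc, hu, mul_inv_cancel_right]
    have e2 : d⁻¹ * u = w * d⁻¹ := by rw [← hduw]; group
    have e3 : d * w = u * d := by rw [← hduw]; group
    calc g * u = d * q * d⁻¹ * (q⁻¹ * u) := by rw [hg]; group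
      _ = d * q * (d⁻¹ * u) * q⁻¹ := by rw [e1]; group
      _ = d * (q * w) * d⁻¹ * q⁻¹ := by rw [e2]; group
      _ = (d * w) * q * d⁻¹ * q⁻¹ := by rw [hw]; group
      _ = u * g := by rw [e3, hg]; group
  have hgt : g * t = t * g := key t (t * t') hqt0 hqtt hdi
  have hgt' : g * t' = t' * g := key t' t hqt hqt0 hdi'
  have hgP : act N ⟨g, hgN⟩ ∈ R.PGL := by
    have hdP : act N ⟨d, hdN⟩ ∈ R.PGL := by
      rw [act_of_mem (hMN hd)]
      exact R.conj_mem_PGL _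
    rw [R.mem_PGL_iff_fld] at hdP ⊢
    have e1 : act N ⟨g, hgN⟩ = act N ⟨d, hdN⟩ * act N ⟨q, hqN⟩ * (act N ⟨d, hdN⟩)⁻¹ * (act N ⟨q, hqN⟩)⁻¹ := by
      rw [act_congr hgN hg, act_mul (mul_mem (mul_mem hdN hqN) (inv_mem hdN)) (inv_mem hqN),
        act_mul (mul_mem hdN hqN) (inv_mem hdN), act_mul hdN hqN, act_inv hdN, act_inv hqN]
    rw [e1, map_mul, map_mul, map_mul, map_inv, map_inv, hdP, one_mul, inv_one, mul_one, mul_inv_cancel]
  obtain ⟨v, hv, hf⟩ := h.pgl_V hMN hT hgt hgt' R hgN hgP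
  -- `d q² d⁻¹ ≡ q²`
  have hvN : v ∈ normalizer (N : Set G) := le_normalizer (hMN (h.V_le hv))
  have hqv : q * v = v * q := by
    rcases h.V_cases hv with rfl | rfl | rfl | rfl
    · rw [mul_one, one_mul]
    · exact hqt0
    · exact hqt
    · exact hqtt
  have hvv := h.four_gp.elem v hv
  have hact : act N ⟨g, hgN⟩ = act N ⟨v, hvN⟩ := (act_eq_iff hgN hvN).mpr hf
  have e2 : d * q * d⁻¹ = g * q := by rw [hg]; group
  have hgqN := mul_mem hgN hqN
  have e3 : act N ⟨d * (q * q) * d⁻¹, mul_mem (mul_mem hdN (mul_mem hqN hqN)) (inv_mem hdN)⟩ =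
      act N ⟨q * q, mul_mem hqN hqN⟩ := by
    have e4 : d * (q * q) * d⁻¹ = (g * q) * (g * q) := by rw [← e2]; group
    rw [act_congr _ e4]
    have e5 : act N ⟨g * q, hgqN⟩ = act N ⟨v * q, mul_mem hvN hqN⟩ := by
      rw [act_mul hgN hqN, act_mul hvN hqN, hact]
    rw [act_mul hgqN hgqN, e5, ← act_mul]
    apply act_congr
    calc v * q * (v * q) = v * (q * v) * q := by group
      _ = (v * v) * (q * q) := by rw [hqv]; group
      _ = q * q := by rw [hvv, one_mul]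
  have h4 := (act_eq_iff _ _).mp e3
  rcases h.V_cases hqq with h5 | h5 | h5 | h5
  · exact h5
  · exfalso
    rw [h5, hdt] at h4
    have h6 := h.V_faithful hMN hT (mul_mem t_mem_V' (inv_mem t_mem_V)) h4
    exact h.ne (mul_inv_eq_one.mp h6).symm
  · exfalso
    rw [h5, hdt', mul_inv_cancel_right] at h4
    exact h.t1 (h.V_faithful hMN hT t_mem_V h4)
  · exfalso
    rw [h5, hdtt] at h4
    have h6 := h.V_faithful hMN hT (mul_mem t_mem_V (inv_mem (mul_mem t_mem_V t_mem_V'))) h4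
    exact h.t1' (left_eq_mul.mp (mul_inv_eq_one.mp h6))

/-- **`C_{Q*}(V) = V`** -/
theorem Out.cent_V (h7 : Seven M Y t t' K) {q : G} (hq : q ∈ Qs L T (h.T_norm S))
    (hqt : q * t' = t' * q) : q ∈ jn t' (zpowers t) := by
  by_contra hqV
  -- an element with square in `V`
  obtain ⟨r, hr, hrV, hrr⟩ : ∃ r ∈ zpowers q, r ∉ jn t' (zpowers t) ∧ r * r ∈ jn t' (zpowers t) := by
    obtain ⟨n, hn⟩ := S.syl.two ⟨q, hq.1⟩
    have hn' : q ^ 2 ^ n ∈ jn t' (zpowers t) := by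
      rw [show q ^ 2 ^ n = 1 from congrArg Subtype.val hn]
      exact one_mem _
    clear hn
    induction n with
    | zero => exact absurd (by simpa using hn') hqV
    | succ n ih =>
      by_cases h1 : q ^ 2 ^ n ∈ jn t' (zpowers t)
      · exact ih h1
      · exact ⟨q ^ 2 ^ n, npow_mem_zpowers q _, h1, by rw [← pow_add, ← two_mul, ← pow_succ']; exact hn'⟩
  have hrQ : r ∈ Qs L T (h.T_norm S) := (zpowers_le.mpr hq) hr
  have hrt : r * t' = t' * r := by
    have h1 : zpowers q ≤ centralizer ({t'} : Set G) := zpowers_le.mpr (mem_c hqt)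
    exact comm_c (h1 hr)
  have hrr1 := h.sq_one S hrQ hrt hrr
  -- the kill
  have kill : ∀ r ∈ Qs L T (h.T_norm S), r * r = 1 → r * t' = t' * r → r ∉ jn t' (zpowers t) →
      L.φ r = 1 → False := by
    intro r hr hrr hrt hrV hφ
    refine h7 r hrr (S.comm hr.1) hrt (fun z hz => h.qs_comm S hr hz)
      ((L.fixes_iff (h.T_norm S hr.1)).mp hφ) ?_
    intro y hy hy1 N hN hMN F _ _ R hrN
    exact h.not_pgl S hr hrt hrV hy hy1 hN hMN R hrN
  rcases hrQ.2 with h1 | h1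
  · exact kill r hrQ hrr1 hrt hrV h1
  · refine kill (r * t') (mul_mem hrQ (h.t_mem' S)) ?_ ?_ ?_ ?_
    · calc r * t' * (r * t') = r * (t' * r) * t' := by group
        _ = (r * r) * (t' * t') := by rw [← hrt]; group
        _ = 1 := by rw [hrr1, h.tt', one_mul]
    · rw [hrt, mul_assoc, hrt]
    · intro h2
      apply hrV
      have h3 := mul_mem h2 (inv_mem (t_mem_V' (t := t) (t' := t')))
      rwa [mul_inv_cancel_right] at h3
    · rw [L.mul _ _ (h.T_norm S hrQ.1) (h.T_norm S S.tT'), h1, h.ta]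
      exact ta_mul_self

/-- `T ∩ K` is dihedral of order 8 -/
theorem Out.dih : Nonempty (↥(T ⊓ K) ≃* DihedralGroup 4) := by
  have hTn := h.T_norm S
  obtain ⟨h8, -⟩ := A7.Star.exists_even L S.syl.two hTn (h.syl_K S) inf_le_left
  have hKn : T ⊓ K ≤ normalizer (K : Set G) := inf_le_left.trans hTn
  obtain ⟨W, hW⟩ : ∃ W : Subgroup P7, ∀ σ, σ ∈ W ↔ ∃ s ∈ T ⊓ K, L.φ s = σ := by
    refine ⟨((T ⊓ K).subgroupOf (normalizer (K : Set G))).map L.hom, fun σ => ?_⟩
    constructor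
    · rintro ⟨y, hy, rfl⟩
      exact ⟨y, hy, rfl⟩
    · rintro ⟨s, hs, rfl⟩
      exact ⟨⟨s, hKn hs⟩, hs, rfl⟩
  have hW2 : IsPGroup 2 W := by
    rintro ⟨σ, hσ⟩
    obtain ⟨s, hs, rfl⟩ := (hW σ).mp hσ
    obtain ⟨n, hn⟩ := S.syl.two ⟨s, hs.1⟩
    refine ⟨n, Subtype.ext ?_⟩
    show L.φ s ^ 2 ^ n = 1
    rw [← L.pow (hKn hs), show s ^ 2 ^ n = 1 from congrArg Subtype.val hn, L.one]
  obtain ⟨g, hg⟩ := A7.exists_conj_W0 W hW2
  have hmem : ∀ p ∈ T ⊓ K, g * L.φ p * g⁻¹ ∈ P0 := by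
    intro p hp
    refine A7.mem_P0.mpr ⟨hg _ ((hW _).mpr ⟨p, hp, rfl⟩), ?_⟩
    have h1 := L.mem_alt p hp.2
    rw [alt_univ, Equiv.Perm.mem_alternatingGroup] at h1
    rw [Perm.sign_mul, Perm.sign_mul, sign_inv, h1, mul_one, Int.units_mul_self]
  let f : ↥(T ⊓ K) →* ↥P0 :=
    { toFun := fun p => ⟨g * L.φ p * g⁻¹, hmem p p.2⟩
      map_one' := Subtype.ext (by
        show g * L.φ (1 : G) * g⁻¹ = 1
        rw [L.one, mul_one, mul_inv_cancel])
      map_mul' := fun p q => Subtype.ext (by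
        show g * L.φ ((p : G) * q) * g⁻¹ = (g * L.φ p * g⁻¹) * (g * L.φ q * g⁻¹)
        rw [L.mul _ _ (hKn p.2) (hKn q.2)]
        group) }
  have hinj : Function.Injective f := by
    rw [injective_iff_map_eq_one]
    intro p hp
    have h1 : g * L.φ p * g⁻¹ = 1 := congrArg Subtype.val hp
    have h2 : L.φ p = 1 := conj_eq_one_iff.mp h1
    exact Subtype.ext (two_elt (K := K) S.syl.two p.2.1 ((L.core_iff p p.2.2).mp h2))
  have hbij : Function.Bijective f := by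
    rw [Nat.bijective_iff_injective_and_card]
    exact ⟨hinj, by rw [A7.card_P0]; exact h8⟩
  exact ⟨(MulEquiv.ofBijective f hbij).trans (MulEquiv.ofBijective A7.g0hom A7.g0hom_bij).symm⟩

end syl

/-- **(6), (8) and Lemma D** -/
theorem Out.rank (h : Out M Y t t' K L) (h7 : Seven M Y t t' K) : SectionalPRankLE 2 4 G := by
  obtain ⟨T, S⟩ := h.exists_T
  have hP := h.twoP S
  obtain ⟨e⟩ := h.dih S
  have h8 : Nat.card ↥(T ⊓ K) = 8 :=
    (A7.Star.exists_even L S.syl.two (h.T_norm S) (h.syl_K S) inf_le_left).1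
  obtain ⟨z, hz⟩ : ∃ z, EightS (T ⊓ K) z := by
    refine A7.exists_eightS h8 ⟨e.symm (.r 1), (e.symm (.r 1)).2, e.symm (.sr 0), (e.symm (.sr 0)).2, ?_⟩
    intro h1
    have h2 : e.symm (.r 1) * e.symm (.sr 0) = e.symm (.sr 0) * e.symm (.r 1) := Subtype.ext h1
    rw [← map_mul, ← map_mul] at h2
    exact absurd (e.symm.injective h2) (by decide)
  by_cases hna : ∃ r ∈ Qs L T (h.T_norm S), r * t' ≠ t' * r
  · refine A7.rank_of_D3 S.syl hz hP (h.t_mem' S) h.tt' h.t1' (h.t_mem S) h.tt h.t1 h.ne ?_ hna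
    intro r hr hrt
    rcases h.V_cases (h.cent_V S h7 hr hrt) with h1 | h1 | h1 | h1
    · exact Or.inl h1
    · exact Or.inr (Or.inr (Or.inl h1))
    · exact Or.inr (Or.inl h1)
    · exact Or.inr (Or.inr (Or.inr (h1.trans h.cmm)))
  · push Not at hna
    have hQV : Qs L T (h.T_norm S) = jn t' (zpowers t) :=
      le_antisymm (fun r hr => h.cent_V S h7 hr (hna r hr)) (h.V_le_Qs S)
    have hTc : T ≤ centralizer ({t'} : Set G) := by
      intro s hs
      obtain ⟨p, hp, r, hr, rfl⟩ := hP.sup s hs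
      exact mul_mem (mem_c (hP.comm p hp t' (h.t_mem' S))) (mem_c (hna r hr))
    have hTc2 : T ≤ centralizer ({t * t'} : Set G) := fun s hs =>
      mem_c (Commute.mul_right (S.comm hs : Commute s t) (comm_c (hTc hs) : Commute s t'))
    obtain ⟨d, hd, hdt, hdt'⟩ := h.cnj
    -- `T` is a Sylow 2-subgroup of `C(b)`
    have key : ∀ (g b : G), g * t * g⁻¹ = b → T ≤ centralizer ({b} : Set G) →
        IsSyl (centralizer ({b} : Set G)) T := by
      intro g b hgb hTb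
      refine ⟨S.syl.two, hTb, fun R h1 h2 h3 => ?_⟩
      have h4 : cj g⁻¹ R ≤ centralizer ({t} : Set G) := by
        intro x hx
        rw [mem_cj, inv_inv] at hx
        have h5 := comm_c (h2 hx)
        apply mem_c
        rw [← hgb] at h5
        have h6 : g⁻¹ * (g * x * g⁻¹ * (g * t * g⁻¹)) * g = x * t := by group
        rw [← h6, h5]
        group
      obtain ⟨k, -, h5⟩ := S.syl.conj (isPGroup_cj (g := g⁻¹) h1) h4
      have h6 : Nat.card ↥R ≤ Nat.card ↥T := by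
        rw [← card_cj g⁻¹ R, ← card_cj k T]
        exact Nat.le_of_dvd Nat.card_pos (card_dvd_of_le h5)
      exact (Subgroup.eq_of_le_of_card_ge h3 h6).symm
    refine A7.rank_of_klein hP ⟨e⟩ (by rw [hQV]; exact h.four_gp.card) ?_ ?_
    · intro b hb
      rw [hQV] at hb
      exact h.four_gp.elem b hb
    · intro b hb hb1
      rw [hQV] at hb
      rcases h.V_cases hb with rfl | rfl | rfl | rfl
      · exact absurd rfl hb1
      · exact S.syl
      · exact key d _ hdt hTc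
      · refine key (d * d) _ ?_ hTc2
        have h1 : d * d * t * (d * d)⁻¹ = d * (d * t * d⁻¹) * d⁻¹ := by group
        rw [h1, hdt, hdt']

end Cfsg.Agent.UGT.L2Inner
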