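import Cfsg.Agent.UGT.L2Inner.WBMain

/-!
# UGT, inner L2: `(iii)`

* `YFrame.norm`: `t`, `t'` commuting involutions of `M`, `c ∈ Y`, `K` a 2-component of type `PSL(2,F)` or `A₇` of
  `C(c t)` normalized by `Y`: `t'` normalizes `K`.
-/

set_option autoImplicit false

open Cfsg Subgroup
open Cfsg.Agent.SignalizersComponents Cfsg.Agent.Lib
open Cfsg.Agent.SignalizersComponents.IntrinsicBasic
open Cfsg.Agent.SignalizersComponents.PLayerAut
open Cfsg.Agent.Intrinsic.Basic Cfsg.Agent.Intrinsic.Cen Cfsg.Agent.Intrinsic.Diag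
open Cfsg.Agent.McLLyComp.Act
open Cfsg.Agent.UGT.Triple Cfsg.Agent.UGT.TriBase
open Cfsg.Agent.GH.L2Aut (Four)
open scoped commutatorElement

namespace Cfsg.Agent.UGT.L2Inner

variable {G : Type*} [Group G] [Finite G]

namespace YFrame

variable {M Y : Subgroup G} (hF : YFrame M Y)

include hF

/-- **(iii)** -/
theorem norm {t t' c : G} {K : Subgroup G} (ht : t ∈ M) (htt : t * t = 1) (ht1 : t ≠ 1)
    (ht' : t' ∈ M) (htt' : t' * t' = 1) (hcomm : t * t' = t' * t) (hc : c ∈ Y)
    (hK : IsComp (centralizer ({c * t} : Set G)) K) (hKT : T27 K)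
    (hYK : ∀ y ∈ Y, y ∈ normalizer (K : Set G)) : t' ∈ normalizer (K : Set G) := by
  by_cases h1 : t' = 1
  · rw [h1]; exact one_mem _
  by_cases h2 : t = t'
  · rw [← h2]
    have h3 : t = c * (c * t) := by rw [← mul_assoc, hF.ysq c hc, one_mul]
    rw [h3]
    exact mul_mem (hYK c hc) (fixes_self' hK.le).1
  · have h3 : Four t t' := ⟨htt, htt', ht1, h1, h2, hcomm⟩
    have hF' := hF.frame (sq_four h3) (card_four h3) (by
      rintro p (rfl | rfl | rfl | rfl)
      · exact one_mem _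
      · exact ht
      · exact ht'
      · exact mul_mem ht ht')
    exact hF'.step2 hK hKT hc (Or.inr (Or.inl rfl)) ht1 hYK (Or.inr (Or.inr (Or.inl rfl)))

end YFrame

end Cfsg.Agent.UGT.L2Inner
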