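import Cfsg.Agent.UGT.L2Inner.Bad7
import Cfsg.Agent.UGT.L2Inner.WBStar

/-!
# UGT, inner L2 with `A₇`-triples present: the bad configuration after (1)-(5) of bb #12930

* `Out M Y t t' K L`: the four-group `V = ⟨t, t'⟩ ≤ M`, `K / O(K) ≅ A₇`, `K` a 2-component of `C(t)`, `Y` acts on
  `K / O(K)` as `V₄`, `t'` as `ta`; `y` or `y t` lies in `K`; `Y` contains the involutions of `C(⟨t⟩ Y)` fixing `L_y`.
* `Seven M Y t t' K`: the statement (7): no involution of `C(Y V)` fixing `K` is of field type on all `L_y`.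
-/

set_option autoImplicit false

open Cfsg Subgroup Equiv Equiv.Perm
open Cfsg.Agent.UAlt
open Cfsg.Agent.SignalizersComponents.IntrinsicBasic
open Cfsg.Agent.SignalizersComponents.PLayerAut
open Cfsg.Agent.Intrinsic.Basic
open Cfsg.Agent.McLLyComp.Act
open Cfsg.Agent.UGT.Triple

namespace Cfsg.Agent.UGT.L2Inner

variable {G : Type*} [Group G]

/-- The output of (1)-(5) of bb #12930. -/
structure Out (M Y : Subgroup G) (t t' : G) (K : Subgroup G) (L : Lab K) : Prop where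
  ysq : ∀ y ∈ Y, y * y = 1
  ycard : Nat.card Y = 4
  ym : ∀ y ∈ Y, ∀ m ∈ M, y * m = m * y
  comp : ∀ y ∈ Y, y ≠ 1 → ∃ N, IsComp (centralizer ({y} : Set G)) N ∧ M ≤ N ∧ M ⊔ core N = N ∧ L2T N
  tM : t ∈ M
  tM' : t' ∈ M
  tt : t * t = 1
  tt' : t' * t' = 1
  t1 : t ≠ 1
  t1' : t' ≠ 1
  ne : t ≠ t'
  cmm : t * t' = t' * t
  /-- `N_M(V)` is transitive on `V#` -/
  cnj : ∃ d ∈ M, d * t * d⁻¹ = t' ∧ d * t' * d⁻¹ = t * t'
  comp7 : IsComp (centralizer ({t} : Set G)) K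
  yK : ∀ y ∈ Y, y ∈ K ∨ y * t ∈ K
  yV : ∀ y ∈ Y, IsV (L.φ y)
  y1 : ∀ y ∈ Y, y ≠ 1 → L.φ y ≠ 1
  ta : L.φ t' = ta
  /-- `m₂(C(⟨t⟩Y) ∩ J_y) = 2` -/
  rk : ∀ y ∈ Y, y ≠ 1 → ∀ N, IsComp (centralizer ({y} : Set G)) N → M ≤ N → ∀ r, r * r = 1 →
    r * t = t * r → (∀ z ∈ Y, r * z = z * r) → Fixes r N → r ∈ Y

/-- The statement (7) of bb #12930. -/
def Seven (M Y : Subgroup G) (t t' : G) (K : Subgroup G) : Prop :=
  ∀ r : G, r * r = 1 → r * t = t * r → r * t' = t' * r → (∀ z ∈ Y, r * z = z * r) → Fixes r K →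
    (∀ y ∈ Y, y ≠ 1 → ∀ N, IsComp (centralizer ({y} : Set G)) N → M ≤ N →
      ∀ (F : Type) [Field F] [Finite F] (R : GH.L2Aut.Rep F (↥N ⧸ oddCore ↥N))
        (hr : r ∈ normalizer (N : Set G)), act N ⟨r, hr⟩ ∉ R.PGL) → False

end Cfsg.Agent.UGT.L2Inner
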