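import Cfsg.Agent.UGT.L2Inner.P3What
import Cfsg.Agent.UGT.TMCBase

/-!
# PIECE 3: the subgroup `H = N(W)` and the conditions (T1)–(T4)

`Pump 𝒯 Wh W L y`: `W = W(y)`, `L` a 2-component of `H = N(W)` fixed by `y`, and `cen L y` the member of the
family over `y`.

* `Pump.cent`: `C_G(y) ≤ H`;
* `Pump.all` (T1): all involutions of `K = {h ∈ H : Fixes h L}` have the same property;
* `Pump.unique` (T2);
* `Pump.exists_two` (T4);
* `Pump.three` (T3), strong form: `L ∩ K'` contains no four-group unless `W = W'`.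
-/

set_option autoImplicit false
set_option linter.unusedSectionVars false
set_option linter.unusedVariables false

open Cfsg Subgroup
open Cfsg.Agent.SignalizersComponents Cfsg.Agent.Lib
open Cfsg.Agent.SignalizersComponents.IntrinsicBasic
open Cfsg.Agent.SignalizersComponents.IntrinsicIntr
open Cfsg.Agent.Intrinsic.Basic Cfsg.Agent.Intrinsic.Cen Cfsg.Agent.Intrinsic.Diag
open Cfsg.Agent.McLLyComp.Act
open Cfsg.Agent.UGT.Triple Cfsg.Agent.UGT.TMCSyl
open Cfsg.Agent.UGT.TMCBase (comm_diag cen_cen_comm)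
open Cfsg.Agent.UGT.TriBase (IsSyl exists_isSyl card_cj fixes_self' exists_central isPGroup_cj)
open scoped commutatorElement

universe u

namespace Cfsg.Agent.UGT.L2Inner

variable {G : Type u} [Group G] [Finite G]
variable {𝒯 : G → Subgroup G → Prop} {Wh : Subgroup G → Subgroup G} {y t : G} {N P W W' L L' : Subgroup G}

theorem cj_normalizer (g : G) (W : Subgroup G) :
    cj g (normalizer (W : Set G)) = normalizer ((cj g W : Subgroup G) : Set G) := by
  ext x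
  rw [mem_cj, mem_normalizer_iff_cj, mem_normalizer_iff_cj, mul_assoc, cj_mul, ← cj_mul x g]
  constructor
  · intro h
    have := congrArg (cj g) h
    rwa [cj_cj_inv] at this
  · intro h
    rw [h, cj_inv_cj]

/-- an element commuting with `y` and an involution of `N` normalizes `N` -/
theorem PFam.mem_normalizer (F : PFam 𝒯) (h : 𝒯 y N) {v p : G} (hvy : v * y = y * v) (hp : p ∈ N)
    (hpp : p * p = 1) (hp1 : p ≠ 1) (hvp : v * p = p * v) : v ∈ normalizer (N : Set G) := by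
  have hN := F.comp h
  have hN' := isComp_cj_of_mem hN (mem_c hvy)
  rw [mem_normalizer_iff_cj]
  by_contra hne
  have hp' : p ∈ cj v N := by
    rw [mem_cj]
    have h1 : v⁻¹ * p * v = p := by
      rw [mul_assoc, ← hvp, ← mul_assoc, inv_mul_cancel, one_mul]
    rw [h1]; exact hp
  exact hp1 (F.eq_one h hp (hN.fixes_of_mem hN' (Ne.symm hne) hp') hpp)

/-- a four-group `V` of `C(d)` commuting with a four-group `P ≤ N`: some `v q` fixes `N` -/
theorem PFam.exists_fixing (F : PFam 𝒯) {d : G} (h : 𝒯 d N) (hP : Four P) (hPN : P ≤ N)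
    {V : Subgroup G} (hV : Four V) (hVd : ∀ v ∈ V, v * d = d * v) (hVP : ∀ v ∈ V, ∀ p ∈ P, v * p = p * v) :
    ∃ v ∈ V, v ≠ 1 ∧ ∃ q ∈ P, Fixes (v * q) N := by
  obtain ⟨a, haP, ha1, -⟩ := hP.exists_ne 1
  obtain ⟨b, hbP, hb1, hba⟩ := hP.exists_ne a
  obtain ⟨v, hvV, hv1, -⟩ := hV.exists_ne 1
  obtain ⟨w, hwV, hw1, hwv⟩ := hV.exists_ne v
  have haa := hP.elem a haP
  have hbb := hP.elem b hbP
  have hvv := hV.elem v hvV
  have hww := hV.elem w hwV
  have hab := hP.elem.comm haP hbP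
  have hvw := hV.elem.comm hvV hwV
  have hvN := F.mem_normalizer h (hVd v hvV) (hPN haP) haa ha1 (hVP v hvV a haP)
  have hwN := F.mem_normalizer h (hVd w hwV) (hPN haP) haa ha1 (hVP w hwV a haP)
  have hcore : ∀ x ∈ P, x ∈ core N → x = 1 := fun x hx h => eq_one_of_mem_core_sq h (hP.elem x hx)
  have sq1 : ∀ (c : G) (hc : c ∈ normalizer (N : Set G)), c * c = 1 → act N ⟨c, hc⟩ * act N ⟨c, hc⟩ = 1 := by
    intro c hc hcc
    rw [← map_mul]
    have : (⟨c, hc⟩ : ↥(normalizer (N : Set G))) * ⟨c, hc⟩ = 1 := Subtype.ext hcc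
    rw [this, map_one]
  have fixp : ∀ (c : G) (hc : c ∈ normalizer (N : Set G)) (p : G) (hp : p ∈ N), c * p = p * c →
      act N ⟨c, hc⟩ (QuotientGroup.mk ⟨p, hp⟩) = QuotientGroup.mk ⟨p, hp⟩ := by
    intro c hc p hp hcp
    rw [act_mk hc hp]
    congr 1
    apply Subtype.ext
    change c * p * c⁻¹ = p
    rw [hcp, mul_inv_cancel_right]
  obtain ⟨γ, hγ, p, hp, hγp⟩ := (F.lf h).cenP (QuotientGroup.mk ⟨a, hPN haP⟩)
    (QuotientGroup.mk ⟨b, hPN hbP⟩)
    ((mk_eq_one_iff (N.mul_mem (hPN haP) (hPN haP))).mpr (by rw [haa]; exact one_mem _))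
    ((mk_eq_one_iff (N.mul_mem (hPN hbP) (hPN hbP))).mpr (by rw [hbb]; exact one_mem _))
    ((mk_eq_iff (N.mul_mem (hPN haP) (hPN hbP)) (N.mul_mem (hPN hbP) (hPN haP))).mpr
      (by rw [hab, inv_mul_cancel]; exact one_mem _))
    (fun h => ha1 (hcore a haP ((mk_eq_one_iff _).mp h)))
    (fun h => hb1 (hcore b hbP ((mk_eq_one_iff _).mp h)))
    (fun h => by
      have h1 := (mk_eq_iff _ _).mp h
      have h2 := hcore _ (mul_mem (inv_mem hbP) haP) h1
      exact hba (inv_mul_eq_one.mp h2))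
    (act N ⟨v, hvN⟩) (act N ⟨w, hwN⟩) (sq1 v hvN hvv) (sq1 w hwN hww)
    (by
      rw [← map_mul, ← map_mul]
      congr 1
      exact Subtype.ext hvw)
    (fixp v hvN a _ (hVP v hvV a haP)) (fixp v hvN b _ (hVP v hvV b hbP))
    (fixp w hwN a _ (hVP w hwV a haP)) (fixp w hwN b _ (hVP w hwV b hbP))
  obtain ⟨c, hcV, hc1, hcN, hc⟩ : ∃ c ∈ V, c ≠ 1 ∧ ∃ hcN : c ∈ normalizer (N : Set G), γ = act N ⟨c, hcN⟩ := by
    rcases hγ with rfl | rfl | rfl
    · exact ⟨v, hvV, hv1, hvN, rfl⟩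
    · exact ⟨w, hwV, hw1, hwN, rfl⟩
    · refine ⟨v * w, mul_mem hvV hwV, ?_, mul_mem hvN hwN, (act_mul hvN hwN).symm⟩
      intro h1
      apply hwv
      have h2 : w = v⁻¹ := (inv_eq_of_mul_eq_one_right h1).symm
      rw [h2]
      exact inv_eq_of_mul_eq_one_left hvv
  obtain ⟨q, hqP, hq⟩ : ∃ q ∈ P, ∃ hqN : q ∈ N, p = QuotientGroup.mk ⟨q, hqN⟩ := by
    rcases hp with rfl | rfl | rfl | rfl
    · exact ⟨1, one_mem _, one_mem _, rfl⟩
    · exact ⟨a, haP, hPN haP, rfl⟩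
    · exact ⟨b, hbP, hPN hbP, rfl⟩
    · exact ⟨a * b, mul_mem haP hbP, mul_mem (hPN haP) (hPN hbP), rfl⟩
  obtain ⟨hqN, hq⟩ := hq
  refine ⟨c, hcV, hc1, q⁻¹, inv_mem hqP, ?_⟩
  rw [← act_eq_iff hcN (le_normalizer hqN), ← hc, hγp, hq, act_of_mem hqN]

/-- `W = W(y)`, `L` a 2-component of `N(W)` fixed by `y`, `cen L y` in the family over `y` -/
structure Pump (𝒯 : G → Subgroup G → Prop) (Wh : Subgroup G → Subgroup G) (W L : Subgroup G) (y : G) :
    Prop where
  isW : IsW 𝒯 Wh y W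
  comp : IsComp (normalizer (W : Set G)) L
  fix : Fixes y L
  fam : 𝒯 y (cen L y)

namespace Pump

variable (F : PFam 𝒯) (hW : WFun 𝒯 Wh)
include F hW

theorem cent (h : Pump 𝒯 Wh W L y) : centralizer ({y} : Set G) ≤ normalizer (W : Set G) :=
  fun _ hg => h.isW.cent F hW (comm_c hg)

theorem mem (h : Pump 𝒯 Wh W L y) : y ∈ normalizer (W : Set G) := h.cent F hW (mem_c rfl)

theorem sup (h : Pump 𝒯 Wh W L y) : cen L y ⊔ core L = L :=
  (isComp_cen h.comp (h.mem F hW) (F.sq h.fam) h.fix).2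

theorem conj (h : Pump 𝒯 Wh W L y) (g : G) : Pump 𝒯 Wh (cj g W) (cj g L) (g * y * g⁻¹) where
  isW := h.isW.conj F hW g
  comp := by rw [← cj_normalizer]; exact h.comp.cj g
  fix := h.fix.cj g
  fam := by rw [← cj_cen]; exact F.conj h.fam g

/-- **(T2)** -/
theorem unique (h : Pump 𝒯 Wh W L y) (h' : Pump 𝒯 Wh W' L' y) : W = W' := h.isW.unique F hW h'.isW

theorem fixes_cen (h : Pump 𝒯 Wh W L y) {z : G} (hc : z * y = y * z) (hf : Fixes z L) :
    Fixes z (cen L y) :=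
  (fixes_iff_of_sup (h.sup F hW) (mem_normalizer_cen hf.1 hc) hf.1).mpr hf

/-- an involution of `K` commuting with `y` -/
theorem step (h : Pump 𝒯 Wh W L y) {z : G} (hzz : z * z = 1) (hz1 : z ≠ 1) (hc : z * y = y * z)
    (hf : Fixes z L) : Pump 𝒯 Wh W L z := by
  have hN := F.comp h.fam
  have hfN := h.fixes_cen F hW hc hf
  obtain ⟨N', hN', hs⟩ := F.link h.fam hzz hz1 hc hfN
  have hz := h.isW.link F hW h.fam hzz hz1 hc hfN
  have hC : centralizer ({z} : Set G) ≤ normalizer (W : Set G) := fun _ hg => hz.cent F hW (comm_c hg)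
  have hzW : z ∈ normalizer (W : Set G) := hC (mem_c rfl)
  have hcomp := (isComp_cen h.comp hzW hzz hf).1
  rw [inf_of_le_right hC] at hcomp
  have hc2 := (isComp_cen hN (mem_c hc) hzz hfN).1
  have h1 : cen (cen L y) z ≤ N' := by rw [← hs]; exact le_sup_left
  have h2 : cen (cen L y) z ≤ cen L z := by
    rw [cen_cen_comm]
    exact cen_le _ _
  have h3 := hc2.unique (F.comp hN') hcomp h1 h2
  exact ⟨hz, h.comp, hf, h3 ▸ hN'⟩

/-- **(T1)** -/
theorem all (h : Pump 𝒯 Wh W L y) {x : G} (hxW : x ∈ normalizer (W : Set G)) (hxx : x * x = 1)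
    (hx1 : x ≠ 1) (hf : Fixes x L) : Pump 𝒯 Wh W L x := by
  have hyy := F.sq h.fam
  have hyK : zpowers y ≤ TriBase.fix (normalizer (W : Set G)) L := by
    rw [zpowers_le]
    exact ⟨h.mem F hW, h.fix⟩
  obtain ⟨S, hS, hyS⟩ := exists_isSyl (isPGroup_zpowers hyy) hyK
  have hyS' := hyS (mem_zpowers y)
  have hxK : zpowers x ≤ TriBase.fix (normalizer (W : Set G)) L := by
    rw [zpowers_le]
    exact ⟨hxW, hf⟩
  obtain ⟨g, hg, hle⟩ := hS.conj (isPGroup_zpowers hxx) hxK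
  have hx' : g⁻¹ * x * g ∈ S := mem_cj.mp (hle (mem_zpowers x))
  have hSb : S ≠ ⊥ := by
    rintro rfl
    exact F.ne_one h.fam (mem_bot.mp hyS')
  obtain ⟨z, hzS, hz2, hzc⟩ := exists_central hS.two le_rfl le_normalizer hSb
  have hz : Pump 𝒯 Wh W L z := h.step F hW (sq_of_order hz2) (ne_one_of_order hz2)
    (hzc y hyS').symm (hS.le hzS).2
  have e : ∀ c : G, g⁻¹ * x * g = g⁻¹ * x * g⁻¹⁻¹ := fun _ => by rw [inv_inv]
  have hx2 : Pump 𝒯 Wh W L (g⁻¹ * x * g) := by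
    refine hz.step F hW ?_ ?_ (hzc _ hx') (hS.le hx').2
    · rw [e 1]; exact conj_sq' hxx
    · rw [e 1]; exact conj_ne_one' hx1
  have h3 := hx2.conj F hW g
  rw [mem_normalizer_iff_cj.mp hg.1, mem_normalizer_iff_cj.mp hg.2.1] at h3
  have e2 : g * (g⁻¹ * x * g) * g⁻¹ = x := by group
  rwa [e2] at h3

/-- an element of `C(y)` fixing `cen L y` fixes `L` -/
theorem fixes_of_cen (h : Pump 𝒯 Wh W L y) {j : G} (hc : j * y = y * j) (hf : Fixes j (cen L y)) :
    Fixes j L := by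
  have hj : j ∈ normalizer (W : Set G) := h.cent F hW (mem_c hc)
  have h1 := isComp_cj_of_mem h.comp hj
  have h2 : cen L y ≤ cj j L := by
    have h3 := cj_mono (g := j) (cen_le L y)
    rwa [mem_normalizer_iff_cj.mp hf.1] at h3
  have h4 := (F.comp h.fam).unique h.comp h1 (cen_le L y) h2
  have hjL : j ∈ normalizer (L : Set G) := mem_normalizer_iff_cj.mpr h4.symm
  exact (fixes_iff_of_sup (h.sup F hW) hf.1 hjL).mp hf

/-- **(T4)** -/
theorem exists_two (h : Pump 𝒯 Wh W L y) : ∃ t, t * t = 1 ∧ t ≠ 1 ∧ t ≠ y ∧ t * y = y * t ∧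
    t ∈ normalizer (W : Set G) ∧ Fixes t L := by
  obtain ⟨t, h1, h2, h3, h4, h5⟩ := F.two h.fam
  exact ⟨t, h1, h2, h3, h4, h.cent F hW (mem_c h4), h.fixes_of_cen F hW h4 h5⟩

theorem le_cen {d : G} (h : Pump 𝒯 Wh W L d) (hP : Four P) (hPL : P ≤ L)
    (hPd : ∀ p ∈ P, p * d = d * p) : P ≤ cen L d :=
  fun p hp => mem_cen_of_sq (hPL hp) (hPd p hp) (hP.elem p hp)

/-- **(T3)**, first step -/
theorem key {d u : G} (h : Pump 𝒯 Wh W L d) (h' : Pump 𝒯 Wh W' L' u) (hP : Four P) (huP : u ∈ P)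
    (hPd : ∀ p ∈ P, p * d = d * p) (hPL : P ≤ L) (hPf : ∀ p ∈ P, Fixes p (cen L' u))
    (hdn : d ∈ normalizer (cen L' u : Set G)) {a b : ↥(cen L' u) ⧸ oddCore ↥(cen L' u)}
    (haa : a * a = 1) (hbb : b * b = 1) (hab : a * b = b * a) (ha1 : a ≠ 1) (hb1 : b ≠ 1) (hba : b ≠ a)
    (hda : act (cen L' u) ⟨d, hdn⟩ a = a) (hdb : act (cen L' u) ⟨d, hdn⟩ b = b) : W = W' := by
  have hdd := F.sq h.fam
  have hud : u * d = d * u := hPd u huP
  have hPN := h.le_cen F hW hP hPL hPd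
  have hRu : jn d P ≤ centralizer ({u} : Set G) :=
    jn_le (mem_c hud.symm) fun p hp => mem_c (hP.elem.comm hp huP)
  obtain ⟨V, hV, hVN, hVR, -⟩ := exists_four_lift' (F.comp h'.fam) (elem_jn hP.elem hdd hPd).isPGroup
    hRu haa hbb hab ha1 hb1 hba (by
      intro r hr
      rcases (mem_jn hdd hPd).mp hr with h1 | h1
      · exact ⟨(hPf r h1).1, act_of_fixes (hPf r h1) _, act_of_fixes (hPf r h1) _⟩
      · have hr' : r = d * (d * r) := by rw [← mul_assoc, hdd, one_mul]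
        obtain ⟨p, hp⟩ : ∃ p, p = d * r := ⟨_, rfl⟩
        rw [← hp] at h1 hr'
        subst hr'
        have hf := hPf p h1
        refine ⟨mul_mem hdn hf.1, ?_, ?_⟩
        · rw [act_mul hdn hf.1, MulAut.mul_apply, act_of_fixes hf, hda]
        · rw [act_mul hdn hf.1, MulAut.mul_apply, act_of_fixes hf, hdb])
  have hVd : ∀ v ∈ V, v * d = d * v := fun v hv => (hVR v hv d (self_mem_jn _ _)).symm
  have hVP : ∀ v ∈ V, ∀ p ∈ P, v * p = p * v := fun v hv p hp => (hVR v hv p (le_jn _ _ hp)).symm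
  obtain ⟨v, hvV, hv1, q, hqP, hf⟩ := F.exists_fixing h.fam hP hPN hV hVd hVP
  have hvv := hV.elem v hvV
  have hqq := hP.elem q hqP
  have hvP : v ∉ P := fun hvP => hv1 (F.eq_one h'.fam (hVN hvV) (hPf v hvP) hvv)
  have hj1 : v * q ≠ 1 := by
    intro h1
    apply hvP
    have h2 : v = q⁻¹ := eq_inv_of_mul_eq_one_left h1
    rw [h2]; exact inv_mem hqP
  have hjj : (v * q) * (v * q) = 1 := mul_sq hvv hqq (hVP v hvV q hqP)
  have hjd : v * q * d = d * (v * q) := by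
    rw [mul_assoc, hPd q hqP, ← mul_assoc, hVd v hvV, mul_assoc]
  have hjP : ∀ p ∈ P, p * (v * q) = (v * q) * p := by
    intro p hp
    rw [← mul_assoc, ← hVP v hvV p hp, mul_assoc, hP.elem.comm hp hqP, ← mul_assoc]
  -- first side
  have e1 : Wh (jn (v * q) P) = W := by
    rcases eq_or_ne (v * q) d with h1 | h1
    · rw [h1]; exact h.isW.eq F hW h.fam hP hPN
    · have A : Adm 𝒯 d (v * q) (cen L d) P :=
        ⟨h.fam, hjj, hj1, h1, hjd, hf, hP, fun p hp => mem_cen_of_sq (hPN hp) (hjP p hp) (hP.elem p hp)⟩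
      rw [hW.eq A (le_jn _ _) (A.y_le F) (A.card_t F) (A.card_y F)]
      exact h.isW.eq F hW h.fam hP hPN
  rw [jn_mul hqP] at e1
  -- second side
  obtain ⟨w, hwP, hw1, hwu⟩ := hP.exists_ne u
  have A' : Adm 𝒯 u w (cen L' u) V :=
    ⟨h'.fam, hP.elem w hwP, hw1, hwu, hP.elem.comm hwP huP, hPf w hwP, hV,
      fun v' hv' => mem_cen_of_sq (hVN hv') (hVP v' hv' w hwP) (hV.elem v' hv')⟩
  have hle : jn v P ≤ jn u (jn w V) := by
    refine jn_le (le_jn _ _ (le_jn _ _ hvV)) fun p hp => ?_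
    have hu : u ∈ jn u (jn w V) := self_mem_jn _ _
    have hw : w ∈ jn u (jn w V) := le_jn _ _ (self_mem_jn _ _)
    rcases hP.mem_cases huP hwP (F.ne_one h'.fam) hw1 hwu hp with rfl | rfl | rfl | rfl
    · exact one_mem _
    · exact hu
    · exact hw
    · exact mul_mem hu hw
  have e2 : Wh (jn v P) = Wh (jn u V) :=
    hW.eq A' hle (A'.y_le F) (hP.card_jn hvv (fun p hp => (hVP v hvV p hp).symm) hvP) (A'.card_y F)
  rw [← e1, e2]
  exact h'.isW.eq F hW h'.fam hV hVN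

/-- a four-group of `K` commuting with the four-group `P ≤ L` -/
theorem exists_four (h : Pump 𝒯 Wh W L y) (hP : Four P) (hPL : P ≤ L) :
    ∃ Y : Subgroup G, Four Y ∧ (∀ c ∈ Y, ∀ p ∈ P, p * c = c * p) ∧
      ∀ c ∈ Y, c ≠ 1 → Pump 𝒯 Wh W L c := by
  obtain ⟨t, htt, ht1, hty, hc, htW, htf⟩ := h.exists_two F hW
  have hyy := F.sq h.fam
  have hy1 := F.ne_one h.fam
  have hyW := h.mem F hW
  have hcL := h.comp.core_le_core
  have hnot : ∀ c : G, c * c = 1 → c ≠ 1 → c ∉ core (normalizer (W : Set G)) := fun c h1 h2 h3 =>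
    h2 (eq_one_of_mem_core_sq h3 h1)
  have hPc : ∀ c : G, Fixes c L → ∀ p ∈ P, ⁅p, c⁆ ∈ core (normalizer (W : Set G)) := by
    intro c hc p hp
    rw [← commutatorElement_inv]
    exact inv_mem (hcL (hc.2 p (hPL hp)))
  obtain ⟨Y, hY, hYW, hYP, a, haY, b, hbY, ha1, hb1, hba, hya, htb⟩ :=
    exists_four_liftX (X := normalizer (W : Set G)) hP.elem.isPGroup (hPL.trans h.comp.le) hyW htW
      (by rw [hyy]; exact one_mem _) (by rw [htt]; exact one_mem _)
      (by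
        have : ⁅y, t⁆ = 1 := by rw [commutatorElement_def, ← hc]; group
        rw [this]; exact one_mem _)
      (hnot y hyy hy1) (hnot t htt ht1)
      (by
        have hyi : y⁻¹ = y := inv_eq_of_mul_eq_one_left hyy
        rw [hyi]
        refine hnot _ (mul_sq hyy htt hc.symm) fun h1 => hty ?_
        have h2 : t = y⁻¹ := (inv_eq_of_mul_eq_one_right h1).symm
        rw [h2, hyi])
      (hPc y h.fix) (hPc t htf)
  have hfa : Fixes a L := by
    have h1 : a = y * (y⁻¹ * a) := by group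
    rw [h1]
    exact fixes_mul h.fix (h.comp.fixes_of_core hya)
  have hfb : Fixes b L := by
    have h1 : b = t * (t⁻¹ * b) := by group
    rw [h1]
    exact fixes_mul htf (h.comp.fixes_of_core htb)
  refine ⟨Y, hY, hYP, fun c hcY hc1 => ?_⟩
  refine h.all F hW (hYW hcY) (hY.elem c hcY) hc1 ?_
  rcases hY.mem_cases haY hbY ha1 hb1 hba hcY with rfl | rfl | rfl | rfl
  · exact absurd rfl hc1
  · exact hfa
  · exact hfb
  · exact fixes_mul hfa hfb

/-- **(T3)**, the case of an involution `c ∈ K` moving `N' = cen L' u` -/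
theorem moved {c u : G} (h : Pump 𝒯 Wh W L c) (h' : Pump 𝒯 Wh W' L' u) (hP : Four P) (huP : u ∈ P)
    (hPc : ∀ p ∈ P, p * c = c * p) (hPL : P ≤ L) (hPf : ∀ p ∈ P, Fixes p (cen L' u))
    (hcn : c ∉ normalizer (cen L' u : Set G)) : W = W' := by
  have hcc := F.sq h.fam
  have hc1 := F.ne_one h.fam
  obtain ⟨N', hN'⟩ : ∃ N', N' = cen L' u := ⟨_, rfl⟩
  obtain ⟨X, hX⟩ : ∃ X, X = centralizer ({u} : Set G) := ⟨_, rfl⟩
  have hfam : 𝒯 u N' := hN' ▸ h'.fam
  have hcomp : IsComp X N' := hX ▸ F.comp hfam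
  rw [← hN'] at hPf hcn
  have hcX : c ∈ X := hX ▸ mem_c (hPc u huP).symm
  have hPX : P ≤ X := fun p hp => hX ▸ mem_c (hP.elem.comm hp huP)
  have hne : cj c N' ≠ N' := fun h1 => hcn (mem_normalizer_iff_cj.mpr h1)
  obtain ⟨hD, hD1, hD2, hD3, f, hfs, hfk, hfm, hf1⟩ := exists_diag hcomp hcX hcc hne
  have hLF := F.lf hfam
  have hinj : Function.Injective f := by
    rw [injective_iff_map_eq_one]
    intro x hx
    exact hLF.cen x fun b => (mem_center_iff.mp (hfk (MonoidHom.mem_ker.mpr hx)) b).symm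
  obtain ⟨γ, -, a, b, haa, hbb, hab, ha1, hb1, hba, -, -⟩ := hLF.typ 1 1 (one_mul 1) (one_mul 1) rfl
  -- `P` fixes the diagonal
  have hPD : ∀ p ∈ P, Fixes p (diag X N' c) := by
    intro p hp
    have hpc := hPc p hp
    have hpf := hPf p hp
    have hpf' : Fixes p (cj c N') := by
      have h1 := hpf.cj c
      have h2 : c * p * c⁻¹ = p := by rw [← hpc, mul_inv_cancel_right]
      rwa [h2] at h1
    have hpn : p ∈ normalizer (diag X N' c : Set G) := by
      rw [mem_normalizer_iff_cj, cj_diag, cj_eq_self_of_mem (hPX hp), mem_normalizer_iff_cj.mp hpf.1,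
        hpc, mul_inv_cancel_right]
    refine ⟨hpn, fun m hm => ?_⟩
    rw [hD3]
    refine ⟨?_, comm_diag hcomp hcX hcc hne (hPX hp) hpf hpf' m hm⟩
    rw [commutatorElement_def]
    exact (diag X N' c).mul_mem ((mem_normalizer_iff.mp hpn m).mp hm) ((diag X N' c).inv_mem hm)
  obtain ⟨V, hV, hVD, hVR, -⟩ := exists_four_lift' hD (R := P) hP.elem.isPGroup
    (le_inf hPX fun p hp => mem_c (hPc p hp)) (a := f a) (b := f b)
    (by rw [← map_mul, haa, map_one]) (by rw [← map_mul, hbb, map_one])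
    (by rw [← map_mul, hab, map_mul]) (fun h1 => ha1 (hinj (by rw [h1, map_one])))
    (fun h1 => hb1 (hinj (by rw [h1, map_one]))) (fun h1 => hba (hinj h1))
    (fun r hr => ⟨(hPD r hr).1, act_of_fixes (hPD r hr) _, act_of_fixes (hPD r hr) _⟩)
  have hVc : ∀ v ∈ V, v * c = c * v := fun v hv => comm_c (hD.le (hVD hv)).2
  have hVP : ∀ v ∈ V, ∀ p ∈ P, v * p = p * v := fun v hv p hp => (hVR v hv p hp).symm
  have hPN := h.le_cen F hW hP hPL hPc
  obtain ⟨m, hmV, hm1, q, hqP, hf⟩ := F.exists_fixing h.fam hP hPN hV hVc hVP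
  have hmm := hV.elem m hmV
  have hqq := hP.elem q hqP
  have hmX : m ∈ X := (hD.le (hVD hmV)).1
  -- the action of `m` on `N'`
  obtain ⟨k, hk, hmk⟩ := hD1 m (hVD hmV)
  have hck : c * k * c⁻¹ ∈ cj c N' := conj_mem_cj hk
  have hfck : Fixes (c * k * c⁻¹) N' := hcomp.fixes_of_mem (isComp_cj_of_mem hcomp hcX) hne.symm hck
  have hfs' : Fixes (k⁻¹ * m) N' := by
    have h1 : k⁻¹ * m = (c * k * c⁻¹) * (m⁻¹ * (k * (c * k * c⁻¹)))⁻¹ := by group
    rw [h1]
    exact fixes_mul hfck (hcomp.fixes_of_core (inv_mem hmk))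
  have hk1 : (QuotientGroup.mk ⟨k, hk⟩ : ↥N' ⧸ oddCore ↥N') ≠ 1 := by
    intro h1
    have h2 := hcomp.core_le_core ((mk_eq_one_iff hk).mp h1)
    have h3 : c * k * c⁻¹ ∈ core X := conj_mem_core (le_normalizer hcX) h2
    have h4 : m ∈ core X := by
      have h5 : m = (k * (c * k * c⁻¹)) * (m⁻¹ * (k * (c * k * c⁻¹)))⁻¹ := by group
      rw [h5]
      exact mul_mem (mul_mem h2 h3) (inv_mem hmk)
    exact hm1 (eq_one_of_mem_core_sq h4 hmm)
  have hfj : Fixes (k⁻¹ * (m * q)) N' := by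
    rw [← mul_assoc]
    exact fixes_mul hfs' (hPf q hqP)
  have hkn : k ∈ normalizer (N' : Set G) := le_normalizer hk
  have hjn : m * q ∈ normalizer (N' : Set G) := by
    have h1 : m * q = k * (k⁻¹ * (m * q)) := by group
    rw [h1]; exact mul_mem hkn hfj.1
  have hactj : act N' ⟨m * q, hjn⟩ = MulAut.conj (QuotientGroup.mk ⟨k, hk⟩) := by
    rw [← act_of_mem hk, act_eq_iff hjn hkn]
    have h1 : m * q * k⁻¹ = k * (k⁻¹ * (m * q)) * k⁻¹ := by group
    rw [h1]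
    exact fixes_conj hfj hkn
  have hjj : (m * q) * (m * q) = 1 := mul_sq hmm hqq (hVP m hmV q hqP)
  have hj1 : m * q ≠ 1 := by
    intro h1
    apply hk1
    apply hLF.cen
    intro b
    have h2 : act N' ⟨m * q, hjn⟩ = 1 := by
      rw [act_eq_one_iff hjn, h1]
      exact fixes_one N'
    have h3 := DFunLike.congr_fun (hactj.symm.trans h2) b
    rw [MulAut.conj_apply, MulAut.one_apply] at h3
    exact mul_inv_eq_iff_eq_mul.mp h3
  have hkk : (QuotientGroup.mk ⟨k, hk⟩ : ↥N' ⧸ oddCore ↥N') * QuotientGroup.mk ⟨k, hk⟩ = 1 := by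
    apply hLF.cen
    intro b
    have h2 : act N' ⟨m * q, hjn⟩ * act N' ⟨m * q, hjn⟩ = 1 := by
      rw [← map_mul]
      have : (⟨m * q, hjn⟩ : ↥(normalizer (N' : Set G))) * ⟨m * q, hjn⟩ = 1 := Subtype.ext hjj
      rw [this, map_one]
    rw [hactj, ← map_mul] at h2
    have h3 := DFunLike.congr_fun h2 b
    rw [MulAut.conj_apply, MulAut.one_apply] at h3
    exact mul_inv_eq_iff_eq_mul.mp h3
  obtain ⟨e, hee, hke, he1, hek⟩ := hLF.four _ hkk hk1
  have hjc : m * q * c = c * (m * q) := by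
    rw [mul_assoc, hPc q hqP, ← mul_assoc, hVc m hmV, mul_assoc]
  have hj : Pump 𝒯 Wh W L (m * q) :=
    h.all F hW (h.cent F hW (mem_c hjc)) hjj hj1 (h.fixes_of_cen F hW hjc hf)
  have hPj : ∀ p ∈ P, p * (m * q) = m * q * p := by
    intro p hp
    rw [← mul_assoc, ← hVP m hmV p hp, mul_assoc, hP.elem.comm hp hqP, ← mul_assoc]
  subst hN'
  refine hj.key F hW h' hP huP hPj hPL hPf hjn hkk hee hke hk1 he1 hek ?_ ?_
  · rw [hactj, MulAut.conj_apply, mul_inv_cancel_right]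
  · rw [hactj, MulAut.conj_apply, hke, mul_inv_cancel_right]

/-- **(T3)** `L ∩ K'` contains no four-group unless `W = W'` -/
theorem three {y' : G} (h : Pump 𝒯 Wh W L y) (h' : Pump 𝒯 Wh W' L' y') (hP : Four P) (hPL : P ≤ L)
    (hPf : ∀ p ∈ P, p ∈ normalizer (W' : Set G) ∧ Fixes p L') : W = W' := by
  obtain ⟨Y, hY, hYP, hYp⟩ := h.exists_four F hW hP hPL
  obtain ⟨u, huP, hu1, -⟩ := hP.exists_ne 1
  have h'u : Pump 𝒯 Wh W' L' u := h'.all F hW (hPf u huP).1 (hP.elem u huP) hu1 (hPf u huP).2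
  have hPf' : ∀ p ∈ P, Fixes p (cen L' u) := fun p hp =>
    h'u.fixes_cen F hW (hP.elem.comm hp huP) (hPf p hp).2
  by_cases hall : ∀ c ∈ Y, c ∈ normalizer (cen L' u : Set G)
  · obtain ⟨a, haY, ha1, -⟩ := hY.exists_ne 1
    obtain ⟨b, hbY, hb1, hba⟩ := hY.exists_ne a
    have han := hall a haY
    have hbn := hall b hbY
    have haa := hY.elem a haY
    have hbb := hY.elem b hbY
    have sq1 : ∀ (c : G) (hc : c ∈ normalizer (cen L' u : Set G)), c * c = 1 →
        act (cen L' u) ⟨c, hc⟩ * act (cen L' u) ⟨c, hc⟩ = 1 := by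
      intro c hc hcc
      rw [← map_mul]
      have : (⟨c, hc⟩ : ↥(normalizer (cen L' u : Set G))) * ⟨c, hc⟩ = 1 := Subtype.ext hcc
      rw [this, map_one]
    obtain ⟨γ, hγ, a', b', h1, h2, h3, h4, h5, h6, h7, h8⟩ := (F.lf h'u.fam).typ
      (act (cen L' u) ⟨a, han⟩) (act (cen L' u) ⟨b, hbn⟩) (sq1 a han haa) (sq1 b hbn hbb)
      (by
        rw [← map_mul, ← map_mul]
        congr 1
        exact Subtype.ext (hY.elem.comm haY hbY))
    obtain ⟨d, hdY, hd1, hdn, hd⟩ : ∃ d ∈ Y, d ≠ 1 ∧ ∃ hdn : d ∈ normalizer (cen L' u : Set G),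
        γ = act (cen L' u) ⟨d, hdn⟩ := by
      rcases hγ with rfl | rfl | rfl
      · exact ⟨a, haY, ha1, han, rfl⟩
      · exact ⟨b, hbY, hb1, hbn, rfl⟩
      · refine ⟨a * b, mul_mem haY hbY, ?_, mul_mem han hbn, (act_mul han hbn).symm⟩
        intro h1
        apply hba
        have h2 : b = a⁻¹ := (inv_eq_of_mul_eq_one_right h1).symm
        rw [h2]
        exact inv_eq_of_mul_eq_one_left haa
    exact (hYp d hdY hd1).key F hW h'u hP huP (hYP d hdY) hPL hPf' hdn h1 h2 h3 h4 h5 h6 (hd ▸ h7)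
      (hd ▸ h8)
  · push Not at hall
    obtain ⟨c, hcY, hcn⟩ := hall
    have hc1 : c ≠ 1 := by
      rintro rfl
      exact hcn (one_mem _)
    exact (hYp c hcY hc1).moved F hW h'u hP huP (hYP c hcY) hPL hPf' hcn

end Pump

end Cfsg.Agent.UGT.L2Inner
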