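import Cfsg.Agent.UGT.L2Inner.P3Elem
import Cfsg.Agent.UGT.SLEnd
import Cfsg.Agent.Lib.CoprimeHyperplane
import Cfsg.Agent.Lib.KleinGen

/-!
# PIECE 3 of the inner `L₂(q)` case: local lemmas

`PFam 𝒯`: a family of pairs `(y, N)`, `y` an involution, `N` a 2-component of `C(y)`, `N / O(N)` with the
properties `LF` of `PSL₂(q)`, `q ≥ 11`, closed under conjugation and under (trivial) pump-ups.
`Adm 𝒯 y t N P`: `t ≠ y` an involution of `C(y)` fixing `N`, `P` a four-group of `cen N t`.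
`WFun 𝒯 Wh`: a function `Wh` on subgroups, compatible with conjugation, constant on the subgroups of order 8 of
`⟨y, t⟩ × P`.

Result: `Wh (⟨y⟩ P)` (`P ≤ N` a four-group) depends only on `y`; it is normalized by `C_G(y)`, and equal for
linked involutions.
-/

set_option autoImplicit false
set_option linter.unusedSectionVars false
set_option linter.unusedVariables false

open Cfsg Subgroup
open Cfsg.Agent.SignalizersComponents Cfsg.Agent.Lib
open Cfsg.Agent.SignalizersComponents.IntrinsicBasic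
open Cfsg.Agent.SignalizersComponents.IntrinsicIntr
open Cfsg.Agent.Intrinsic.Basic Cfsg.Agent.Intrinsic.Cen
open Cfsg.Agent.McLLyComp.Act
open Cfsg.Agent.UGT.Triple Cfsg.Agent.UGT.TMCSyl
open Cfsg.Agent.UGT.TriBase (IsSyl exists_isSyl card_cj fixes_self' exists_central)
open scoped commutatorElement

universe u

namespace Cfsg.Agent.UGT.L2Inner

/-- the properties of `PSL₂(q)`, `q ≥ 11` odd, that are used -/
structure LF (A : Type u) [Group A] : Prop where
  cen : ∀ a : A, (∀ b, a * b = b * a) → a = 1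
  rank : ∀ B : Subgroup A, Elem B → Nat.card B ≤ 4
  gam : SL.GamAut A
  /-- two commuting automorphisms of order `≤ 2` centralizing a four-group -/
  cenP : ∀ a b : A, a * a = 1 → b * b = 1 → a * b = b * a → a ≠ 1 → b ≠ 1 → b ≠ a →
    ∀ α β : MulAut A, α * α = 1 → β * β = 1 → α * β = β * α → α a = a → α b = b → β a = a → β b = b →
    ∃ γ, (γ = α ∨ γ = β ∨ γ = α * β) ∧ ∃ p, (p = 1 ∨ p = a ∨ p = b ∨ p = a * b) ∧ γ = MulAut.conj p
  /-- one of `α`, `β`, `α β` centralizes a four-group -/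
  typ : ∀ α β : MulAut A, α * α = 1 → β * β = 1 → α * β = β * α →
    ∃ γ, (γ = α ∨ γ = β ∨ γ = α * β) ∧
      ∃ a b : A, a * a = 1 ∧ b * b = 1 ∧ a * b = b * a ∧ a ≠ 1 ∧ b ≠ 1 ∧ b ≠ a ∧ γ a = a ∧ γ b = b
  four : ∀ a : A, a * a = 1 → a ≠ 1 → ∃ b, b * b = 1 ∧ a * b = b * a ∧ b ≠ 1 ∧ b ≠ a

variable {G : Type u} [Group G]

structure PFam (𝒯 : G → Subgroup G → Prop) : Prop where
  inv : ∀ {y : G} {N : Subgroup G}, 𝒯 y N → orderOf y = 2
  comp : ∀ {y : G} {N : Subgroup G}, 𝒯 y N → IsComp (centralizer ({y} : Set G)) N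
  lf : ∀ {y : G} {N : Subgroup G}, 𝒯 y N → LF (↥N ⧸ oddCore ↥N)
  conj : ∀ {y : G} {N : Subgroup G}, 𝒯 y N → ∀ g : G, 𝒯 (g * y * g⁻¹) (cj g N)
  /-- pump-ups are trivial -/
  link : ∀ {y : G} {N : Subgroup G}, 𝒯 y N → ∀ {t : G}, t * t = 1 → t ≠ 1 → t * y = y * t → Fixes t N →
    ∃ N', 𝒯 t N' ∧ cen N t ⊔ core N' = N'
  two : ∀ {y : G} {N : Subgroup G}, 𝒯 y N → ∃ t, t * t = 1 ∧ t ≠ 1 ∧ t ≠ y ∧ t * y = y * t ∧ Fixes t N

/-- `⟨y, t⟩ × P` is admissible -/
structure Adm (𝒯 : G → Subgroup G → Prop) (y t : G) (N P : Subgroup G) : Prop where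
  fam : 𝒯 y N
  sq : t * t = 1
  ne : t ≠ 1
  ne' : t ≠ y
  comm : t * y = y * t
  fix : Fixes t N
  four : Four P
  le : P ≤ cen N t

structure WFun (𝒯 : G → Subgroup G → Prop) (Wh : Subgroup G → Subgroup G) : Prop where
  cj : ∀ (g : G) (D : Subgroup G), Wh (cj g D) = cj g (Wh D)
  eq : ∀ {y t : G} {N P : Subgroup G}, Adm 𝒯 y t N P → ∀ {D D' : Subgroup G},
    D ≤ jn y (jn t P) → D' ≤ jn y (jn t P) → Nat.card D = 8 → Nat.card D' = 8 → Wh D = Wh D'

/-! ### basic facts -/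

variable {𝒯 : G → Subgroup G → Prop} {Wh : Subgroup G → Subgroup G} {y t : G} {N P : Subgroup G}

theorem conj_sq' {g a : G} (ha : a * a = 1) : (g * a * g⁻¹) * (g * a * g⁻¹) = 1 := by
  calc (g * a * g⁻¹) * (g * a * g⁻¹) = g * (a * a) * g⁻¹ := by group
    _ = 1 := by rw [ha]; group

theorem conj_ne_one' {g a : G} (ha : a ≠ 1) : g * a * g⁻¹ ≠ 1 := by
  intro h
  apply ha
  calc a = g⁻¹ * (g * a * g⁻¹) * g := by group
    _ = 1 := by rw [h]; group

theorem conj_comm' {g a b : G} (h : a * b = b * a) :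
    (g * a * g⁻¹) * (g * b * g⁻¹) = (g * b * g⁻¹) * (g * a * g⁻¹) := by
  calc (g * a * g⁻¹) * (g * b * g⁻¹) = g * (a * b) * g⁻¹ := by group
    _ = g * (b * a) * g⁻¹ := by rw [h]
    _ = _ := by group

theorem mul_sq {a b : G} (ha : a * a = 1) (hb : b * b = 1) (hab : a * b = b * a) :
    (a * b) * (a * b) = 1 := by
  calc (a * b) * (a * b) = a * (b * a) * b := by group
    _ = a * (a * b) * b := by rw [hab]
    _ = (a * a) * (b * b) := by group
    _ = 1 := by rw [ha, hb, one_mul]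

instance normal_core (K : Subgroup G) : ((core K).subgroupOf K).Normal :=
  normal_subgroupOf_of_le_normalizer (le_normalizer_core K)

theorem cj_zpowers (g y : G) : cj g (zpowers y) = zpowers (g * y * g⁻¹) := by
  rw [cj_def, MonoidHom.map_zpowers]
  rfl

/-- the normalizer of `Wh D` -/
theorem WFun.mem_of_normalizes (hW : WFun 𝒯 Wh) {g : G} {D : Subgroup G} (h : IntrinsicBasic.cj g D = D) :
    g ∈ normalizer (Wh D : Set G) := by
  rw [mem_normalizer_iff_cj, ← hW.cj, h]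

section finite

variable [Finite G]

theorem PFam.sq (F : PFam 𝒯) (h : 𝒯 y N) : y * y = 1 := sq_of_order (F.inv h)

theorem PFam.ne_one (F : PFam 𝒯) (h : 𝒯 y N) : y ≠ 1 := ne_one_of_order (F.inv h)

/-- no involution of `N` fixes `N` -/
theorem PFam.eq_one (F : PFam 𝒯) (h : 𝒯 y N) {x : G} (hx : x ∈ N) (hf : Fixes x N) (hxx : x * x = 1) :
    x = 1 := by
  have h1 := (act_eq_one_iff hf.1).mpr hf
  have h2 := act_of_mem (K := N) hx
  have h3 : MulAut.conj (QuotientGroup.mk ⟨x, hx⟩ : ↥N ⧸ oddCore ↥N) = 1 := by rw [← h2]; exact h1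
  have h4 : (QuotientGroup.mk ⟨x, hx⟩ : ↥N ⧸ oddCore ↥N) = 1 := by
    apply (F.lf h).cen
    intro b
    have h5 := DFunLike.congr_fun h3 b
    rw [MulAut.conj_apply, MulAut.one_apply] at h5
    exact mul_inv_eq_iff_eq_mul.mp h5
  exact eq_one_of_mem_core_sq ((mk_eq_one_iff hx).mp h4) hxx

theorem PFam.comm (F : PFam 𝒯) (h : 𝒯 y N) {x : G} (hx : x ∈ N) : x * y = y * x :=
  comm_c ((F.comp h).le hx)

theorem PFam.fixes_self (F : PFam 𝒯) (h : 𝒯 y N) : Fixes y N := fixes_self' (F.comp h).le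

/-- an involution of `N` is not in `⟨y, t⟩` when `t` fixes `N` -/
theorem PFam.ne_of_fix (F : PFam 𝒯) (h : 𝒯 y N) {x f : G} (hx : x ∈ N) (hx1 : x ≠ 1) (hxx : x * x = 1)
    (hf : Fixes f N) : x ≠ f := by
  rintro rfl
  exact hx1 (F.eq_one h hx hf hxx)

namespace Adm

variable (F : PFam 𝒯) (A : Adm 𝒯 y t N P)
include F A

theorem leN : P ≤ N := A.le.trans (cen_le N t)

theorem comm_y {p : G} (hp : p ∈ P) : p * y = y * p := F.comm A.fam (A.leN F hp)

theorem comm_t {p : G} (hp : p ∈ P) : p * t = t * p := comm_of_mem_cen (A.le hp)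

theorem sup : cen N t ⊔ core N = N :=
  (isComp_cen (F.comp A.fam) (mem_c A.comm) A.sq A.fix).2

theorem comp : IsComp (centralizer ({y} : Set G) ⊓ centralizer ({t} : Set G)) (cen N t) :=
  (isComp_cen (F.comp A.fam) (mem_c A.comm) A.sq A.fix).1

theorem ne_of_mem {x f : G} (hx : x ∈ P) (hx1 : x ≠ 1) (hf : Fixes f N) : x ≠ f :=
  F.ne_of_fix A.fam (A.leN F hx) hx1 (A.four.elem x hx) hf

theorem y_notMem : y ∉ P := fun h =>
  A.ne_of_mem F h (F.ne_one A.fam) (F.fixes_self A.fam) rfl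

theorem card_y : Nat.card (jn y P) = 8 :=
  A.four.card_jn (F.sq A.fam) (fun p hp => A.comm_y F hp) (A.y_notMem F)

theorem t_notMem : t ∉ P := fun h => A.ne_of_mem F h A.ne A.fix rfl

theorem card_t : Nat.card (jn t P) = 8 :=
  A.four.card_jn A.sq (fun p hp => A.comm_t F hp) (A.t_notMem F)

/-- the group `⟨y, t, v⟩`, `v ∈ P` -/
theorem card_v {v : G} (hv : v ∈ P) (hv1 : v ≠ 1) : Nat.card (jn v (jn t (zpowers y))) = 8 :=
  card_eight (F.sq A.fam) A.sq (A.four.elem v hv) A.comm.symm (A.comm_y F hv).symm (A.comm_t F hv).symm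
    (F.ne_one A.fam) A.ne A.ne' hv1 (A.ne_of_mem F hv hv1 (F.fixes_self A.fam))
    (A.ne_of_mem F hv hv1 A.fix) (A.ne_of_mem F hv hv1 (fixes_mul (F.fixes_self A.fam) A.fix))

theorem v_le {v : G} (hv : v ∈ P) : jn v (jn t (zpowers y)) ≤ jn y (jn t P) := by
  refine jn_le (le_jn _ _ (le_jn _ _ hv)) (jn_le (le_jn _ _ (self_mem_jn _ _)) ?_)
  rw [zpowers_le]
  exact self_mem_jn _ _

theorem y_le : jn y P ≤ jn y (jn t P) := jn_le (self_mem_jn _ _) ((le_jn _ _).trans (le_jn _ _))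

/-- `C(y, t, v) ≤ N(Wh(⟨y⟩P))` -/
theorem cent_le (hW : WFun 𝒯 Wh) {v x : G} (hv : v ∈ P) (hv1 : v ≠ 1) (hxy : x * y = y * x)
    (hxt : x * t = t * x) (hxv : x * v = v * x) : x ∈ normalizer (Wh (jn y P) : Set G) := by
  have h1 : Wh (jn y P) = Wh (jn v (jn t (zpowers y))) :=
    hW.eq A (A.y_le F) (A.v_le F hv) (A.card_y F) (A.card_v F hv hv1)
  rw [h1]
  apply hW.mem_of_normalizes
  rw [cj_jn, cj_jn, cj_zpowers, hxy, hxt, hxv, mul_inv_cancel_right, mul_inv_cancel_right,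
    mul_inv_cancel_right]

/-- **(3)** `C(D) ≤ N(Wh(⟨y⟩P))` for `D ≤ E` of order 8 -/
theorem cent_le' (hW : WFun 𝒯 Wh) {D : Subgroup G} (hD : D ≤ jn y (jn t P)) (hD8 : Nat.card D = 8)
    {x : G} (hx : ∀ d ∈ D, x * d = d * x) : x ∈ normalizer (Wh (jn y P) : Set G) := by
  have h1 : Wh (jn y P) = Wh D := hW.eq A (A.y_le F) hD (A.card_y F) hD8
  rw [h1]
  apply hW.mem_of_normalizes
  ext z
  rw [mem_cj]
  constructor
  · intro hz
    have h2 := hx _ hz
    have h3 : x⁻¹ * z * x = z := by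
      have h4 : x * (x⁻¹ * z * x) = z * x := by group
      rw [h4] at h2
      exact (mul_right_cancel h2).symm
    rw [h3] at hz; exact hz
  · intro hz
    have h2 := hx _ hz
    rw [mul_assoc, ← h2, ← mul_assoc, inv_mul_cancel, one_mul]
    exact hz


/-- `GamAut` for `M = cen N t` -/
theorem gamM : SL.GamAut (↥(cen N t) ⧸ (core (cen N t)).subgroupOf (cen N t)) := by
  obtain ⟨e, -⟩ := exists_quotEquiv (A.sup F)
  have h1 : (core (cen N t)).subgroupOf (cen N t) = oddCore ↥(cen N t) := by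
    ext x
    rw [mem_subgroupOf]
    exact mem_core_iff x.2
  have e1 : (↥(cen N t) ⧸ (core (cen N t)).subgroupOf (cen N t)) ≃* (↥(cen N t) ⧸ oddCore ↥(cen N t)) :=
    QuotientGroup.quotientMulEquivOfEq h1
  exact (F.lf A.fam).gam.congr (e1.trans e).symm

theorem not_fixes_cen {v : G} (hv : v ∈ P) (hv1 : v ≠ 1) : ¬ Fixes v (cen N t) := by
  intro h
  have h1 := (fixes_iff_of_sup (A.sup F) h.1 (le_normalizer (A.leN F hv))).mp h
  exact A.ne_of_mem F hv hv1 h1 rfl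

/-- **(2)** `M = cen N t ≤ N(Wh(⟨y⟩P))` -/
theorem cen_le_norm (hW : WFun 𝒯 Wh) : cen N t ≤ normalizer (Wh (jn y P) : Set G) := by
  obtain ⟨a, haP, ha1, -⟩ := A.four.exists_ne 1
  obtain ⟨b, hbP, hb1, hba⟩ := A.four.exists_ne a
  have haa := A.four.elem a haP
  have hbb := A.four.elem b hbP
  have hab := A.four.elem.comm haP hbP
  have habP := mul_mem haP hbP
  have hab1 : a * b ≠ 1 := by
    intro h
    apply hba
    have h2 : b = a⁻¹ := (inv_eq_of_mul_eq_one_right h).symm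
    rw [h2]
    exact inv_eq_of_mul_eq_one_left haa
  have key : ∀ v ∈ P, v ≠ 1 → ∀ x ∈ cen N t, x * v = v * x → x ∈ normalizer (Wh (jn y P) : Set G) :=
    fun v hv hv1 x hx hxv =>
      A.cent_le F hW hv hv1 (F.comm A.fam (cen_le N t hx)) (comm_of_mem_cen hx) hxv
  have hcore : core (cen N t) ≤ normalizer (Wh (jn y P) : Set G) := by
    refine KleinGen.le_of_klein _ _ (odd_card_core _) a b haa hbb hab ?_ ?_ ?_ ?_ ?_
    · exact fun h hh => conj_mem_core (le_normalizer (A.le haP)) hh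
    · exact fun h hh => conj_mem_core (le_normalizer (A.le hbP)) hh
    · exact fun x hx => key a haP ha1 x (core_le _ hx.1) (comm_c hx.2)
    · exact fun x hx => key b hbP hb1 x (core_le _ hx.1) (comm_c hx.2)
    · exact fun x hx => key _ habP hab1 x (core_le _ hx.1) (comm_c hx.2)
  have hnf : ∀ v ∈ P, v ≠ 1 → ∃ x ∈ cen N t, x⁻¹ * (v * x * v⁻¹) ∉ core (cen N t) := by
    intro v hv hv1
    by_contra hno
    push Not at hno
    exact A.not_fixes_cen F hv hv1 (fixes_iff_conj.mpr ⟨le_normalizer (A.le hv), hno⟩)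
  exact SL.gam_mod' (normal_core _) (core_le _)
    (odd_card_core _) (A.gamM F) haa hbb hab (le_normalizer (A.le haP)) (le_normalizer_core _ (A.le haP))
    (le_normalizer (A.le hbP)) (le_normalizer_core _ (A.le hbP)) (hnf a haP ha1) (hnf b hbP hb1)
    (hnf _ habP hab1) _ hcore (key a haP ha1) (key b hbP hb1) (key _ habP hab1)

theorem comm_all {x : G} (hx : x ∈ jn t P) : x * y = y * x := by
  rcases (mem_jn A.sq (fun p hp => A.comm_t F hp)).mp hx with h | h
  · exact A.comm_y F h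
  · have h1 := A.comm_y F h
    have h2 : x = t * (t * x) := by rw [← mul_assoc, A.sq, one_mul]
    calc x * y = t * ((t * x) * y) := by rw [← mul_assoc, ← mul_assoc, A.sq, one_mul]
      _ = (t * y) * (t * x) := by rw [h1]; group
      _ = (y * t) * (t * x) := by rw [A.comm]
      _ = y * x := by rw [mul_assoc, ← mul_assoc t t, A.sq, one_mul]

theorem elem : Elem (jn y (jn t P)) :=
  elem_jn (elem_jn A.four.elem A.sq fun p hp => A.comm_t F hp) (F.sq A.fam) fun p hp => A.comm_all F hp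

theorem y_notMem' : y ∉ jn t P := by
  intro h
  rcases (mem_jn A.sq (fun p hp => A.comm_t F hp)).mp h with h | h
  · exact A.y_notMem F h
  · have h1 : t * y ≠ 1 := by
      intro h1
      apply A.ne'
      have h2 : t = y⁻¹ := eq_inv_of_mul_eq_one_left h1
      rw [h2]
      exact inv_eq_of_mul_eq_one_left (F.sq A.fam)
    exact A.ne_of_mem F h h1 (fixes_mul A.fix (F.fixes_self A.fam)) rfl

theorem card : Nat.card (jn y (jn t P)) = 16 := by
  rw [card_jn (elem_jn A.four.elem A.sq fun p hp => A.comm_t F hp) (F.sq A.fam)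
    (fun p hp => A.comm_all F hp) (A.y_notMem' F), A.card_t F]

/-- **(3)** `O(C(y)) ≤ N(Wh(⟨y⟩P))` -/
theorem core_le_norm (hW : WFun 𝒯 Wh) :
    core (centralizer ({y} : Set G)) ≤ normalizer (Wh (jn y P) : Set G) := by
  have : Fact (Nat.Prime 2) := ⟨Nat.prime_two⟩
  obtain ⟨E, hE⟩ : ∃ E, E = jn y (jn t P) := ⟨_, rfl⟩
  have hEe : Elem E := hE ▸ A.elem F
  have hE16 : Nat.card E = 16 := hE ▸ A.card F
  have hEA : IsElementaryAbelian 2 E := by
    refine ⟨⟨⟨fun a b => Subtype.ext (hEe.comm a.2 b.2)⟩⟩, fun a ha => ?_⟩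
    rw [pow_two]
    exact hEe a ha
  have hE1 : E ≠ ⊥ := by
    rintro rfl
    rw [card_bot] at hE16
    omega
  have hEy : E ≤ centralizer ({y} : Set G) := by
    intro x hx
    exact mem_c (hEe.comm hx (hE ▸ self_mem_jn _ _))
  have h1 := CoprimeHyperplane.le_iSup_hyperplane (p := 2) E (core (centralizer ({y} : Set G))) hEA hE1
    (coprime_card_core _) (hEy.trans (le_normalizer_core _))
  rw [h1]
  refine iSup_le fun ⟨B, hBE, hB⟩ => ?_
  have hB8 : Nat.card B = 8 := by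
    have h2 := Subgroup.relIndex_mul_relIndex (⊥ : Subgroup G) B E bot_le hBE
    rw [relIndex_bot_left, relIndex_bot_left, hB, hE16] at h2
    omega
  intro x hx
  refine A.cent_le' F hW (hE ▸ hBE) hB8 fun d hd => ?_
  exact (mem_centralizer_iff.mp hx.2 d hd).symm

/-- **(4)** `N ≤ N(Wh(⟨y⟩P))` -/
theorem le_norm (hW : WFun 𝒯 Wh) : N ≤ normalizer (Wh (jn y P) : Set G) := by
  have h : cen N t ⊔ core N ≤ normalizer (Wh (jn y P) : Set G) :=
    sup_le (A.cen_le_norm F hW) ((F.comp A.fam).core_le_core.trans (A.core_le_norm F hW))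
  rwa [A.sup F] at h

end Adm

/-- `N` has 2-rank 2 -/
theorem PFam.rank (F : PFam 𝒯) (h : 𝒯 y N) {B : Subgroup G} (hB : Elem B) (hBN : B ≤ N) :
    Nat.card B ≤ 4 := by
  obtain ⟨C, hC⟩ : ∃ C, C = (B.subgroupOf N).map (QuotientGroup.mk' (oddCore ↥N)) := ⟨_, rfl⟩
  have h1 : Elem C := by
    rw [hC]
    rintro _ ⟨b, hb, rfl⟩
    rw [← map_mul]
    have : b * b = 1 := Subtype.ext (hB b hb)
    rw [this, map_one]
  have h2 := (F.lf h).rank C h1
  have h3 : Nat.card C = Nat.card (B.subgroupOf N) := by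
    rw [hC]
    refine Nat.card_congr (Equiv.ofBijective (fun x : B.subgroupOf N => ⟨_, mem_map_of_mem _ x.2⟩)
      ⟨?_, ?_⟩).symm
    · rintro ⟨x, hx⟩ ⟨z, hz⟩ hxz
      have h4 : (QuotientGroup.mk' (oddCore ↥N)) x = (QuotientGroup.mk' (oddCore ↥N)) z :=
        congrArg Subtype.val hxz
      have h5 : (x : G)⁻¹ * z ∈ core N := mk_eq_mk_iff.mp h4
      have h6 : ((x : G)⁻¹ * z) * ((x : G)⁻¹ * z) = 1 := hB _ (mul_mem (inv_mem hx) hz)
      have h7 := eq_one_of_mem_core_sq h5 h6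
      apply Subtype.ext
      apply Subtype.ext
      exact inv_mul_eq_one.mp h7
    · rintro ⟨_, x, hx, rfl⟩
      exact ⟨⟨x, hx⟩, rfl⟩
  rw [h3, Nat.card_congr (subgroupOfEquivOfLe hBN).toEquiv] at h2
  exact h2

/-- an involution of `N` commuting with the four-group `P ≤ N` is in `P` -/
theorem PFam.mem_of_comm (F : PFam 𝒯) (h : 𝒯 y N) (hP : Four P) (hPN : P ≤ N) {z : G} (hz : z ∈ N)
    (hzz : z * z = 1) (hc : ∀ p ∈ P, p * z = z * p) : z ∈ P := by
  by_contra hno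
  have h1 := F.rank h (elem_jn hP.elem hzz hc) (jn_le hz hPN)
  rw [hP.card_jn hzz hc hno] at h1
  omega

end finite

end Cfsg.Agent.UGT.L2Inner
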