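import Cfsg.Agent.UGT.L2Inner.WBTriple
import Cfsg.Agent.UGT.L2Inner.Bad7
import Cfsg.Agent.UGT.SLCore

/-!
# UGT, inner L2: weak 2-balance, the frame

`E = Y × P`, `Y` a four-group commuting with `M`, `P` a four-group of `M`; for `y ∈ Y#` the group `M` covers
`L / O(L) ≅ PSL(2,F)`, `L` a 2-component of `C(y)`; all triples are of type `PSL(2,F)` or `A₇` (`T27`).

* `Frame`, `mem_E`, `E_sq`, `E_comm`, `E_card`: the elementary abelian group `E` of order 16.
* `exists_meet`: `D ≤ E`, `|D| = 4`, `e ∈ E ∖ P`: some `d ∈ D#` with `d ∈ P` or `d e ∈ P`.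
* `eq_of_inv`: 2-components of type `PSL(2,F)` or `A₇` with a common involution are equal.
-/

set_option autoImplicit false

open Cfsg Subgroup
open Cfsg.Agent.SignalizersComponents Cfsg.Agent.Lib
open Cfsg.Agent.SignalizersComponents.IntrinsicBasic
open Cfsg.Agent.SignalizersComponents.PLayerAut
open Cfsg.Agent.Intrinsic.Basic Cfsg.Agent.Intrinsic.Cen Cfsg.Agent.Intrinsic.Diag
open Cfsg.Agent.McLLyComp.Act
open Cfsg.Agent.UGT.Triple Cfsg.Agent.UGT.TriBase
open scoped commutatorElement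

namespace Cfsg.Agent.UGT.L2Inner

variable {G : Type*} [Group G]

/-- `K / O(K) ≅ PSL(2,F)`, `F` a finite field of odd order -/
def L2T (K : Subgroup G) : Prop :=
  ∃ (F : Type) (_ : Field F) (_ : Finite F), Nonempty (GH.L2Aut.Rep F (↥K ⧸ oddCore ↥K))

/-- `K / O(K) ≅ PSL(2,F)` or `A₇` -/
def T27 (K : Subgroup G) : Prop := L2T K ∨ Nonempty (Lab K)

theorem L2T.t27 {K : Subgroup G} (h : L2T K) : T27 K := Or.inl h

instance {K : Subgroup G} : Coe (L2T K) (T27 K) := ⟨L2T.t27⟩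

/-- The frame of weak 2-balance. -/
structure Frame (M Y P : Subgroup G) : Prop where
  ysq : ∀ y ∈ Y, y * y = 1
  ycard : Nat.card Y = 4
  psq : ∀ p ∈ P, p * p = 1
  pcard : Nat.card P = 4
  ym : ∀ y ∈ Y, ∀ m ∈ M, y * m = m * y
  pm : P ≤ M
  comp : ∀ y ∈ Y, y ≠ 1 → ∃ L, IsComp (centralizer ({y} : Set G)) L ∧ M ≤ L ∧ M ⊔ core L = L ∧ L2T L
  rep : ∀ (x a : G) (K : Subgroup G), IsTriple x a K → T27 K

/-! ### elementary abelian groups -/

/-- groups of exponent two are abelian -/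
theorem comm_of_sq {A : Subgroup G} (h : ∀ a ∈ A, a * a = 1) {a b : G} (ha : a ∈ A) (hb : b ∈ A) :
    a * b = b * a := by
  have h1 := h _ (A.mul_mem ha hb)
  calc a * b = (b * b) * (a * b) * (a * a) := by rw [h b hb, h a ha, one_mul, mul_one]
    _ = b * ((b * a) * (b * a)) * a := by group
    _ = b * a := by rw [h _ (A.mul_mem hb ha), mul_one]

theorem order_two {a : G} (h : a * a = 1) (h1 : a ≠ 1) : orderOf a = 2 :=
  orderOf_eq_prime (by rw [pow_two, h]) h1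

theorem isPGroup_of_sq {A : Subgroup G} (h : ∀ a ∈ A, a * a = 1) : IsPGroup 2 ↥A := by
  rintro ⟨a, ha⟩
  exact ⟨1, Subtype.ext (by change a ^ 2 ^ 1 = 1; rw [pow_one, pow_two, h a ha])⟩

/-- two generators of a group of order four -/
theorem exists_gens [Finite G] {A : Subgroup G} (hA : Nat.card A = 4) :
    ∃ a ∈ A, ∃ b ∈ A, a ≠ 1 ∧ b ≠ 1 ∧ a ≠ b := by
  have h1 : 2 < Nat.card A := by omega
  by_contra hcon
  push Not at hcon
  -- `A ⊆ {1, a}`
  obtain ⟨a, ha, ha1⟩ : ∃ a ∈ A, a ≠ 1 := by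
    by_contra h
    push Not at h
    have h2 : A = ⊥ := by
      rw [eq_bot_iff]; intro a ha; exact mem_bot.mpr (h a ha)
    rw [h2, card_bot] at h1
    omega
  have h2 : (A : Set G) ⊆ {1, a} := by
    intro b hb
    by_cases hb1 : b = 1
    · exact Or.inl hb1
    · exact Or.inr (hcon a ha b hb ha1 hb1).symm
  have h3 := Set.ncard_le_ncard h2
  have h4 : ({1, a} : Set G).ncard ≤ 2 := Set.ncard_insert_le _ _ |>.trans (by rw [Set.ncard_singleton])
  have h5 : (A : Set G).ncard = Nat.card A := Nat.card_coe_set_eq _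
  omega

/-- a group of order more than four is not contained in `{1, a, b, ab}` -/
theorem exists_not_mem [Finite G] {A : Subgroup G} (hA : 4 < Nat.card A) (a b : G) :
    ∃ c ∈ A, c ≠ 1 ∧ c ≠ a ∧ c ≠ b ∧ c ≠ a * b := by
  by_contra hcon
  push Not at hcon
  have h2 : (A : Set G) ⊆ {1, a, b, a * b} := by
    intro c hc
    by_cases h1 : c = 1
    · exact Or.inl h1
    by_cases h2 : c = a
    · exact Or.inr (Or.inl h2)
    by_cases h3 : c = b
    · exact Or.inr (Or.inr (Or.inl h3))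
    · exact Or.inr (Or.inr (Or.inr (hcon c hc h1 h2 h3)))
  have h3 := Set.ncard_le_ncard h2
  have h4 : ({1, a, b, a * b} : Set G).ncard ≤ 4 := by
    refine (Set.ncard_insert_le _ _).trans ?_
    refine Nat.succ_le_succ ((Set.ncard_insert_le _ _).trans ?_)
    refine Nat.succ_le_succ ((Set.ncard_insert_le _ _).trans ?_)
    rw [Set.ncard_singleton]
  have h5 : (A : Set G).ncard = Nat.card A := Nat.card_coe_set_eq _
  omega

/-- two subgroups `D`, `T` of `E` with `|D| |T| = |E|` meet nontrivially or `E = D T` -/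
theorem meet_or_mul [Finite G] {E D T : Subgroup G} (hD : D ≤ E) (hT : T ≤ E)
    (hc : Nat.card D * Nat.card T = Nat.card E) :
    (∃ g ∈ D, g ∈ T ∧ g ≠ 1) ∨ ∀ e ∈ E, ∃ d ∈ D, ∃ t ∈ T, e = d * t := by
  by_cases h : ∃ g ∈ D, g ∈ T ∧ g ≠ 1
  · exact Or.inl h
  right
  push Not at h
  let f : ↥D × ↥T → ↥E := fun p => ⟨p.1 * p.2, E.mul_mem (hD p.1.2) (hT p.2.2)⟩
  have hf : Function.Injective f := by
    rintro ⟨⟨d, hd⟩, ⟨t, ht⟩⟩ ⟨⟨d', hd'⟩, ⟨t', ht'⟩⟩ heq
    have h1 : d * t = d' * t' := congrArg Subtype.val heq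
    have h2 : d'⁻¹ * d = t' * t⁻¹ := by
      rw [eq_mul_inv_iff_mul_eq, mul_assoc, h1, inv_mul_cancel_left]
    have h3 := h (d'⁻¹ * d) (D.mul_mem (D.inv_mem hd') hd) (by
      rw [h2]; exact T.mul_mem ht' (T.inv_mem ht))
    have h4 : d = d' := (inv_mul_eq_one.mp h3).symm
    have h5 : t = t' := by
      rw [h3] at h2
      exact (mul_inv_eq_one.mp h2.symm).symm
    subst h4 h5
    rfl
  have hs : Function.Surjective f := by
    have h1 : Nat.card (↥D × ↥T) = Nat.card ↥E := by rw [Nat.card_prod, hc]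
    exact ((Nat.bijective_iff_injective_and_card f).mpr ⟨hf, h1⟩).2
  intro e he
  obtain ⟨⟨⟨d, hd⟩, ⟨t, ht⟩⟩, h1⟩ := hs ⟨e, he⟩
  exact ⟨d, hd, t, ht, (congrArg Subtype.val h1).symm⟩

/-! ### the frame -/

namespace Frame

variable {M Y P : Subgroup G} (hF : Frame M Y P)

include hF

theorem mem_E {e : G} : e ∈ Y ⊔ P ↔ ∃ y ∈ Y, ∃ p ∈ P, e = y * p := by
  constructor
  · intro he
    obtain ⟨y, hy, p, hp, h⟩ := SL.exists_mul_of_mem_sup (A := Y) (B := P) (fun b hb a ha => by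
      rw [← hF.ym a ha b (hF.pm hb), mul_inv_cancel_right]
      exact ha) he
    exact ⟨y, hy, p, hp, h.symm⟩
  · rintro ⟨y, hy, p, hp, rfl⟩
    exact mul_mem ((le_sup_left : Y ≤ Y ⊔ P) hy) ((le_sup_right : P ≤ Y ⊔ P) hp)

theorem yp {y p : G} (hy : y ∈ Y) (hp : p ∈ P) : y * p = p * y := hF.ym y hy p (hF.pm hp)

theorem E_sq {e : G} (he : e ∈ Y ⊔ P) : e * e = 1 := by
  obtain ⟨y, hy, p, hp, rfl⟩ := hF.mem_E.mp he
  calc y * p * (y * p) = y * (p * y) * p := by group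
    _ = y * (y * p) * p := by rw [hF.yp hy hp]
    _ = (y * y) * (p * p) := by group
    _ = 1 := by rw [hF.ysq y hy, hF.psq p hp, one_mul]

theorem E_comm {e f : G} (he : e ∈ Y ⊔ P) (hf : f ∈ Y ⊔ P) : e * f = f * e :=
  comm_of_sq (fun _ h => hF.E_sq h) he hf

theorem E_le {e : G} (he : e ∈ Y ⊔ P) : Y ⊔ P ≤ centralizer ({e} : Set G) := fun _ hf =>
  mem_c (hF.E_comm hf he)

variable [Finite G]

/-- `Y ∩ P = 1` -/
theorem inf_eq {t : G} (hy : t ∈ Y) (hp : t ∈ P) : t = 1 := by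
  by_contra h1
  obtain ⟨L, hL, hML, -, ⟨F, _, _, ⟨R⟩⟩⟩ := hF.comp t hy h1
  have h2 : t ∈ L := hML (hF.pm hp)
  have h3 : Fixes t L := fixes_self' hL.le
  rw [← act_eq_one_iff (le_normalizer h2), act_of_mem h2] at h3
  have h4 := R.conj_injective (h3.trans (map_one _).symm)
  rw [mk_eq_one_iff h2] at h4
  exact h1 (eq_one_of_mem_core_sq h4 (hF.ysq t hy))

theorem E_card : Nat.card ↥(Y ⊔ P) = 16 := by
  let f : ↥Y × ↥P → ↥(Y ⊔ P) := fun p => ⟨p.1 * p.2, hF.mem_E.mpr ⟨p.1, p.1.2, p.2, p.2.2, rfl⟩⟩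
  have hf : Function.Bijective f := by
    constructor
    · rintro ⟨⟨d, hd⟩, ⟨t, ht⟩⟩ ⟨⟨d', hd'⟩, ⟨t', ht'⟩⟩ heq
      have h1 : d * t = d' * t' := congrArg Subtype.val heq
      have h2 : d'⁻¹ * d = t' * t⁻¹ := by
        rw [eq_mul_inv_iff_mul_eq, mul_assoc, h1, inv_mul_cancel_left]
      have h3 := hF.inf_eq (Y.mul_mem (Y.inv_mem hd') hd) (by
        rw [h2]; exact P.mul_mem ht' (P.inv_mem ht))
      have h4 : d = d' := (inv_mul_eq_one.mp h3).symm
      have h5 : t = t' := by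
        rw [h3] at h2
        exact (mul_inv_eq_one.mp h2.symm).symm
      subst h4 h5
      rfl
    · rintro ⟨e, he⟩
      obtain ⟨y, hy, p, hp, rfl⟩ := hF.mem_E.mp he
      exact ⟨⟨⟨y, hy⟩, ⟨p, hp⟩⟩, rfl⟩
  rw [← Nat.card_congr (Equiv.ofBijective f hf), Nat.card_prod, hF.ycard, hF.pcard]

/-- a four-group `D` of `E` meets `P⟨e⟩`, `e ∈ E ∖ P` -/
theorem exists_meet {D : Subgroup G} (hD : D ≤ Y ⊔ P) (hD4 : Nat.card D = 4) {e : G}
    (he : e ∈ Y ⊔ P) (heP : e ∉ P) : ∃ d ∈ D, d ≠ 1 ∧ (d ∈ P ∨ d * e ∈ P) := by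
  rcases meet_or_mul hD (le_sup_right : P ≤ Y ⊔ P) (by rw [hD4, hF.pcard, hF.E_card]) with h | h
  · obtain ⟨g, h1, h2, h3⟩ := h
    exact ⟨g, h1, h3, Or.inl h2⟩
  · obtain ⟨d, hd, t, ht, rfl⟩ := h e he
    refine ⟨d, hd, ?_, Or.inr ?_⟩
    · rintro rfl
      rw [one_mul] at heP
      exact heP ht
    · rw [← mul_assoc, hF.E_sq (hD hd), one_mul]
      exact ht

end Frame

/-! ### 2-components of type `PSL(2,F)` or `A₇` -/

variable [Finite G]

/-- an involution of `L` acts nontrivially on `L / O(L)` -/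
theorem not_fixes_of_mem {L : Subgroup G} (hT : T27 L) {v : G} (hv : v ∈ L) (hvv : v * v = 1)
    (hv1 : v ≠ 1) : ¬ Fixes v L := by
  rcases hT with ⟨F, _, _, ⟨R⟩⟩ | ⟨⟨R⟩⟩
  · intro h
    rw [← act_eq_one_iff (le_normalizer hv), act_of_mem hv] at h
    have h4 := R.conj_injective (h.trans (map_one _).symm)
    rw [mk_eq_one_iff hv] at h4
    exact hv1 (eq_one_of_mem_core_sq h4 hvv)
  · intro h
    rw [← R.fixes_iff (le_normalizer hv), R.core_iff v hv] at h
    exact hv1 (eq_one_of_mem_core_sq h hvv)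

/-- 2-components of type `PSL(2,F)` or `A₇` with a common involution are equal -/
theorem eq_of_inv {X L L' : Subgroup G} (hL : IsComp X L) (hL' : IsComp X L') (hT : T27 L) {v : G}
    (hv : v ∈ L) (hv' : v ∈ L') (hvv : v * v = 1) (hv1 : v ≠ 1) : L = L' := by
  by_contra hne
  exact not_fixes_of_mem hT hv hvv hv1 (hL.fixes_of_mem hL' hne hv')

/-- the elements of `X` commuting with an involution of `L` normalize `L` -/
theorem normalizes_of_comm {X L : Subgroup G} (hL : IsComp X L) (hT : T27 L) {v g : G}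
    (hv : v ∈ L) (hvv : v * v = 1) (hv1 : v ≠ 1) (hg : g ∈ X) (hgv : g * v = v * g) :
    g ∈ normalizer (L : Set G) := by
  rw [mem_normalizer_iff_cj]
  refine (eq_of_inv hL (isComp_cj_of_mem hL hg) hT hv ?_ hvv hv1).symm
  have h1 : g * v * g⁻¹ ∈ cj g L := conj_mem_cj hv
  rwa [hgv, mul_inv_cancel_right] at h1

omit [Finite G] in
/-- the 2-component condition from commutators -/
theorem fixes_of_comm_core [Finite G] {H K : Subgroup G} (hK : IsComp H K) {a : G} (ha : a ∈ H)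
    (h : ∀ k ∈ K, ⁅a, k⁆ ∈ core H) : Fixes a K := by
  rw [hK.fixes_iff ha, mem_cenMod hK.le]
  refine ⟨ha, fun k hk => ?_⟩
  have h1 := conj_mem_core (x := k⁻¹) (le_normalizer (H.inv_mem (hK.le hk))) (h k hk)
  have h2 : k⁻¹ * ⁅a, k⁆ * k⁻¹⁻¹ = k⁻¹ * (a * k * a⁻¹) := by
    rw [commutatorElement_def]
    group
  rw [h2] at h1
  exact h1

namespace Frame

variable {M Y P : Subgroup G} (hF : Frame M Y P)

include hF

/-- `Y` fixes `L_y` -/
theorem fixes_Y {y c : G} (hy : y ∈ Y) (hc : c ∈ Y) {L : Subgroup G}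
    (hL : IsComp (centralizer ({y} : Set G)) L) (hML : M ≤ L) (hs : M ⊔ core L = L) (hT : L2T L) :
    Fixes c L := by
  obtain ⟨v, hv, -, -, hv1, -, -⟩ := exists_gens hF.pcard
  have hcL : c ∈ normalizer (L : Set G) :=
    normalizes_of_comm hL hT.t27 (hML (hF.pm hv)) (hF.psq v hv) hv1
      (mem_c (comm_of_sq hF.ysq hc hy)) (hF.ym c hc v (hF.pm hv))
  have hcM : Fixes c M := fixes_self' fun m hm => mem_c (hF.ym c hc m hm).symm
  exact (fixes_iff_of_sup hs hcM.1 hcL).mp hcM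

end Frame

end Cfsg.Agent.UGT.L2Inner
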