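import Cfsg.Agent.UGT.L2Inner.WBBase
import Cfsg.Agent.UGT.L2Inner.SevenPerm

/-!
# UGT, inner L2: 2-components of type `A₇` moved by elements of the cores

* `exists_norm`: labels such that the element of `O(C(x)) ∩ C(a)` moves the points `4, 5, 6`.
* `isV_of_triple`: then `x` acts as an element of `V₄`.
* `exists_act`: the action of an elementary abelian group.
-/

set_option autoImplicit false

open Cfsg Subgroup Equiv Equiv.Perm
open Cfsg.Agent.UAlt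
open Cfsg.Agent.SignalizersComponents Cfsg.Agent.Lib
open Cfsg.Agent.SignalizersComponents.IntrinsicBasic
open Cfsg.Agent.Intrinsic.Basic Cfsg.Agent.Intrinsic.Cen Cfsg.Agent.Intrinsic.Diag
open Cfsg.Agent.McLLyComp.Act
open Cfsg.Agent.UGT.Triple Cfsg.Agent.UGT.TriBase
open scoped commutatorElement

namespace Cfsg.Agent.UGT.L2Inner

/-- `σ` moves exactly the points `4, 5, 6` -/
def M3 (σ : P7) : Prop := ∀ i, σ i ≠ i ↔ i = 4 ∨ i = 5 ∨ i = 6

theorem M3.fx {σ : P7} (h : M3 σ) : Fx σ := by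
  refine ⟨?_, ?_, ?_, ?_⟩ <;>
  · by_contra h1
    exact absurd ((h _).mp h1) (by decide)

/-- nontrivial elements of `Alt(F)`, `|F| = 3` -/
theorem three_moved {F : Finset (Fin 7)} (hF : F.card = 3) {σ : P7} (hσ : σ ∈ alt F) (h1 : σ ≠ 1) :
    (∀ i, σ i ≠ i ↔ i ∈ F) ∧ ∃ p, p ≠ σ p ∧ p ≠ σ (σ p) ∧ σ p ≠ σ (σ p) ∧
      ∀ i, i ∈ F ↔ i = p ∨ i = σ p ∨ i = σ (σ p) := by
  have hsub : σ.support ⊆ F := by
    intro i hi
    by_contra hcon
    exact Perm.mem_support.mp hi (hσ.2 i hcon)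
  have hle := Finset.card_le_card hsub
  rw [hF] at hle
  have h0 : σ.support.card ≠ 0 := by
    intro h
    exact h1 (Perm.card_support_eq_zero.mp h)
  have h1' : σ.support.card ≠ 1 := Perm.card_support_ne_one σ
  have h2 : σ.support.card ≠ 2 := by
    intro h
    have h3 := Perm.IsSwap.sign_eq (Perm.card_support_eq_two.mp h)
    have h4 : sign σ = 1 := Perm.mem_alternatingGroup.mp hσ.1
    rw [h4] at h3
    exact absurd h3 (by decide)
  have h3 : σ.support.card = 3 := by omega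
  have heq : σ.support = F := Finset.eq_of_subset_of_card_le hsub (by rw [hF, h3])
  have hc := card_support_eq_three_iff.mp h3
  have ho : Odd (orderOf σ) := by rw [hc.orderOf]; decide
  obtain ⟨p, hp⟩ : ∃ p, p ∈ σ.support := by
    apply Finset.Nonempty.exists_mem
    rw [← Finset.card_pos]
    omega
  have hp' := Perm.mem_support.mp hp
  have hpp : σ (σ p) ≠ p := fun h => hp' (fix_of_sq ho h)
  have hpp' : σ (σ p) ≠ σ p := fun h => hp' (σ.injective h)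
  have hset : ({p, σ p, σ (σ p)} : Finset (Fin 7)) = F := by
    apply Finset.eq_of_subset_of_card_le
    · intro i hi
      simp only [Finset.mem_insert, Finset.mem_singleton] at hi
      rw [← heq]
      rcases hi with rfl | rfl | rfl
      · exact hp
      · exact Perm.mem_support.mpr hpp'
      · exact Perm.mem_support.mpr fun h => hpp' (σ.injective h)
    · rw [hF]
      exact (Finset.card_eq_three.mpr ⟨p, σ p, σ (σ p), hp'.symm, hpp.symm, hpp'.symm, rfl⟩).ge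
  refine ⟨fun i => ?_, p, hp'.symm, hpp.symm, hpp'.symm, fun i => ?_⟩
  · rw [← heq, Perm.mem_support]
  · rw [← hset]
    simp

variable {G : Type*} [Group G] [Finite G] {x a z : G} {K : Subgroup G}

/-- the points moved by `z` -/
theorem moved_iff (T : IsTriple x a K) (L : Lab K) (hz : z ∈ core (centralizer ({x} : Set G)))
    (hza : z ∈ centralizer ({a} : Set G)) (hf : ¬ Fixes z K) :
    (∀ i, L.φ z i ≠ i ↔ L.φ x i = i) ∧ ∃ p, p ≠ L.φ z p ∧ p ≠ L.φ z (L.φ z p) ∧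
      L.φ z p ≠ L.φ z (L.φ z p) ∧ ∀ i, L.φ z i ≠ i ↔ i = p ∨ i = L.φ z p ∨ i = L.φ z (L.φ z p) := by
  obtain ⟨h1, h2⟩ := RedAlt.three_fix T L
  have h3 := h2 z ⟨hz, hza⟩
  have hzN := T.mem_normalizer_of_core hz hza
  obtain ⟨h4, p, h5, h6, h7, h8⟩ := three_moved h1 h3 (fun h => hf ((L.fixes_iff hzN).mp h))
  refine ⟨fun i => ?_, p, h5, h6, h7, fun i => ?_⟩
  · rw [h4, mem_fixIn]
    exact ⟨fun h => h.2, fun h => ⟨Finset.mem_univ _, h⟩⟩
  · rw [h4, h8]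

/-- labels such that `z` moves `4, 5, 6` -/
theorem exists_norm (T : IsTriple x a K) (L : Lab K) (hz : z ∈ core (centralizer ({x} : Set G)))
    (hza : z ∈ centralizer ({a} : Set G)) (hf : ¬ Fixes z K) : ∃ L' : Lab K, M3 (L'.φ z) := by
  obtain ⟨-, p, h5, h6, h7, h8⟩ := moved_iff T L hz hza hf
  obtain ⟨τ, t4, t5, t6⟩ := exists_three h5 h6 h7
  refine ⟨relab L τ, fun i => ?_⟩
  rw [relab_φ]
  have h9 := h8 (τ⁻¹ i)
  have e1 : ((τ * L.φ z * τ⁻¹) i ≠ i) ↔ (L.φ z (τ⁻¹ i) ≠ τ⁻¹ i) := by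
    rw [Perm.mul_apply, Perm.mul_apply, not_iff_not]
    constructor
    · intro h
      apply τ.injective
      rw [h]
      exact (τ.apply_symm_apply i).symm
    · intro h
      rw [h]
      exact τ.apply_symm_apply i
  have e2 : ∀ (j k : Fin 7), τ j = k → (τ⁻¹ i = j ↔ i = k) := by
    rintro j k rfl
    rw [Perm.inv_eq_iff_eq]
  rw [e1, h9, e2 _ _ t4, e2 _ _ t5, e2 _ _ t6]

/-- the involution of the triple acts as an element of `V₄` -/
theorem isV_of_triple (T : IsTriple x a K) (L : Lab K) (hz : z ∈ core (centralizer ({x} : Set G)))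
    (hza : z ∈ centralizer ({a} : Set G)) (hf : ¬ Fixes z K) (h3 : M3 (L.φ z)) :
    IsV (L.φ x) ∧ L.φ x ≠ 1 := by
  obtain ⟨h1, -⟩ := moved_iff T L hz hza hf
  exact isV_of_fix (L.sq T.x_mem (sq_of_order T.invx)) fun i => by rw [← h1]; exact h3 i

/-! ### permutations -/

theorem Fx.comm_isV {f v : P7} (hf : Fx f) (hv : IsV v) : f * v = v * f := by
  rcases hf.cases with rfl | rfl | rfl | rfl | rfl | rfl <;>
    rcases hv with rfl | rfl | rfl | rfl <;> decide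

/-- two elements generate `V₄` -/
theorem IsV.gen {σ τ ρ : P7} (hσ : IsV σ) (hτ : IsV τ) (h1 : σ ≠ 1) (h2 : τ ≠ 1) (h3 : σ ≠ τ)
    (hρ : IsV ρ) : ρ = 1 ∨ ρ = σ ∨ ρ = τ ∨ ρ = σ * τ := by
  rcases hσ with rfl | rfl | rfl | rfl <;> rcases hτ with rfl | rfl | rfl | rfl <;>
    first
    | exact absurd rfl h1
    | exact absurd rfl h2
    | exact absurd rfl h3
    | (rcases hρ with rfl | rfl | rfl | rfl <;> decide)

/-- the elements commuting with two elements of `V₄` -/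
theorem comm_of_two {σ τ e ρ : P7} (hσ : IsV σ) (hτ : IsV τ) (h1 : σ ≠ 1) (h2 : τ ≠ 1) (h3 : σ ≠ τ)
    (c1 : e * σ = σ * e) (c2 : e * τ = τ * e) (hρ : IsV ρ) : e * ρ = ρ * e := by
  rcases hσ.gen hτ h1 h2 h3 hρ with rfl | rfl | rfl | rfl
  · rw [mul_one, one_mul]
  · exact c1
  · exact c2
  · rw [← mul_assoc, c1, mul_assoc, c2, mul_assoc]

theorem Fx.of_comm_ta {f : P7} (hf : Fx f) (h : f * ta = ta * f) : f = 1 ∨ f = ta := by
  rcases hf.cases with rfl | rfl | rfl | rfl | rfl | rfl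
  · exact Or.inl rfl
  · exact Or.inr rfl
  · exact absurd h (by decide)
  · exact absurd h (by decide)
  · exact absurd h (by decide)
  · exact absurd h (by decide)

/-- involutions fixing `0, 1, 2, 3` -/
theorem Fx.exists_relabel {f : P7} (hf : Fx f) (h : f * f = 1) (h1 : f ≠ 1) :
    ∃ τ : P7, Fx τ ∧ τ * f * τ⁻¹ = ta := by
  rcases hf.cases with rfl | rfl | rfl | rfl | rfl | rfl
  · exact absurd rfl h1
  · exact ⟨1, by unfold Fx; decide, by decide⟩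
  · exact ⟨swap 5 6, by unfold Fx; decide, by decide⟩
  · exact ⟨swap 4 6, by unfold Fx; decide, by decide⟩
  · exact absurd h (by decide)
  · exact absurd h (by decide)

theorem Fx.inv {τ : P7} (hτ : Fx τ) : Fx τ⁻¹ :=
  ⟨Perm.inv_eq_iff_eq.mpr hτ.1.symm, Perm.inv_eq_iff_eq.mpr hτ.2.1.symm,
    Perm.inv_eq_iff_eq.mpr hτ.2.2.1.symm, Perm.inv_eq_iff_eq.mpr hτ.2.2.2.symm⟩

theorem Fx.conj_isV {τ v : P7} (hτ : Fx τ) (hv : IsV v) : τ * v * τ⁻¹ = v := by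
  rw [hτ.comm_isV hv, mul_inv_cancel_right]

/-! ### the action of an elementary abelian group -/

/-- **the action of `E`**: `d₁`, `d₂` act as generators of `V₄`, some `e₀ ∈ E` does not commute with an element
moving `4, 5, 6`. -/
theorem exists_act (L : Lab K) {E : Subgroup G} (hE : ∀ e ∈ E, e * e = 1)
    (hEK : E ≤ normalizer (K : Set G)) {d₁ d₂ e₀ : G} (hd₁ : d₁ ∈ E) (hd₂ : d₂ ∈ E) (he₀ : e₀ ∈ E)
    (v₁ : IsV (L.φ d₁)) (v₂ : IsV (L.φ d₂)) (n₁ : L.φ d₁ ≠ 1) (n₂ : L.φ d₂ ≠ 1)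
    (n₃ : L.φ d₁ ≠ L.φ d₂) {ζ : P7} (hζ : M3 ζ) (hc : ζ * L.φ e₀ ≠ L.φ e₀ * ζ) :
    ∃ L' : Lab K, (∀ e ∈ E, IsV (L'.φ e) ∨ IsV (L'.φ e * ta)) ∧
      (∀ σ, IsV σ → (∃ e ∈ E, L'.φ e = σ) ∧ ∃ e ∈ E, L'.φ e = σ * ta) ∧
      ∀ g, IsV (L.φ g) → L'.φ g = L.φ g := by
  have hcm : ∀ {e f : G}, e ∈ E → f ∈ E → L.φ e * L.φ f = L.φ f * L.φ e := fun he hf =>
    L.comm (hEK he) (hEK hf) (comm_of_sq hE he hf)
  have hV : ∀ {e : G}, e ∈ E → ∀ {ρ : P7}, IsV ρ → L.φ e * ρ = ρ * L.φ e := fun he _ hρ =>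
    comm_of_two v₁ v₂ n₁ n₂ n₃ (hcm he hd₁) (hcm he hd₂) hρ
  have hb1 : IsV b1 := Or.inr (Or.inl rfl)
  have hb2 : IsV b2 := Or.inr (Or.inr (Or.inl rfl))
  have hex : ∀ {e : G}, e ∈ E → ∃ v, IsV v ∧ Fx (v * L.φ e) := fun he =>
    exists_isV (hV he hb1) (hV he hb2)
  obtain ⟨v₀, hv₀, hf₀⟩ := hex he₀
  obtain ⟨f₀, ef₀⟩ : ∃ f₀, f₀ = v₀ * L.φ e₀ := ⟨_, rfl⟩
  rw [← ef₀] at hf₀
  have e1 : L.φ e₀ = v₀ * f₀ := by rw [ef₀, ← mul_assoc, hv₀.sq, one_mul]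
  have h1 : f₀ ≠ 1 := by
    intro h
    apply hc
    rw [e1, h, mul_one]
    exact hζ.fx.comm_isV hv₀
  have h2 : f₀ * f₀ = 1 := by
    have h3 := L.sq (hEK he₀) (hE _ he₀)
    rw [e1] at h3
    calc f₀ * f₀ = (v₀ * v₀) * (f₀ * f₀) := by rw [hv₀.sq, one_mul]
      _ = v₀ * (v₀ * f₀) * f₀ := by group
      _ = v₀ * (f₀ * v₀) * f₀ := by rw [hf₀.comm_isV hv₀]
      _ = (v₀ * f₀) * (v₀ * f₀) := by group
      _ = 1 := h3
  obtain ⟨τ, hτ, hτf⟩ := hf₀.exists_relabel h2 h1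
  have hφ : ∀ g, (relab L τ).φ g = τ * L.φ g * τ⁻¹ := fun g => rfl
  -- the elements of `E`
  have key : ∀ e ∈ E, ∃ v f, IsV v ∧ (f = 1 ∨ f = ta) ∧ (relab L τ).φ e = v * f := by
    intro e he
    obtain ⟨v, hv, hf⟩ := hex he
    obtain ⟨f, ef⟩ : ∃ f, f = v * L.φ e := ⟨_, rfl⟩
    rw [← ef] at hf
    have e2 : L.φ e = v * f := by rw [ef, ← mul_assoc, hv.sq, one_mul]
    have h3 : f * f₀ = f₀ * f := by
      have h4 := hcm he he₀
      rw [e2, e1] at h4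
      have h5 : v * (v₀ * (f * f₀)) = v * (v₀ * (f₀ * f)) := by
        calc v * (v₀ * (f * f₀)) = v * (v₀ * f) * f₀ := by group
          _ = v * (f * v₀) * f₀ := by rw [hf.comm_isV hv₀]
          _ = v * f * (v₀ * f₀) := by group
          _ = v₀ * f₀ * (v * f) := h4
          _ = v₀ * (f₀ * v) * f := by group
          _ = v₀ * (v * f₀) * f := by rw [hf₀.comm_isV hv]
          _ = (v₀ * v) * (f₀ * f) := by group
          _ = (v * v₀) * (f₀ * f) := by rw [hv.comm hv₀]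
          _ = v * (v₀ * (f₀ * f)) := by group
      exact mul_left_cancel (mul_left_cancel h5)
    have h6 : Fx (τ * f * τ⁻¹) := by
      obtain ⟨d0, d1, d2, d3⟩ := hτ.inv
      obtain ⟨a0, a1, a2, a3⟩ := hτ
      obtain ⟨c0, c1, c2, c3⟩ := hf
      refine ⟨?_, ?_, ?_, ?_⟩
      · rw [Perm.mul_apply, Perm.mul_apply, d0, c0, a0]
      · rw [Perm.mul_apply, Perm.mul_apply, d1, c1, a1]
      · rw [Perm.mul_apply, Perm.mul_apply, d2, c2, a2]
      · rw [Perm.mul_apply, Perm.mul_apply, d3, c3, a3]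
    refine ⟨v, τ * f * τ⁻¹, hv, h6.of_comm_ta ?_, ?_⟩
    · rw [← hτf]
      calc τ * f * τ⁻¹ * (τ * f₀ * τ⁻¹) = τ * (f * f₀) * τ⁻¹ := by group
        _ = τ * (f₀ * f) * τ⁻¹ := by rw [h3]
        _ = τ * f₀ * τ⁻¹ * (τ * f * τ⁻¹) := by group
    · rw [hφ, e2]
      calc τ * (v * f) * τ⁻¹ = (τ * v * τ⁻¹) * (τ * f * τ⁻¹) := by group
        _ = v * (τ * f * τ⁻¹) := by rw [hτ.conj_isV hv]
  have hfix : ∀ g, IsV (L.φ g) → (relab L τ).φ g = L.φ g := fun g hg => by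
    rw [hφ, hτ.conj_isV hg]
  have hmul : ∀ {e f : G}, e ∈ E → f ∈ E →
      (relab L τ).φ (e * f) = (relab L τ).φ e * (relab L τ).φ f := fun he hf =>
    (relab L τ).mul _ _ (hEK he) (hEK hf)
  have hsurV : ∀ σ, IsV σ → ∃ e ∈ E, (relab L τ).φ e = σ := by
    intro σ hσ
    rcases v₁.gen v₂ n₁ n₂ n₃ hσ with rfl | rfl | rfl | rfl
    · exact ⟨1, one_mem _, (relab L τ).one⟩
    · exact ⟨d₁, hd₁, hfix _ v₁⟩
    · exact ⟨d₂, hd₂, hfix _ v₂⟩
    · exact ⟨d₁ * d₂, mul_mem hd₁ hd₂, by rw [hmul hd₁ hd₂, hfix _ v₁, hfix _ v₂]⟩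
  refine ⟨relab L τ, fun e he => ?_, fun σ hσ => ⟨hsurV σ hσ, ?_⟩, hfix⟩
  · obtain ⟨v, f, hv, hf, h⟩ := key e he
    rcases hf with rfl | rfl
    · left; rw [h, mul_one]; exact hv
    · right; rw [h, mul_assoc, ta_sq7, mul_one]; exact hv
  · obtain ⟨e, he, h⟩ := hsurV (σ * v₀) (hσ.mul hv₀)
    refine ⟨e * e₀, mul_mem he he₀, ?_⟩
    have h7 : (relab L τ).φ e₀ = v₀ * ta := by
      rw [hφ, e1, ← hτf]
      calc τ * (v₀ * f₀) * τ⁻¹ = (τ * v₀ * τ⁻¹) * (τ * f₀ * τ⁻¹) := by group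
        _ = v₀ * (τ * f₀ * τ⁻¹) := by rw [hτ.conj_isV hv₀]
    rw [hmul he he₀, h, h7]
    calc σ * v₀ * (v₀ * ta) = σ * (v₀ * v₀) * ta := by group
      _ = σ * ta := by rw [hv₀.sq, mul_one]

end Cfsg.Agent.UGT.L2Inner
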