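import Cfsg.Agent.UGT.L2Inner.WBStarBase
import Cfsg.Agent.UGT.L2Inner.WBSeven

/-!
# UGT, inner L2: the action of `Y` on 2-components of type `A₇`

* `not_both`: `A₇` is not `PSL(2,F)`.
* `fix_of_fixes_cmp`: elements fixing the 2-component of `C_K(t)`.
* `Frame.y_faith`: if `E` acts on `K / O(K) ≅ A₇` as `V₄ × ⟨ta⟩`, no `y ∈ Y#` acts as `1` or `ta`.
-/

set_option autoImplicit false

open Cfsg Subgroup Equiv Equiv.Perm
open Cfsg.Agent.UAlt
open Cfsg.Agent.SignalizersComponents Cfsg.Agent.Lib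
open Cfsg.Agent.SignalizersComponents.IntrinsicBasic
open Cfsg.Agent.SignalizersComponents.PLayerAut
open Cfsg.Agent.Intrinsic.Basic Cfsg.Agent.Intrinsic.Cen Cfsg.Agent.Intrinsic.Diag
open Cfsg.Agent.McLLyComp.Act
open Cfsg.Agent.UGT.Triple Cfsg.Agent.UGT.TriBase
open Cfsg.Agent.GH.L2Aut (Four)
open scoped commutatorElement

namespace Cfsg.Agent.UGT.L2Inner

variable {G : Type*} [Group G]

/-- the elements of a four-group -/
theorem mem_of_four [Finite G] {A : Subgroup G} (hA : Nat.card A = 4) {a b c : G} (ha : a ∈ A)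
    (hb : b ∈ A) (ha1 : a ≠ 1) (hb1 : b ≠ 1) (hab : a ≠ b) (haa : a * a = 1) (hc : c ∈ A) :
    c = 1 ∨ c = a ∨ c = b ∨ c = a * b := by
  have hsub : ({1, a, b, a * b} : Set G) ⊆ (A : Set G) := by
    rintro x (rfl | rfl | rfl | rfl)
    · exact one_mem _
    · exact ha
    · exact hb
    · exact mul_mem ha hb
  have hcard : ({1, a, b, a * b} : Set G).ncard = 4 := by
    rw [Set.ncard_insert_of_notMem, Set.ncard_insert_of_notMem, Set.ncard_insert_of_notMem,
      Set.ncard_singleton]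
    · intro h3
      exact ha1 (mul_eq_right.mp (Set.mem_singleton_iff.mp h3).symm)
    · rintro (h3 | h3)
      · exact hab h3
      · exact hb1 (left_eq_mul.mp h3)
    · rintro (h3 | h3 | h3)
      · exact ha1 h3.symm
      · exact hb1 h3.symm
      · apply hab
        have h4 : b = a⁻¹ := (inv_eq_of_mul_eq_one_right h3.symm).symm
        rw [h4]
        exact (inv_eq_of_mul_eq_one_left haa).symm
  have h5 : (A : Set G).ncard = Nat.card A := Nat.card_coe_set_eq _
  have heq : ({1, a, b, a * b} : Set G) = (A : Set G) :=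
    Set.eq_of_subset_of_ncard_le hsub (by rw [hcard, h5, hA])
  have h6 : c ∈ ({1, a, b, a * b} : Set G) := by
    rw [heq]
    exact hc
  exact h6

variable [Finite G]

omit [Finite G] in
/-- `A₇` is not `PSL(2,F)` -/
theorem not_both {K : Subgroup G} (h : L2T K) (L : Lab K) : False := by
  obtain ⟨F, _, _, ⟨Re⟩⟩ := h
  have halt : ∀ σ : P7, σ ∈ alternatingGroup (Fin 7) → ∃ x ∈ K, L.φ x = σ := fun σ h =>
    L.lift σ ⟨h, fun i hi => absurd (Finset.mem_univ i) hi⟩
  obtain ⟨x, hx, hx1⟩ := halt b1 (by rw [mem_alternatingGroup]; decide)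
  obtain ⟨y, hy, hy1⟩ := halt b2 (by rw [mem_alternatingGroup]; decide)
  obtain ⟨g, hg, hg1⟩ := halt (swap 4 5 * swap 5 6) (by rw [mem_alternatingGroup]; decide)
  have key : ∀ {x y : G} (hx : x ∈ K) (hy : y ∈ K),
      (QuotientGroup.mk ⟨x, hx⟩ : ↥K ⧸ oddCore ↥K) = QuotientGroup.mk ⟨y, hy⟩ ↔ L.φ x = L.φ y := by
    intro x y hx hy
    rw [mk_eq_iff hx hy, L.eq_iff hx hy]
  have hm : ∀ {x y : G}, x ∈ K → y ∈ K → L.φ (x * y) = L.φ x * L.φ y := fun hx hy =>
    L.mul _ _ (le_normalizer hx) (le_normalizer hy)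
  have hfour : Four (QuotientGroup.mk ⟨x, hx⟩ : ↥K ⧸ oddCore ↥K) (QuotientGroup.mk ⟨y, hy⟩) := by
    refine ⟨?_, ?_, ?_, ?_, ?_, ?_⟩
    · refine (key (mul_mem hx hx) (one_mem K)).mpr ?_
      rw [hm hx hx, hx1, L.one]; decide
    · refine (key (mul_mem hy hy) (one_mem K)).mpr ?_
      rw [hm hy hy, hy1, L.one]; decide
    · intro h
      have h1 := (key hx (one_mem K)).mp h
      rw [hx1, L.one] at h1
      exact absurd h1 (by decide)
    · intro h
      have h1 := (key hy (one_mem K)).mp h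
      rw [hy1, L.one] at h1
      exact absurd h1 (by decide)
    · intro h
      have h1 := (key hx hy).mp h
      rw [hx1, hy1] at h1
      exact absurd h1 (by decide)
    · refine (key (mul_mem hx hy) (mul_mem hy hx)).mpr ?_
      rw [hm hx hy, hm hy hx, hx1, hy1]; decide
  have h1 := WBAut.four_fix Re hfour (h := QuotientGroup.mk ⟨g, hg⟩)
    ((key (mul_mem hg hx) (mul_mem hx hg)).mpr (by rw [hm hg hx, hm hx hg, hx1, hg1]; decide))
    ((key (mul_mem hg hy) (mul_mem hy hg)).mpr (by rw [hm hg hy, hm hy hg, hy1, hg1]; decide))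
  rcases h1 with h | h | h | h
  · have h2 := (key hg (one_mem K)).mp h
    rw [hg1, L.one] at h2
    exact absurd h2 (by decide)
  · have h2 := (key hg hx).mp h
    rw [hg1, hx1] at h2
    exact absurd h2 (by decide)
  · have h2 := (key hg hy).mp h
    rw [hg1, hy1] at h2
    exact absurd h2 (by decide)
  · have h2 := (key hg (mul_mem hx hy)).mp h
    rw [hg1, hm hx hy, hx1, hy1] at h2
    exact absurd h2 (by decide)

omit [Finite G] in
/-- no bad configuration if all triples are of type `PSL(2,F)` -/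
theorem no7_of_rep {M Y : Subgroup G} (rep : ∀ (x a : G) (K : Subgroup G), IsTriple x a K → L2T K) :
    No7 M Y := fun _ _ _ _ w x K L h => not_both (rep x w K h.tri) L

/-- elements fixing the 2-component of `C_K(t)` fix the points fixed by `t` -/
theorem fix_of_fixes_cmp {K : Subgroup G} (L : Lab K) {t g : G} (ht : t ∈ normalizer (K : Set G))
    (htt : t * t = 1) (h5 : 5 ≤ (fixIn Finset.univ (L.φ t)).card)
    (hg : g ∈ normalizer (K : Set G)) (hf : Fixes g (L.cmp t)) {i : Fin 7}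
    (hi : L.φ t i = i) : L.φ g i = i := by
  refine apply_of_comm_alt (S := fixIn Finset.univ (L.φ t)) (by omega) (fun σ hσ => ?_)
    (mem_fixIn.mpr ⟨Finset.mem_univ _, hi⟩)
  obtain ⟨k, hk, rfl⟩ := L.cmp_lift ht htt h5 hσ
  have hkK := L.cmp_le t hk
  have h1 : ⁅g, k⁆ ∈ core K :=
    L.core_cent_le ht htt (by omega) ((L.isComp_cmp ht htt h5).core_le_core (hf.2 k hk))
  have h2 : ⁅g, k⁆ ∈ K := core_le K h1
  rw [← L.core_iff _ h2, commutatorElement_def] at h1
  have hkN := le_normalizer (H := K) hkK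
  rw [L.mul _ _ (mul_mem (mul_mem hg hkN) (inv_mem hg)) (inv_mem hkN),
    L.mul _ _ (mul_mem hg hkN) (inv_mem hg), L.mul _ _ hg hkN, L.inv hg, L.inv hkN,
    mul_inv_eq_one, mul_inv_eq_iff_eq_mul] at h1
  exact h1

theorem fixIn_ta : (fixIn Finset.univ ta : Finset (Fin 7)).card = 5 := by decide

/-- permutations fixing the points fixed by `ta` -/
theorem eq_of_fix_ta {σ : P7} (h : ∀ i, ta i = i → σ i = i) : σ = 1 ∨ σ = ta := by
  have h0 := h 0 (by decide)
  have h1 := h 1 (by decide)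
  have h2 := h 2 (by decide)
  have h3 := h 3 (by decide)
  have h6 := h 6 (by decide)
  have hf : Fx σ := ⟨h0, h1, h2, h3⟩
  rcases hf.cases with rfl | rfl | rfl | rfl | rfl | rfl
  · exact Or.inl rfl
  · exact Or.inr rfl
  · exact absurd h6 (by decide)
  · exact absurd h6 (by decide)
  · exact absurd h6 (by decide)
  · exact absurd h6 (by decide)

namespace Frame

variable {M Y P : Subgroup G} (hF : Frame M Y P)

include hF

/-- `Y` does not contain elements acting as `1` or `ta` -/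
theorem y_faith {w : G} {K : Subgroup G} (hw : w ∈ Y ⊔ P) (hwY : w ∉ Y)
    (hK : IsComp (centralizer ({w} : Set G)) K) (L : Lab K)
    (hN : Y ⊔ P ≤ normalizer (K : Set G))
    (hs : ∀ σ, IsV σ → (∃ e ∈ Y ⊔ P, L.φ e = σ) ∧ ∃ e ∈ Y ⊔ P, L.φ e = σ * ta) :
    (∀ y ∈ Y, y ≠ 1 → L.φ y ≠ 1) ∧ ∀ y ∈ Y, L.φ y ≠ ta := by
  obtain ⟨c, hc, v, hv, rfl⟩ := hF.mem_E.mp hw
  have hv1 : v ≠ 1 := by
    rintro rfl
    rw [mul_one] at hwY
    exact hwY hc
  have hYE : Y ≤ Y ⊔ P := le_sup_left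
  have hPE : P ≤ Y ⊔ P := le_sup_right
  have hφ : ∀ {e f : G}, e ∈ Y ⊔ P → f ∈ Y ⊔ P → L.φ (e * f) = L.φ e * L.φ f := fun he hf =>
    L.mul _ _ (hN he) (hN hf)
  -- `P` does not act as a subset of `Y`
  have key : ¬ ∀ p ∈ P, ∃ y ∈ Y, L.φ p = L.φ y := by
    intro h
    have h2 : ∀ e ∈ Y ⊔ P, ∃ y ∈ Y, L.φ e = L.φ y := by
      intro e he
      obtain ⟨y, hy, p, hp, rfl⟩ := hF.mem_E.mp he
      obtain ⟨y', hy', h3⟩ := h p hp
      exact ⟨y * y', mul_mem hy hy', by rw [hφ (hYE hy) (hPE hp), hφ (hYE hy) (hYE hy'), h3]⟩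
    obtain ⟨e₁, he₁, h11⟩ := (hs b1 (Or.inr (Or.inl rfl))).1
    obtain ⟨e₂, he₂, h12⟩ := (hs b2 (Or.inr (Or.inr (Or.inl rfl)))).1
    obtain ⟨e₃, he₃, h13⟩ := (hs 1 (Or.inl rfl)).2
    obtain ⟨y₁, hy₁, h14⟩ := h2 e₁ he₁
    obtain ⟨y₂, hy₂, h15⟩ := h2 e₂ he₂
    obtain ⟨y₃, hy₃, h16⟩ := h2 e₃ he₃
    rw [h11] at h14
    rw [h12] at h15
    rw [h13, one_mul] at h16
    have n1 : y₁ ≠ 1 := by
      rintro rfl
      rw [L.one] at h14
      exact absurd h14 (by decide)
    have n2 : y₂ ≠ 1 := by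
      rintro rfl
      rw [L.one] at h15
      exact absurd h15 (by decide)
    have n3 : y₁ ≠ y₂ := by
      rintro rfl
      rw [← h14] at h15
      exact absurd h15 (by decide)
    rcases mem_of_four hF.ycard hy₁ hy₂ n1 n2 n3 (hF.ysq _ hy₁) hy₃ with h | h | h | h
    · rw [h, L.one] at h16
      exact absurd h16 (by decide)
    · rw [h, ← h14] at h16
      exact absurd h16 (by decide)
    · rw [h, ← h15] at h16
      exact absurd h16 (by decide)
    · rw [h, hφ (hYE hy₁) (hYE hy₂), ← h14, ← h15] at h16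
      exact absurd h16 (by decide)
  have hPc : ∀ p ∈ P, p * v = v * p := fun p hp => comm_of_sq hF.psq hp hv
  refine ⟨fun y hy hy1 h => key fun p hp => ⟨1, one_mem _, ?_⟩, fun y hy h => key fun p hp => ?_⟩
  · have hfy : Fixes y K := (L.fixes_iff (hN (hYE hy))).mp h
    obtain ⟨h1, h3⟩ := isComp_cen hK (mem_c (hF.E_comm (hYE hy) hw)) (hF.ysq y hy) hfy
    have h4 := hF.yFrame.star (hF.pm hv) (hF.psq v hv) hv1 hc hy hy1 h1 (hF.pm hp) (hPc p hp)
    rw [L.one]
    exact (L.fixes_iff (hN (hPE hp))).mpr ((fixes_iff_of_sup h3 h4.1 (hN (hPE hp))).mp h4)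
  · have hy1 : y ≠ 1 := by
      rintro rfl
      rw [L.one] at h
      exact absurd h (by decide)
    have h5 : 5 ≤ (fixIn Finset.univ (L.φ y)).card := by rw [h, fixIn_ta]
    have hyN := hN (hYE hy)
    have h1 := L.isComp_cmp_of hK hyN (hF.ysq y hy) h5
    have h4 := hF.yFrame.star (hF.pm hv) (hF.psq v hv) hv1 hc hy hy1 h1 (hF.pm hp) (hPc p hp)
    rcases eq_of_fix_ta (σ := L.φ p) (fun i hi => fix_of_fixes_cmp L hyN (hF.ysq y hy) h5
      (hN (hPE hp)) h4 (by rw [h]; exact hi)) with h6 | h6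
    · exact ⟨1, one_mem _, by rw [h6, L.one]⟩
    · exact ⟨y, hy, by rw [h6, h]⟩

end Frame

end Cfsg.Agent.UGT.L2Inner
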