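import Cfsg.Agent.UGT.L2Inner.WBMain
import Cfsg.Agent.UGT.Func52

/-!
# UGT, inner L2: the hypotheses of the functor of `Func52`
-/

set_option autoImplicit false

open Cfsg Subgroup
open Cfsg.Agent.Intrinsic.Basic
open Cfsg.Agent.UGT.Triple

namespace Cfsg.Agent.UGT.L2Inner

variable {G : Type*} [Group G] [Finite G] {M Y P : Subgroup G}

/-- **weak 2-balance on `E = Y P`** -/
theorem Frame.hyp (hF : Frame M Y P)
    (no7 : ∀ (w x : G) (K : Subgroup G) (L : Lab K), ¬ Bad7 Y P w x K L) : Func52.Hyp (Y ⊔ P) where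
  elem := ⟨⟨⟨fun a b => Subtype.ext (hF.E_comm a.2 b.2)⟩⟩, fun a ha => by
    rw [pow_two]; exact hF.E_sq ha⟩
  card := hF.E_card.ge
  w2 := by
    intro D hD hD4 c hc hc1
    rw [commutator_le]
    rintro z ⟨hz, hzc⟩ e he
    exact hF.w2 no7 hD hD4 hc hc1 (fun d hd hd1 => Func52.delta_le hd hd1 hz) hzc he
  b3 := by
    rintro U hU hU8 c hc hc1 z ⟨hz, hzc⟩
    exact hF.b3 hU (by omega) hc hc1 (fun d hd hd1 => Func52.delta_le hd hd1 hz) hzc

end Cfsg.Agent.UGT.L2Inner
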