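import Cfsg.Agent.UGT.L2Inner.WBFaith
import Cfsg.Agent.SignalizersComponents.PCompCore

/-!
# UGT, inner L2: weak 2-balance

`E = Y × P` as in `Frame`.

* `Frame.claim`: a 2-component `K` of `C(c)`, `c ∈ E#`, on which some four-group of `E` acts faithfully, is
  normalized by `E`.
* `Frame.w2`: `[Δ(D) ∩ C(c), E] ≤ O(C(c))`, `D` a four-group of `E`, if there is no bad `A₇`-configuration.
* `Frame.b3`: `Δ(U) ∩ C(c) ≤ O(C(c))`, `U ≤ E`, `|U| > 4`.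
-/

set_option autoImplicit false

open Cfsg Subgroup
open Cfsg.Agent.SignalizersComponents Cfsg.Agent.Lib
open Cfsg.Agent.SignalizersComponents.IntrinsicBasic
open Cfsg.Agent.SignalizersComponents.PLayerAut
open Cfsg.Agent.Intrinsic.Basic Cfsg.Agent.Intrinsic.Cen Cfsg.Agent.Intrinsic.Diag
open Cfsg.Agent.McLLyComp.Act
open Cfsg.Agent.UGT.Triple Cfsg.Agent.UGT.TriBase
open Cfsg.Agent.GH.L2Aut (Four)
open scoped commutatorElement

namespace Cfsg.Agent.UGT.L2Inner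

variable {G : Type*} [Group G] [Finite G]

/-- 2-elements of the core -/
theorem eq_one_of_syl {X R K : Subgroup G} (hR : IsSyl X R) {x : G} (hx : x ∈ R) (hK : x ∈ core K) :
    x = 1 := by
  obtain ⟨n, hn⟩ := hR.two ⟨x, hx⟩
  exact eq_one_of_mem_core hK (congrArg Subtype.val hn)

/-- a four-group of a Sylow 2-subgroup -/
theorem four_syl {H : Type*} [Group H] [Finite H] {a b : H} (h : Four a b) (S : Sylow 2 H) :
    ∃ a b : H, a ∈ S ∧ b ∈ S ∧ Four a b := by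
  have hp : Fact (Nat.Prime 2) := ⟨Nat.prime_two⟩
  obtain ⟨Q, hQ⟩ := h.sub_two.exists_le_sylow
  obtain ⟨g, hg⟩ := MulAction.exists_smul_eq H Q S
  exact ⟨g * a * g⁻¹, g * b * g⁻¹, GH.L2Aut.conj_mem_syl hg (hQ (Or.inr (Or.inl rfl))),
    GH.L2Aut.conj_mem_syl hg (hQ (Or.inr (Or.inr (Or.inl rfl)))), h.map (MulAut.conj g)⟩

omit [Finite G] in
/-- a four-group of `K / O(K)` -/
theorem T27.exists_four {K : Subgroup G} (hT : T27 K) : ∃ a b : ↥K ⧸ oddCore ↥K, Four a b := by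
  rcases hT with ⟨F, _, _, ⟨Re⟩⟩ | ⟨⟨L⟩⟩
  · exact Re.exists_four
  · obtain ⟨x, hx, hx1⟩ := L.lift b1 ⟨by change b1 ∈ alternatingGroup (Fin 7); rw [Equiv.Perm.mem_alternatingGroup]; decide,
      fun i hi => absurd (Finset.mem_univ i) hi⟩
    obtain ⟨y, hy, hy1⟩ := L.lift b2 ⟨by change b2 ∈ alternatingGroup (Fin 7); rw [Equiv.Perm.mem_alternatingGroup]; decide,
      fun i hi => absurd (Finset.mem_univ i) hi⟩
    have key : ∀ {x y : G} (hx : x ∈ K) (hy : y ∈ K),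
        (QuotientGroup.mk ⟨x, hx⟩ : ↥K ⧸ oddCore ↥K) = QuotientGroup.mk ⟨y, hy⟩ ↔ L.φ x = L.φ y := by
      intro x y hx hy
      rw [mk_eq_iff hx hy, L.eq_iff hx hy]
    have hm : ∀ {x y : G}, x ∈ K → y ∈ K → L.φ (x * y) = L.φ x * L.φ y := fun hx hy =>
      L.mul _ _ (le_normalizer hx) (le_normalizer hy)
    refine ⟨QuotientGroup.mk ⟨x, hx⟩, QuotientGroup.mk ⟨y, hy⟩, ?_, ?_, ?_, ?_, ?_, ?_⟩
    · refine (key (mul_mem hx hx) (one_mem K)).mpr ?_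
      rw [hm hx hx, hx1, L.one]; decide
    · refine (key (mul_mem hy hy) (one_mem K)).mpr ?_
      rw [hm hy hy, hy1, L.one]; decide
    · intro h
      have h1 := (key hx (one_mem K)).mp h
      rw [hx1, L.one] at h1
      exact absurd h1 (by decide)
    · intro h
      have h1 := (key hy (one_mem K)).mp h
      rw [hy1, L.one] at h1
      exact absurd h1 (by decide)
    · intro h
      have h1 := (key hx hy).mp h
      rw [hx1, hy1] at h1
      exact absurd h1 (by decide)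
    · refine (key (mul_mem hx hy) (mul_mem hy hx)).mpr ?_
      rw [hm hx hy, hm hy hx, hx1, hy1]; decide

/-- a Sylow 2-subgroup of a 2-component of type `PSL(2,F)` or `A₇` has two distinct involutions -/
theorem exists_two_inv {X K R : Subgroup G} (hK : IsComp X K) (hT : T27 K) (hR : IsSyl X R) :
    ∃ a ∈ R ⊓ K, ∃ b ∈ R ⊓ K, a * a = 1 ∧ b * b = 1 ∧ a ≠ 1 ∧ b ≠ 1 ∧ a ≠ b := by
  have hp : Fact (Nat.Prime 2) := ⟨Nat.prime_two⟩
  obtain ⟨a₀, b₀, h₀⟩ := hT.exists_four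
  obtain ⟨S, hS⟩ := hR.exists_sylow
  obtain ⟨K', hK'⟩ : ∃ K', K' = K.subgroupOf X := ⟨_, rfl⟩
  have hsub : K'.IsSubnormal := hK' ▸ hK.2.1
  have h1 : IsPGroup 2 ((S : Subgroup X).subgroupOf K') := S.2.comap_subtype
  have h2 : ¬ 2 ∣ ((S : Subgroup X).subgroupOf K').index := by
    intro h
    have h3 : (S : Subgroup X).relIndex K' ∣ (S : Subgroup X).index :=
      PCompCore.relIndex_dvd_index_of_subnormal (S : Subgroup X) hsub
    exact S.not_dvd_index (h.trans h3)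
  obtain ⟨T, hT⟩ : ∃ T : Sylow 2 K', (T : Subgroup K') = (S : Subgroup X).subgroupOf K' :=
    ⟨h1.toSylow h2, rfl⟩
  have hKX : ∀ x : ↥X, x ∈ K' → (x : G) ∈ K := by
    intro x hx
    rw [hK', mem_subgroupOf] at hx
    exact hx
  have hKK : ∀ k : ↥K', ((k : ↥X) : G) ∈ K := fun k => hKX _ k.2
  let f : ↥K' →* ↥K ⧸ oddCore ↥K := (QuotientGroup.mk' (oddCore ↥K)).comp
    { toFun := fun k => ⟨((k : ↥X) : G), hKK k⟩
      map_one' := rfl
      map_mul' := fun _ _ => rfl }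
  have hf : Function.Surjective f := by
    intro q
    obtain ⟨⟨k, hk⟩, rfl⟩ := QuotientGroup.mk_surjective q
    exact ⟨⟨⟨k, hK.le hk⟩, by rw [hK', mem_subgroupOf]; exact hk⟩, rfl⟩
  obtain ⟨a, b, ha, hb, hF⟩ := four_syl h₀ (T.mapSurjective hf)
  obtain ⟨a', ha', rfl⟩ := ha
  obtain ⟨b', hb', rfl⟩ := hb
  have hmem : ∀ t ∈ (T : Subgroup K'), (((t : ↥X) : G)) ∈ R := by
    intro t ht
    rw [hT, mem_subgroupOf] at ht
    rw [← hS]
    exact ⟨_, ht, rfl⟩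
  have hsq : ∀ t ∈ (T : Subgroup K'), f t * f t = 1 → ((t : ↥X) : G) * ((t : ↥X) : G) = 1 := by
    intro t ht h
    refine eq_one_of_syl hR (K := K) (mul_mem (hmem t ht) (hmem t ht)) ?_
    rw [← mk_eq_one_iff (K.mul_mem (hKK t) (hKK t))]
    exact h
  refine ⟨((a' : ↥X) : G), ⟨hmem a' ha', hKK a'⟩, ((b' : ↥X) : G), ⟨hmem b' hb', hKK b'⟩,
    hsq a' ha' hF.aa, hsq b' hb' hF.bb, ?_, ?_, ?_⟩
  · intro h
    have h3 : a' = 1 := Subtype.ext (Subtype.ext h)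
    exact hF.a1 (by rw [h3, map_one])
  · intro h
    have h3 : b' = 1 := Subtype.ext (Subtype.ext h)
    exact hF.b1 (by rw [h3, map_one])
  · intro h
    have h3 : a' = b' := Subtype.ext (Subtype.ext h)
    exact hF.ne (by rw [h3])

/-- a 2-component `K` of `C(c)`, `c ∈ E#`, on which the four-group `D` of `E` acts faithfully -/
structure Bad (Y P D : Subgroup G) (c : G) (K : Subgroup G) : Prop where
  cE : c ∈ Y ⊔ P
  c1 : c ≠ 1
  comp : IsComp (centralizer ({c} : Set G)) K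
  type : T27 K
  DE : D ≤ Y ⊔ P
  D4 : Nat.card D = 4
  nrm : ∀ d ∈ D, d ∈ normalizer (K : Set G)
  nfx : ∀ d ∈ D, d ≠ 1 → ¬ Fixes d K

namespace Frame

variable {M Y P : Subgroup G} (hF : Frame M Y P)

include hF

/-- the case `c ∈ Y` -/
theorem step0 {D K : Subgroup G} {c : G} (B : Bad Y P D c K) (hc : c ∈ Y) :
    Y ⊔ P ≤ normalizer (K : Set G) := by
  obtain ⟨L, hL, hML, hs, hT⟩ := hF.comp c hc B.c1
  by_cases hKL : K = L
  · intro e he
    obtain ⟨v, hv, -, -, hv1, -, -⟩ := exists_gens hF.pcard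
    rw [hKL]
    exact normalizes_of_comm hL hT.t27 (hML (hF.pm hv)) (hF.psq v hv) hv1
      (mem_c (hF.E_comm he B.cE)) (hF.E_comm he ((le_sup_right : P ≤ Y ⊔ P) hv))
  · exfalso
    have hPK : ∀ p ∈ P, Fixes p K := fun p hp =>
      B.comp.fixes_of_mem hL hKL (hML (hF.pm hp))
    obtain ⟨d, hd, hd1, h | h⟩ := hF.exists_meet B.DE B.D4 B.cE (fun h => B.c1 (hF.inf_eq hc h))
    · exact B.nfx d hd hd1 (hPK d h)
    · apply B.nfx d hd hd1
      have h1 := fixes_mul (hPK _ h) (fixes_self' B.comp.le : Fixes c K)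
      rwa [mul_assoc, hF.ysq c hc, mul_one] at h1

/-- `Y` normalizes `K` -/
theorem step1 {D K : Subgroup G} {c₁ v : G} (B : Bad Y P D (c₁ * v) K) (hc₁ : c₁ ∈ Y) (hv : v ∈ P)
    (hv1 : v ≠ 1) {y : G} (hy : y ∈ Y) : y ∈ normalizer (K : Set G) := by
  by_contra hn
  have hy1 : y ≠ 1 := by
    rintro rfl
    exact hn (one_mem _)
  obtain ⟨L, hL, hML, hs, hT⟩ := hF.comp y hy hy1
  have hne : cj y K ≠ K := fun h => hn (mem_normalizer_iff_cj.mpr h)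
  have hyE : y ∈ Y ⊔ P := (le_sup_left : Y ≤ Y ⊔ P) hy
  have hyX : y ∈ centralizer ({c₁ * v} : Set G) := mem_c (hF.E_comm hyE B.cE)
  have hcX : c₁ * v ∈ centralizer ({y} : Set G) := mem_c (hF.E_comm B.cE hyE)
  obtain ⟨h1, -, -, h4, -⟩ := exists_diag B.comp hyX (hF.ysq y hy) hne
  obtain ⟨I, hI⟩ : ∃ I, I = diag (centralizer ({c₁ * v} : Set G)) K y := ⟨_, rfl⟩
  rw [← hI] at h1 h4
  have h1' := h1
  rw [inf_comm] at h1'
  have hIN : I ≤ normalizer (L : Set G) :=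
    (isComp_le_L2 hcX (hF.E_sq B.cE) h1').trans hL.L2_le_normalizer
  have hvL : v ∈ L := hML (hF.pm hv)
  have hc₁L : Fixes c₁ L := hF.fixes_Y hy hc₁ hL hML hs hT
  have hfv := not_fixes_of_mem hT.t27 hvL (hF.psq v hv) hv1
  obtain ⟨F, _, _, ⟨R⟩⟩ := hT
  have hcL : c₁ * v ∈ normalizer (L : Set G) := mul_mem hc₁L.1 (le_normalizer hvL)
  have hact : act L ⟨c₁ * v, hcL⟩ = MulAut.conj (QuotientGroup.mk ⟨v, hvL⟩) := by
    rw [act_mul hc₁L.1 (le_normalizer hvL), (act_eq_one_iff hc₁L.1).mpr hc₁L, one_mul,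
      act_of_mem hvL]
  -- `I` fixes `L`
  let f : ↥I →* MulAut (↥L ⧸ oddCore ↥L) := (act L).comp (Subgroup.inclusion hIN)
  have hperf : ⁅f.range, f.range⁆ = f.range := by
    have h5 : Group.IsPerfect ↥I := by
      rw [isPerfect_iff]
      exact h1.perfect
    have h6 : ⁅(⊤ : Subgroup ↥I), ⊤⁆ = ⊤ := h5.commutator_eq_top
    rw [MonoidHom.range_eq_map, ← map_commutator, h6]
  have hbot : f.range = ⊥ := by
    refine WBAut.perfect_comm R (φ := act L ⟨c₁ * v, hcL⟩) ?_ ?_ ?_ hperf ?_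
    · rw [hact]
      exact R.conj_mem_PGL _
    · rw [hact]
      intro h
      apply hfv
      rw [← act_eq_one_iff (le_normalizer hvL), act_of_mem hvL]
      exact h
    · rw [← map_mul]
      have h7 : (⟨c₁ * v, hcL⟩ : ↥(normalizer (L : Set G))) * ⟨c₁ * v, hcL⟩ = 1 :=
        Subtype.ext (hF.E_sq B.cE)
      rw [h7, map_one]
    · rintro _ ⟨⟨i, hi⟩, rfl⟩
      change act L ⟨i, hIN hi⟩ * _ = _ * act L ⟨i, hIN hi⟩
      rw [← map_mul, ← map_mul]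
      congr 1
      exact Subtype.ext (comm_c (h1.le hi).1)
  have hIL : ∀ i ∈ I, Fixes i L := by
    intro i hi
    rw [← act_eq_one_iff (hIN hi)]
    have h5 : f ⟨i, hi⟩ ∈ f.range := ⟨_, rfl⟩
    rw [hbot, mem_bot] at h5
    exact h5
  have hPI : ∀ p ∈ P, Fixes p I := by
    intro p hp
    have hpE : p ∈ Y ⊔ P := (le_sup_right : P ≤ Y ⊔ P) hp
    have hpc : p ∈ centralizer ({c₁ * v} : Set G) := mem_c (hF.E_comm hpE B.cE)
    refine fixes_of_comm_core h1 ⟨hpc, mem_c (hF.E_comm hpE hyE)⟩ fun i hi => ?_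
    refine inf_le_core ?_ ?_
    · have h5 := hL.core_le_core ((hIL i hi).2 p (hML (hF.pm hp)))
      have h6 : ⁅p, i⁆ = ⁅i, p⁆⁻¹ := (commutatorElement_inv i p).symm
      rw [h6]
      exact inv_mem h5
    · rw [commutatorElement_def]
      exact mul_mem (mul_mem (mul_mem hpc (h1.le hi).1) (inv_mem hpc)) (inv_mem (h1.le hi).1)
  obtain ⟨g, hg, hg1, hgP⟩ := hF.exists_meet B.DE B.D4 hyE (fun h => hy1 (hF.inf_eq hy h))
  have hgI : Fixes g I := by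
    rcases hgP with h | h
    · exact hPI g h
    · have h5 := fixes_mul (hPI _ h) (fixes_self' (h1.le.trans inf_le_right) : Fixes y I)
      rwa [mul_assoc, hF.ysq y hy, mul_one] at h5
  have hgy : g * y = y * g := hF.E_comm (B.DE hg) hyE
  refine B.nfx g hg hg1 (fixes_of_comm_diag B.comp hyX (hF.ysq y hy) hne
    (mem_c (hF.E_comm (B.DE hg) B.cE)) (B.nrm g hg) ?_ fun m hm => ?_)
  · rw [mem_normalizer_iff_cj, ← cj_mul, hgy, cj_mul, mem_normalizer_iff_cj.mp (B.nrm g hg)]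
  · rw [← hI] at hm
    have h6 := hgI.2 m hm
    rw [h4] at h6
    exact h6.2

/-- `b ∈ K` an involution of a Sylow 2-subgroup `R ≥ E` of `C(c)`, `v' ∈ P` not normalizing `K`: `b` acts on `K`
as `c₁`. -/
theorem step2_key {K R : Subgroup G} {c₁ v v' y b : G}
    (hK : IsComp (centralizer ({c₁ * v} : Set G)) K) (hKT : T27 K) (hc₁ : c₁ ∈ Y)
    (hv : v ∈ P) (hv1 : v ≠ 1) (hv' : v' ∈ P) (hvK : v ∈ normalizer (K : Set G))
    (hv'K : v' ∉ normalizer (K : Set G)) (hy : y ∈ Y) (hy1 : y ≠ 1) (hyc : c₁ = 1 ∨ c₁ = y)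
    (hR : IsSyl (centralizer ({c₁ * v} : Set G)) R) (hER : Y ⊔ P ≤ R) (hb : b ∈ R) (hbK : b ∈ K)
    (hbb : b * b = 1) (hb1 : b ≠ 1) (hby : b * y = y * b) : Fixes (b * c₁) K := by
  obtain ⟨L, hL, hML, hs, hT⟩ := hF.comp y hy hy1
  have hPE : P ≤ Y ⊔ P := le_sup_right
  have cE : c₁ * v ∈ Y ⊔ P := hF.mem_E.mpr ⟨c₁, hc₁, v, hv, rfl⟩
  have hbi : b⁻¹ = b := inv_eq_of_mul_eq_one_left hbb
  have hvv := hF.psq v hv
  have hvv' := hF.psq v' hv'
  have hvi' : v'⁻¹ = v' := inv_eq_of_mul_eq_one_left hvv'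
  have hcc := hF.ysq c₁ hc₁
  have hcomm : v * v' = v' * v := comm_of_sq hF.psq hv hv'
  have hc₁v : c₁ * v = v * c₁ := hF.yp hc₁ hv
  have hvL : v ∈ L := hML (hF.pm hv)
  have hvL' : v' ∈ L := hML (hF.pm hv')
  have hv'1 : v' ≠ 1 := by
    rintro rfl
    exact hv'K (one_mem _)
  have hne : v ≠ v' := by
    rintro rfl
    exact hv'K hvK
  have hbc : b * (c₁ * v) = (c₁ * v) * b := comm_c (hK.le hbK)
  have hbc₁ : b * c₁ = c₁ * b := by
    rcases hyc with h | h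
    · rw [h, mul_one, one_mul]
    · rw [h]; exact hby
  have hbv : b * v = v * b := by
    calc b * v = b * (c₁ * c₁) * v := by rw [hcc, mul_one]
      _ = (b * c₁) * (c₁ * v) := by group
      _ = c₁ * (b * (c₁ * v)) := by rw [hbc₁]; group
      _ = (c₁ * c₁) * v * b := by rw [hbc]; group
      _ = v * b := by rw [hcc, one_mul]
  have hbL : b ∈ normalizer (L : Set G) :=
    normalizes_of_comm hL hT.t27 hvL hvv hv1 (mem_c hby) hbv
  have hvX' : v' ∈ centralizer ({c₁ * v} : Set G) := mem_c (hF.E_comm (hPE hv') cE)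
  have hK' : IsComp (centralizer ({c₁ * v} : Set G)) (cj v' K) := isComp_cj_of_mem hK hvX'
  have hKK' : K ≠ cj v' K := fun h => hv'K (mem_normalizer_iff_cj.mpr h.symm)
  -- `b' = v' b v'`
  obtain ⟨b', hb'⟩ : ∃ b', b' = v' * b * v'⁻¹ := ⟨_, rfl⟩
  have hb'K : b' ∈ cj v' K := hb' ▸ conj_mem_cj hbK
  have hb'R : b' ∈ R := by
    rw [hb']
    exact mul_mem (mul_mem (hER (hPE hv')) hb) (inv_mem (hER (hPE hv')))
  have hb'b' : b' * b' = 1 := by
    rw [hb']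
    calc v' * b * v'⁻¹ * (v' * b * v'⁻¹) = v' * (b * b) * v'⁻¹ := by group
      _ = 1 := by rw [hbb]; group
  have hbb' : b * b' = b' * b := by
    have h1 : ⁅b, b'⁆ ∈ core K :=
      (hK.comm_le_core hK' hKK' (commutator_mem_commutator hbK hb'K)).1
    have h2 : ⁅b, b'⁆ ∈ R := by
      rw [commutatorElement_def]
      exact mul_mem (mul_mem (mul_mem hb hb'R) (inv_mem hb)) (inv_mem hb'R)
    exact commutatorElement_eq_one_iff_mul_comm.mp (eq_one_of_syl hR h2 h1)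
  have hfb' : Fixes b' K := hK.fixes_of_mem hK' hKK' hb'K
  have hb'v : b' * v = v * b' := by
    rw [hb', hvi']
    calc v' * b * v' * v = v' * b * (v * v') := by rw [hcomm]; group
      _ = v' * (b * v) * v' := by group
      _ = (v' * v) * b * v' := by rw [hbv]; group
      _ = v * (v' * b * v') := by rw [← hcomm]; group
  have hvb' : v' * b' = b * v' := by
    rw [hb', hvi']
    calc v' * (v' * b * v') = (v' * v') * b * v' := by group
      _ = b * v' := by rw [hvv', one_mul]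
  have hb'v' : b' * v' = v' * b := by
    rw [hb', hvi', mul_assoc, hvv', mul_one]
  -- `h = b b'`
  obtain ⟨h, hh⟩ : ∃ h, h = b * b' := ⟨_, rfl⟩
  have hhL : h ∈ L := by
    have h1 : h = (b * v' * b⁻¹) * v'⁻¹ := by
      rw [hh, hb', hbi]; group
    rw [h1]
    exact mul_mem (conj_mem hbL hvL') (inv_mem hvL')
  have hhh : h * h = 1 := by
    rw [hh]
    calc b * b' * (b * b') = b * (b' * b) * b' := by group
      _ = b * (b * b') * b' := by rw [hbb']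
      _ = (b * b) * (b' * b') := by group
      _ = 1 := by rw [hbb, hb'b', one_mul]
  have hhv : h * v = v * h := by
    rw [hh]
    calc b * b' * v = b * (b' * v) := by group
      _ = (b * v) * b' := by rw [hb'v]; group
      _ = v * (b * b') := by rw [hbv]; group
  have hhv' : h * v' = v' * h := by
    rw [hh]
    calc b * b' * v' = b * (b' * v') := by group
      _ = (b * v') * b := by rw [hb'v']; group
      _ = v' * (b' * b) := by rw [← hvb']; group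
      _ = v' * (b * b') := by rw [hbb']
  have hhK : h ∈ normalizer (K : Set G) := hh ▸ mul_mem (le_normalizer hbK) hfb'.1
  -- `h ∈ P`
  obtain ⟨F, _, _, ⟨Re⟩⟩ := hT
  have hcore : ∀ (x : G) (hx : x ∈ L), x * x = 1 → x ≠ 1 →
      (QuotientGroup.mk ⟨x, hx⟩ : ↥L ⧸ oddCore ↥L) ≠ 1 := by
    intro x hx hxx hx1 h1
    rw [mk_eq_one_iff hx] at h1
    exact hx1 (eq_one_of_mem_core_sq h1 hxx)
  have hfour : Four (QuotientGroup.mk ⟨v, hvL⟩ : ↥L ⧸ oddCore ↥L) (QuotientGroup.mk ⟨v', hvL'⟩) :=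
    { aa := congrArg QuotientGroup.mk (Subtype.ext hvv : (⟨v, hvL⟩ : ↥L) * ⟨v, hvL⟩ = 1)
      bb := congrArg QuotientGroup.mk (Subtype.ext hvv' : (⟨v', hvL'⟩ : ↥L) * ⟨v', hvL'⟩ = 1)
      a1 := hcore v hvL hvv hv1
      b1 := hcore v' hvL' hvv' hv'1
      ne := by
        intro h1
        rw [mk_eq_iff hvL hvL'] at h1
        have h2 : v⁻¹ * v' * (v⁻¹ * v') = 1 := by
          rw [inv_eq_of_mul_eq_one_left hvv]
          calc v * v' * (v * v') = (v * v) * (v' * v') := by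
                rw [hcomm]
                calc v' * v * (v' * v) = v' * (v * v') * v := by group
                  _ = v' * (v' * v) * v := by rw [hcomm]
                  _ = (v' * v') * (v * v) := by group
                  _ = (v * v) * (v' * v') := by rw [hvv, hvv']
            _ = 1 := by rw [hvv, hvv', one_mul]
        exact hne (inv_mul_eq_one.mp (eq_one_of_mem_core_sq h1 h2))
      comm := congrArg QuotientGroup.mk (Subtype.ext hcomm :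
        (⟨v, hvL⟩ : ↥L) * ⟨v', hvL'⟩ = ⟨v', hvL'⟩ * ⟨v, hvL⟩) }
  have hcase := WBAut.four_fix Re hfour (h := QuotientGroup.mk ⟨h, hhL⟩)
    (congrArg QuotientGroup.mk (Subtype.ext hhv : (⟨h, hhL⟩ : ↥L) * ⟨v, hvL⟩ = ⟨v, hvL⟩ * ⟨h, hhL⟩))
    (congrArg QuotientGroup.mk (Subtype.ext hhv' :
      (⟨h, hhL⟩ : ↥L) * ⟨v', hvL'⟩ = ⟨v', hvL'⟩ * ⟨h, hhL⟩))
  have hP : ∀ (p : G) (hp : p ∈ P), (QuotientGroup.mk ⟨h, hhL⟩ : ↥L ⧸ oddCore ↥L) =
      QuotientGroup.mk ⟨p, hML (hF.pm hp)⟩ → h * p = p * h → h = p := by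
    intro p hp h1 h2
    rw [mk_eq_iff hhL (hML (hF.pm hp))] at h1
    have h3 : h⁻¹ * p * (h⁻¹ * p) = 1 := by
      rw [inv_eq_of_mul_eq_one_left hhh]
      calc h * p * (h * p) = h * (p * h) * p := by group
        _ = h * (h * p) * p := by rw [h2]
        _ = (h * h) * (p * p) := by group
        _ = 1 := by rw [hhh, hF.psq p hp, one_mul]
    exact inv_mul_eq_one.mp (eq_one_of_mem_core_sq h1 h3)
  have hhvv : h * (v * v') = (v * v') * h := by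
    calc h * (v * v') = (h * v) * v' := by group
      _ = v * (h * v') := by rw [hhv]; group
      _ = v * v' * h := by rw [hhv']; group
  have hfin : h = 1 ∨ h = v ∨ h = v' ∨ h = v * v' := by
    rcases hcase with h1 | h1 | h1 | h1
    · exact Or.inl (hP 1 (one_mem _) h1 (by rw [mul_one, one_mul]))
    · exact Or.inr (Or.inl (hP v hv h1 hhv))
    · exact Or.inr (Or.inr (Or.inl (hP v' hv' h1 hhv')))
    · exact Or.inr (Or.inr (Or.inr (hP (v * v') (mul_mem hv hv') h1 hhvv)))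
  rcases hfin with h1 | h1 | h1 | h1
  · exfalso
    apply hKK'
    refine eq_of_inv hK hK' hKT hbK ?_ hbb hb1
    have h2 : b = b'⁻¹ := by
      rw [hh] at h1
      exact eq_inv_of_mul_eq_one_left h1
    rw [h2]
    exact inv_mem hb'K
  · have h2 : b * c₁ = (c₁ * v) * b'⁻¹ := by
      rw [hbc₁, mul_assoc, ← h1, hh, mul_inv_cancel_right]
    rw [h2]
    exact fixes_mul (fixes_self' hK.le) (fixes_inv hfb')
  · exact absurd (h1 ▸ hhK) hv'K
  · exfalso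
    apply hv'K
    have h2 : v' = v * h := by rw [h1, ← mul_assoc, hvv, one_mul]
    rw [h2]
    exact mul_mem hvK hhK

/-- `P` normalizes `K` -/
theorem step2 {K : Subgroup G} {c₁ v : G} (hK : IsComp (centralizer ({c₁ * v} : Set G)) K)
    (hKT : T27 K) (hc₁ : c₁ ∈ Y) (hv : v ∈ P)
    (hv1 : v ≠ 1) (hYK : ∀ y ∈ Y, y ∈ normalizer (K : Set G)) {v' : G} (hv' : v' ∈ P) :
    v' ∈ normalizer (K : Set G) := by
  by_contra hv'K
  have cE : c₁ * v ∈ Y ⊔ P := hF.mem_E.mpr ⟨c₁, hc₁, v, hv, rfl⟩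
  have hcc := hF.ysq c₁ hc₁
  have hcK : Fixes (c₁ * v) K := fixes_self' hK.le
  have hvK : v ∈ normalizer (K : Set G) := by
    have h1 : v = c₁ * (c₁ * v) := by rw [← mul_assoc, hcc, one_mul]
    rw [h1]
    exact mul_mem (hYK c₁ hc₁) hcK.1
  obtain ⟨y, hy, hy1, hyc⟩ : ∃ y ∈ Y, y ≠ 1 ∧ (c₁ = 1 ∨ c₁ = y) := by
    by_cases h : c₁ = 1
    · obtain ⟨y, hy, -, -, hy1, -, -⟩ := exists_gens hF.ycard
      exact ⟨y, hy, hy1, Or.inl h⟩
    · exact ⟨c₁, hc₁, h, Or.inr rfl⟩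
  obtain ⟨R, hR, hER⟩ := exists_isSyl (E := centralizer ({c₁ * v} : Set G))
    (isPGroup_of_sq fun _ h => hF.E_sq h) (hF.E_le cE)
  have key : ∀ b ∈ R ⊓ K, b * b = 1 → b ≠ 1 → b * y = y * b → Fixes (b * c₁) K :=
    fun b hb hbb hb1 hby =>
      hF.step2_key hK hKT hc₁ hv hv1 hv' hvK hv'K hy hy1 hyc hR hER hb.1 hb.2 hbb hb1 hby
  obtain ⟨a, ha, b, hb, haa, hbb, ha1, hb1, hab⟩ := exists_two_inv hK hKT hR
  -- a central involution
  have hTn : R ⊓ normalizer (K : Set G) ≤ normalizer ((R ⊓ K : Subgroup G) : Set G) := by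
    intro t ht
    rw [mem_normalizer_iff]
    intro x
    have h1 := mem_normalizer_iff.mp ht.2 x
    constructor
    · intro hx
      exact ⟨R.mul_mem (R.mul_mem ht.1 hx.1) (R.inv_mem ht.1), h1.mp hx.2⟩
    · intro hx
      refine ⟨?_, h1.mpr hx.2⟩
      have h2 := R.mul_mem (R.mul_mem (R.inv_mem ht.1) hx.1) ht.1
      have h3 : t⁻¹ * (t * x * t⁻¹) * t = x := by group
      rwa [h3] at h2
  obtain ⟨b₀, hb₀, hb₀2, hb₀c⟩ := exists_central (T := R ⊓ normalizer (K : Set G)) (N := R ⊓ K)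
    (hR.two.to_le inf_le_left) (inf_le_inf_left R le_normalizer) hTn (by
      intro h
      rw [h, mem_bot] at ha
      exact ha1 ha)
  have hb₀b₀ := sq_of_order hb₀2
  have hb₀1 := ne_one_of_order hb₀2
  have hyR : y ∈ R := hER ((le_sup_left : Y ≤ Y ⊔ P) hy)
  have hk₀ := key b₀ hb₀ hb₀b₀ hb₀1 (hb₀c y ⟨hyR, hYK y hy⟩).symm
  have hcy : c₁ = y := by
    rcases hyc with h | h
    · exfalso
      rw [h, mul_one] at hk₀
      exact not_fixes_of_mem hKT hb₀.2 hb₀b₀ hb₀1 hk₀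
    · exact h
  have huniq : ∀ x ∈ R ⊓ K, x * x = 1 → x ≠ 1 → x = b₀ := by
    intro x hx hxx hx1
    have hxb₀ : x * b₀ = b₀ * x := hb₀c x ⟨hx.1, le_normalizer hx.2⟩
    have h1 : ⁅b₀ * c₁, x⁆ = 1 := by
      refine eq_one_of_syl hR (K := K) ?_ (hk₀.2 x hx.2)
      have h2 : b₀ * c₁ ∈ R := mul_mem hb₀.1 (hcy ▸ hyR)
      rw [commutatorElement_def]
      exact mul_mem (mul_mem (mul_mem h2 hx.1) (inv_mem h2)) (inv_mem hx.1)
    rw [commutatorElement_eq_one_iff_mul_comm, hcy] at h1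
    have h2 : x * y = y * x := by
      have h3 : b₀ * (y * x) = b₀ * (x * y) := by
        calc b₀ * (y * x) = b₀ * y * x := by group
          _ = x * (b₀ * y) := h1
          _ = (x * b₀) * y := by group
          _ = b₀ * (x * y) := by rw [hxb₀]; group
      exact (mul_left_cancel h3).symm
    have h3 := key x hx hxx hx1 h2
    have h4 := fixes_mul h3 (fixes_inv hk₀)
    have h5 : x * c₁ * (b₀ * c₁)⁻¹ = x * b₀ := by
      rw [mul_inv_rev, inv_eq_of_mul_eq_one_left hb₀b₀]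
      group
    rw [h5] at h4
    by_contra hne
    refine not_fixes_of_mem hKT (K.mul_mem hx.2 hb₀.2) ?_ ?_ h4
    · calc x * b₀ * (x * b₀) = x * (b₀ * x) * b₀ := by group
        _ = x * (x * b₀) * b₀ := by rw [hxb₀]
        _ = (x * x) * (b₀ * b₀) := by group
        _ = 1 := by rw [hxx, hb₀b₀, one_mul]
    · intro h6
      apply hne
      have h7 := eq_inv_of_mul_eq_one_left h6
      rwa [inv_eq_of_mul_eq_one_left hb₀b₀] at h7
  exact hab ((huniq a ha haa ha1).trans (huniq b hb hbb hb1).symm)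

/-- **a 2-component of `C(c)` on which a four-group of `E` acts faithfully is normalized by `E`** -/
theorem claim {D K : Subgroup G} {c : G} (B : Bad Y P D c K) : Y ⊔ P ≤ normalizer (K : Set G) := by
  obtain ⟨c₁, hc₁, v, hv, rfl⟩ := hF.mem_E.mp B.cE
  by_cases hv1 : v = 1
  · refine hF.step0 B ?_
    rw [hv1, mul_one]
    exact hc₁
  · have h1 : ∀ y ∈ Y, y ∈ normalizer (K : Set G) := fun y hy => hF.step1 B hc₁ hv hv1 hy
    exact sup_le h1 fun v' hv' => hF.step2 B.comp B.type hc₁ hv hv1 h1 hv'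

omit [Finite G] in
/-- the triples belonging to a moved 2-component -/
theorem triple {d c z : G} {K : Subgroup G} (hd : d ∈ Y ⊔ P) (hd1 : d ≠ 1) (hc : c ∈ Y ⊔ P)
    (hc1 : c ≠ 1) (hK : IsComp (centralizer ({c} : Set G)) K)
    (hz : z ∈ core (centralizer ({d} : Set G))) (hzc : z ∈ centralizer ({c} : Set G))
    (hf : ¬ Fixes z K) : IsTriple d c K :=
  ⟨order_two (hF.E_sq hd) hd1, order_two (hF.E_sq hc) hc1, hF.E_comm hc hd, hK, z, hz, hzc, hf⟩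

/-- a moved 2-component is bad -/
theorem bad {D K : Subgroup G} {c z : G} (hD : D ≤ Y ⊔ P) (hD4 : Nat.card D = 4) (hc : c ∈ Y ⊔ P)
    (hc1 : c ≠ 1) (hz : ∀ d ∈ D, d ≠ 1 → z ∈ core (centralizer ({d} : Set G)))
    (hzc : z ∈ centralizer ({c} : Set G)) (hK : IsComp (centralizer ({c} : Set G)) K)
    (hf : ¬ Fixes z K) : Bad Y P D c K := by
  obtain ⟨d, hd, -, -, hd1, -, -⟩ := exists_gens hD4
  have T : ∀ d ∈ D, d ≠ 1 → IsTriple d c K := fun d hd hd1 =>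
    hF.triple (hD hd) hd1 hc hc1 hK (hz d hd hd1) hzc hf
  refine ⟨hc, hc1, hK, hF.rep d c K (T d hd hd1), hD, hD4, fun d hd => ?_, fun d hd hd1 =>
    (T d hd hd1).not_fixes⟩
  by_cases h : d = 1
  · rw [h]; exact one_mem _
  · exact (T d hd h).x_mem

omit hF [Finite G] in
/-- commuting involutions with the same action -/
theorem fixes_of_act_eq {K : Subgroup G} {a b : G} (ha : a ∈ normalizer (K : Set G))
    (hb : b ∈ normalizer (K : Set G)) (hbb : b * b = 1)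
    (h : act K ⟨a, ha⟩ = act K ⟨b, hb⟩) : Fixes (a * b) K := by
  rw [← act_eq_one_iff (mul_mem ha hb), act_mul ha hb, h, ← act_mul hb hb]
  have h1 : (⟨b * b, mul_mem hb hb⟩ : ↥(normalizer (K : Set G))) = 1 := Subtype.ext hbb
  rw [h1, map_one]

/-- **weak 2-balance, rank 3** -/
theorem b3 {U : Subgroup G} (hU : U ≤ Y ⊔ P) (hU4 : 4 < Nat.card U) {c : G} (hc : c ∈ Y ⊔ P)
    (hc1 : c ≠ 1) {z : G} (hz : ∀ f ∈ U, f ≠ 1 → z ∈ core (centralizer ({f} : Set G)))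
    (hzc : z ∈ centralizer ({c} : Set G)) : z ∈ core (centralizer ({c} : Set G)) := by
  by_contra hn
  obtain ⟨u₁, hu₁, h11, -, -, -⟩ := exists_not_mem hU4 1 1
  obtain ⟨u₂, hu₂, h21, h22, -, -⟩ := exists_not_mem hU4 u₁ u₁
  obtain ⟨u₃, hu₃, h31, h32, h33, h34⟩ := exists_not_mem hU4 u₁ u₂
  obtain ⟨K, hK, hf⟩ := Res.Base.exists_moved (H := centralizer ({c} : Set G)) (x := u₁)
    (mem_c (hF.E_comm (hU hu₁) hc)) (order_two (hF.E_sq (hU hu₁)) h11)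
    (inf_le_core (hz u₁ hu₁ h11) hzc) hn
  have T : ∀ u ∈ U, u ≠ 1 → IsTriple u c K := fun u hu hu1 =>
    hF.triple (hU hu) hu1 hc hc1 hK (hz u hu hu1) hzc hf
  have nf : ∀ u ∈ U, u ≠ 1 → ¬ Fixes u K := fun u hu hu1 => (T u hu hu1).not_fixes
  have n₁ := (T u₁ hu₁ h11).x_mem
  have n₂ := (T u₂ hu₂ h21).x_mem
  have n₃ := (T u₃ hu₃ h31).x_mem
  have hsq : ∀ u ∈ U, u * u = 1 := fun u hu => hF.E_sq (hU hu)
  rcases hF.rep _ _ _ (T u₁ hu₁ h11) with ⟨F, _, _, ⟨R⟩⟩ | ⟨⟨L₀⟩⟩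
  swap
  · obtain ⟨L, hL⟩ := exists_norm (T u₁ hu₁ h11) L₀ (hz u₁ hu₁ h11) hzc hf
    have hV : ∀ u ∈ U, u ≠ 1 → IsV (L.φ u) ∧ L.φ u ≠ 1 := fun u hu hu1 =>
      isV_of_triple (T u hu hu1) L (hz u hu hu1) hzc hf hL
    have hne : ∀ u ∈ U, ∀ w ∈ U, u ≠ w → u ∈ normalizer (K : Set G) → w ∈ normalizer (K : Set G) →
        L.φ u ≠ L.φ w := by
      intro u hu w hw huw n n' h
      refine nf _ (mul_mem hu hw) ?_ ((L.fixes_iff (mul_mem n n')).mp ?_)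
      · intro h1
        apply huw
        have h2 := eq_inv_of_mul_eq_one_left h1
        rwa [inv_eq_of_mul_eq_one_left (hsq w hw)] at h2
      · rw [L.mul _ _ n n', h]
        exact L.sq n' (hsq w hw)
    obtain ⟨v1, m1⟩ := hV u₁ hu₁ h11
    obtain ⟨v2, m2⟩ := hV u₂ hu₂ h21
    obtain ⟨v3, m3⟩ := hV u₃ hu₃ h31
    rcases v1.gen v2 m1 m2 (hne u₁ hu₁ u₂ hu₂ (Ne.symm h22) n₁ n₂) v3 with h | h | h | h
    · exact m3 h
    · exact hne u₃ hu₃ u₁ hu₁ h32 n₃ n₁ h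
    · exact hne u₃ hu₃ u₂ hu₂ h33 n₃ n₂ h
    · rw [← L.mul _ _ n₁ n₂] at h
      exact hne u₃ hu₃ _ (mul_mem hu₁ hu₂) h34 n₃ (mul_mem n₁ n₂) h
  have hne1 : ∀ u ∈ U, ∀ (_ : u ≠ 1) (n : u ∈ normalizer (K : Set G)), act K ⟨u, n⟩ ≠ 1 :=
    fun u hu hu1 n h => nf u hu hu1 ((act_eq_one_iff n).mp h)
  have hne : ∀ u ∈ U, ∀ w ∈ U, u ≠ w → ∀ (n : u ∈ normalizer (K : Set G))
      (n' : w ∈ normalizer (K : Set G)), act K ⟨u, n⟩ ≠ act K ⟨w, n'⟩ := by
    intro u hu w hw huw n n' h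
    refine nf _ (mul_mem hu hw) ?_ (fixes_of_act_eq n n' (hsq w hw) h)
    intro h1
    apply huw
    have h2 := eq_inv_of_mul_eq_one_left h1
    rwa [inv_eq_of_mul_eq_one_left (hsq w hw)] at h2
  have hss : ∀ u ∈ U, ∀ n : u ∈ normalizer (K : Set G), act K ⟨u, n⟩ * act K ⟨u, n⟩ = 1 := by
    intro u hu n
    rw [← map_mul]
    have h1 : (⟨u, n⟩ : ↥(normalizer (K : Set G))) * ⟨u, n⟩ = 1 := Subtype.ext (hsq u hu)
    rw [h1, map_one]
  have hcc : ∀ u ∈ U, ∀ w ∈ U, ∀ (n : u ∈ normalizer (K : Set G))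
      (n' : w ∈ normalizer (K : Set G)), act K ⟨u, n⟩ * act K ⟨w, n'⟩ =
        act K ⟨w, n'⟩ * act K ⟨u, n⟩ := by
    intro u hu w hw n n'
    rw [← map_mul, ← map_mul]
    congr 1
    exact Subtype.ext (hF.E_comm (hU hu) (hU hw))
  rcases WBAut.pgl_four R (WBTriple.mem_PGL (T u₁ hu₁ h11) R) (WBTriple.mem_PGL (T u₂ hu₂ h21) R)
    (WBTriple.mem_PGL (T u₃ hu₃ h31) R) (hne1 u₁ hu₁ h11 n₁) (hne1 u₂ hu₂ h21 n₂)
    (hne u₁ hu₁ u₂ hu₂ (Ne.symm h22) n₁ n₂) (hss u₁ hu₁ n₁) (hss u₂ hu₂ n₂)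
    (hcc u₁ hu₁ u₂ hu₂ n₁ n₂) (hcc u₃ hu₃ u₁ hu₁ n₃ n₁) (hcc u₃ hu₃ u₂ hu₂ n₃ n₂) with
    h | h | h | h
  · exact hne1 u₃ hu₃ h31 n₃ h
  · exact hne u₃ hu₃ u₁ hu₁ h32 n₃ n₁ h
  · exact hne u₃ hu₃ u₂ hu₂ h33 n₃ n₂ h
  · rw [← act_mul n₁ n₂] at h
    exact hne u₃ hu₃ _ (mul_mem hu₁ hu₂) h34 n₃ (mul_mem n₁ n₂) h

/-- the type of a bad 2-component of `C(c)`, `c ∈ Y` -/
theorem type_of_mem {D K : Subgroup G} {c : G} (B : Bad Y P D c K) (hc : c ∈ Y) : L2T K := by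
  obtain ⟨L, hL, hML, hs, hT⟩ := hF.comp c hc B.c1
  by_cases hKL : K = L
  · rw [hKL]; exact hT
  · exfalso
    have hPK : ∀ p ∈ P, Fixes p K := fun p hp =>
      B.comp.fixes_of_mem hL hKL (hML (hF.pm hp))
    obtain ⟨d, hd, hd1, h | h⟩ := hF.exists_meet B.DE B.D4 B.cE (fun h => B.c1 (hF.inf_eq hc h))
    · exact B.nfx d hd hd1 (hPK d h)
    · apply B.nfx d hd hd1
      have h1 := fixes_mul (hPK _ h) (fixes_self' B.comp.le : Fixes c K)
      rwa [mul_assoc, hF.ysq c hc, mul_one] at h1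

/-- **the bad configuration** arises if `[z, e]` moves a 2-component of type `A₇` moved by `z` -/
theorem exists_bad7 {D K : Subgroup G} {c z e : G} (hD : D ≤ Y ⊔ P) (hD4 : Nat.card D = 4)
    (hc : c ∈ Y ⊔ P) (hc1 : c ≠ 1) (hz : ∀ d ∈ D, d ≠ 1 → z ∈ core (centralizer ({d} : Set G)))
    (hzc : z ∈ centralizer ({c} : Set G)) (hK : IsComp (centralizer ({c} : Set G)) K)
    (hf : ¬ Fixes z K) (he : e ∈ Y ⊔ P) (L₀ : Lab K) (hze : ¬ Fixes ⁅z, e⁆ K) :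
    ∃ (x : G) (L : Lab K), Bad7 Y P c x K L := by
  have B := hF.bad hD hD4 hc hc1 hz hzc hK hf
  have hN : Y ⊔ P ≤ normalizer (K : Set G) := hF.claim B
  have heK : e ∈ normalizer (K : Set G) := hN he
  have T : ∀ d ∈ D, d ≠ 1 → IsTriple d c K := fun d hd hd1 =>
    hF.triple (hD hd) hd1 hc hc1 hK (hz d hd hd1) hzc hf
  obtain ⟨d₁, hd₁, d₂, hd₂, h1, h2, h12⟩ := exists_gens hD4
  have hzK : z ∈ normalizer (K : Set G) :=
    (T d₁ hd₁ h1).mem_normalizer_of_core (hz d₁ hd₁ h1) hzc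
  obtain ⟨L, hL⟩ := exists_norm (T d₁ hd₁ h1) L₀ (hz d₁ hd₁ h1) hzc hf
  obtain ⟨v1, m1⟩ := isV_of_triple (T d₁ hd₁ h1) L (hz d₁ hd₁ h1) hzc hf hL
  obtain ⟨v2, m2⟩ := isV_of_triple (T d₂ hd₂ h2) L (hz d₂ hd₂ h2) hzc hf hL
  have n₁ := B.nrm d₁ hd₁
  have n₂ := B.nrm d₂ hd₂
  have hsq : ∀ u ∈ D, u * u = 1 := fun u hu => hF.E_sq (hD hu)
  have hne : L.φ d₁ ≠ L.φ d₂ := by
    intro h
    refine B.nfx _ (mul_mem hd₁ hd₂) ?_ ((L.fixes_iff (mul_mem n₁ n₂)).mp ?_)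
    · intro h3
      apply h12
      have h4 := eq_inv_of_mul_eq_one_left h3
      rwa [inv_eq_of_mul_eq_one_left (hsq d₂ hd₂)] at h4
    · rw [L.mul _ _ n₁ n₂, h]
      exact L.sq n₂ (hsq d₂ hd₂)
  have hcm : L.φ z * L.φ e ≠ L.φ e * L.φ z := by
    intro h
    apply hze
    have hwK : ⁅z, e⁆ ∈ normalizer (K : Set G) := by
      rw [commutatorElement_def]
      exact mul_mem (mul_mem (mul_mem hzK heK) (inv_mem hzK)) (inv_mem heK)
    rw [← L.fixes_iff hwK, commutatorElement_def,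
      L.mul _ _ (mul_mem (mul_mem hzK heK) (inv_mem hzK)) (inv_mem heK),
      L.mul _ _ (mul_mem hzK heK) (inv_mem hzK), L.mul _ _ hzK heK, L.inv hzK, L.inv heK, h,
      mul_inv_cancel_right, mul_inv_cancel]
  obtain ⟨L', a1, a2, a3⟩ := exists_act L (fun f hf => hF.E_sq hf) hN (hD hd₁) (hD hd₂) he v1 v2 m1 m2
    hne hL hcm
  have hcY : c ∉ Y := fun h => not_both (hF.type_of_mem B h) L
  obtain ⟨b1, b2⟩ := hF.y_faith hc hcY hK L' hN a2
  exact ⟨d₁, L', hc, hcY, hD hd₁, T d₁ hd₁ h1, hN, a1, a2, by rw [a3 _ v1]; exact v1, b1, b2⟩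

/-- `[z, e]` fixes the 2-components moved by `z` -/
theorem comm_fixes (no7 : ∀ (w x : G) (K : Subgroup G) (L : Lab K), ¬ Bad7 Y P w x K L)
    {D K : Subgroup G} {c z e : G} (hD : D ≤ Y ⊔ P) (hD4 : Nat.card D = 4)
    (hc : c ∈ Y ⊔ P) (hc1 : c ≠ 1) (hz : ∀ d ∈ D, d ≠ 1 → z ∈ core (centralizer ({d} : Set G)))
    (hzc : z ∈ centralizer ({c} : Set G)) (hK : IsComp (centralizer ({c} : Set G)) K)
    (hf : ¬ Fixes z K) (he : e ∈ Y ⊔ P) : Fixes ⁅z, e⁆ K := by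
  by_contra hcon
  have B := hF.bad hD hD4 hc hc1 hz hzc hK hf
  obtain hty | ⟨⟨L₀⟩⟩ := B.type
  swap
  · obtain ⟨x, L, hB⟩ := hF.exists_bad7 hD hD4 hc hc1 hz hzc hK hf he L₀ hcon
    exact no7 _ _ _ _ hB
  apply hcon
  have heK : e ∈ normalizer (K : Set G) := hF.claim B he
  have T : ∀ d ∈ D, d ≠ 1 → IsTriple d c K := fun d hd hd1 =>
    hF.triple (hD hd) hd1 hc hc1 hK (hz d hd hd1) hzc hf
  obtain ⟨d₁, hd₁, d₂, hd₂, h1, h2, h12⟩ := exists_gens hD4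
  have hzK : z ∈ normalizer (K : Set G) :=
    (T d₁ hd₁ h1).mem_normalizer_of_core (hz d₁ hd₁ h1) hzc
  have hwK : ⁅z, e⁆ ∈ normalizer (K : Set G) := by
    rw [commutatorElement_def]
    exact mul_mem (mul_mem (mul_mem hzK heK) (inv_mem hzK)) (inv_mem heK)
  have hw : ∀ d ∈ D, d ≠ 1 → ⁅z, e⁆ ∈ core (centralizer ({d} : Set G)) := by
    intro d hd hd1
    have h3 := conj_core (mem_c (hF.E_comm he (hD hd))) (inv_mem (hz d hd hd1))
    have h4 : ⁅z, e⁆ = z * (e * z⁻¹ * e⁻¹) := by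
      rw [commutatorElement_def]; group
    rw [h4]
    exact mul_mem (hz d hd hd1) h3
  obtain ⟨F, _, _, ⟨R⟩⟩ := hty
  have n₁ := B.nrm d₁ hd₁
  have n₂ := B.nrm d₂ hd₂
  have hsq : ∀ u ∈ D, u * u = 1 := fun u hu => hF.E_sq (hD hu)
  have hss : ∀ u ∈ D, ∀ n : u ∈ normalizer (K : Set G), act K ⟨u, n⟩ * act K ⟨u, n⟩ = 1 := by
    intro u hu n
    rw [← map_mul]
    have h1 : (⟨u, n⟩ : ↥(normalizer (K : Set G))) * ⟨u, n⟩ = 1 := Subtype.ext (hsq u hu)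
    rw [h1, map_one]
  have hα : act K ⟨⁅z, e⁆, hwK⟩ = ⁅act K ⟨z, hzK⟩, act K ⟨e, heK⟩⁆ := by
    rw [← map_commutatorElement]
    rfl
  have hαP : act K ⟨⁅z, e⁆, hwK⟩ ∈ R.PGL := by
    rw [hα, R.mem_PGL_iff_fld, map_commutatorElement, commutatorElement_eq_one_iff_mul_comm]
    exact Cfsg.Agent.Lib.AutSL2Out.ringEquiv_comm _ _
  have hαc : ∀ d ∈ D, ∀ (_ : d ≠ 1) (n : d ∈ normalizer (K : Set G)),
      act K ⟨⁅z, e⁆, hwK⟩ * act K ⟨d, n⟩ = act K ⟨d, n⟩ * act K ⟨⁅z, e⁆, hwK⟩ := by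
    intro d hd hd1 n
    rw [← map_mul, ← map_mul]
    congr 1
    exact Subtype.ext (comm_c (core_le _ (hw d hd hd1)))
  have hc12 : act K ⟨d₁, n₁⟩ * act K ⟨d₂, n₂⟩ = act K ⟨d₂, n₂⟩ * act K ⟨d₁, n₁⟩ := by
    rw [← map_mul, ← map_mul]
    congr 1
    exact Subtype.ext (hF.E_comm (hD hd₁) (hD hd₂))
  have hαα : act K ⟨⁅z, e⁆, hwK⟩ * act K ⟨⁅z, e⁆, hwK⟩ = 1 := by
    rcases WBAut.pgl_four R (WBTriple.mem_PGL (T d₁ hd₁ h1) R) (WBTriple.mem_PGL (T d₂ hd₂ h2) R)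
      hαP (fun h => B.nfx d₁ hd₁ h1 ((act_eq_one_iff n₁).mp h))
      (fun h => B.nfx d₂ hd₂ h2 ((act_eq_one_iff n₂).mp h))
      (fun h => B.nfx _ (mul_mem hd₁ hd₂) (fun h3 => h12 (by
        have h4 := eq_inv_of_mul_eq_one_left h3
        rwa [inv_eq_of_mul_eq_one_left (hsq d₂ hd₂)] at h4))
        (fixes_of_act_eq n₁ n₂ (hsq d₂ hd₂) h))
      (hss d₁ hd₁ n₁) (hss d₂ hd₂ n₂) hc12 (hαc d₁ hd₁ h1 n₁) (hαc d₂ hd₂ h2 n₂) with
      h | h | h | h
    · rw [h, one_mul]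
    · rw [h]; exact hss d₁ hd₁ n₁
    · rw [h]; exact hss d₂ hd₂ n₂
    · rw [h, ← act_mul n₁ n₂]
      exact hss _ (mul_mem hd₁ hd₂) _
  rw [← act_eq_one_iff hwK]
  refine Cfsg.Agent.OddHalf.D6.PglType.eq_one_of_odd_sq hαα ?_
  have h3 : orderOf (act K ⟨⁅z, e⁆, hwK⟩) ∣ orderOf ⁅z, e⁆ := by
    have h2 : orderOf (⟨⁅z, e⁆, hwK⟩ : ↥(normalizer (K : Set G))) = orderOf ⁅z, e⁆ :=
      Subgroup.orderOf_mk _ _
    rw [← h2]
    exact orderOf_map_dvd _ _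
  refine Odd.of_dvd_nat (odd_card_core (centralizer ({d₁} : Set G))) (h3.trans ?_)
  rw [← Subgroup.orderOf_mk ⁅z, e⁆ (hw d₁ hd₁ h1)]
  exact orderOf_dvd_natCard _

/-- **weak 2-balance, rank 2** -/
theorem w2 (no7 : ∀ (w x : G) (K : Subgroup G) (L : Lab K), ¬ Bad7 Y P w x K L) {D : Subgroup G} (hD : D ≤ Y ⊔ P) (hD4 : Nat.card D = 4) {c : G} (hc : c ∈ Y ⊔ P)
    (hc1 : c ≠ 1) {z : G} (hz : ∀ d ∈ D, d ≠ 1 → z ∈ core (centralizer ({d} : Set G)))
    (hzc : z ∈ centralizer ({c} : Set G)) {e : G} (he : e ∈ Y ⊔ P) :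
    ⁅z, e⁆ ∈ core (centralizer ({c} : Set G)) := by
  have hec : e ∈ centralizer ({c} : Set G) := mem_c (hF.E_comm he hc)
  have hw : ∀ d ∈ D, d ≠ 1 → ⁅z, e⁆ ∈ core (centralizer ({d} : Set G)) := by
    intro d hd hd1
    have h3 := conj_core (mem_c (hF.E_comm he (hD hd))) (inv_mem (hz d hd hd1))
    have h4 : ⁅z, e⁆ = z * (e * z⁻¹ * e⁻¹) := by
      rw [commutatorElement_def]; group
    rw [h4]
    exact mul_mem (hz d hd hd1) h3
  by_cases hcD : c ∈ D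
  · exact hw c hcD hc1
  by_contra hn
  obtain ⟨d, hd, -, -, hd1, -, -⟩ := exists_gens hD4
  have hwc : ⁅z, e⁆ ∈ centralizer ({c} : Set G) := by
    rw [commutatorElement_def]
    exact mul_mem (mul_mem (mul_mem hzc hec) (inv_mem hzc)) (inv_mem hec)
  obtain ⟨K, hK, hf⟩ := Res.Base.exists_moved (H := centralizer ({c} : Set G)) (x := d)
    (mem_c (hF.E_comm (hD hd) hc)) (order_two (hF.E_sq (hD hd)) hd1)
    (inf_le_core (hw d hd hd1) hwc) hn
  -- `z` fixes `K`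
  have hzK : Fixes z K := by
    by_contra h
    exact hf (hF.comm_fixes no7 hD hD4 hc hc1 hz hzc hK h he)
  have hK' : IsComp (centralizer ({c} : Set G)) (cj e⁻¹ K) := isComp_cj_of_mem hK (inv_mem hec)
  have hK'K : cj e (cj e⁻¹ K) = K := by
    rw [← cj_mul, mul_inv_cancel, cj_one]
  have hzK' : ¬ Fixes z (cj e⁻¹ K) := by
    intro h
    apply hf
    have h1 := (fixes_inv h).cj e
    rw [hK'K] at h1
    have h2 := fixes_mul hzK h1
    have h3 : ⁅z, e⁆ = z * (e * z⁻¹ * e⁻¹) := by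
      rw [commutatorElement_def]; group
    rwa [h3]
  have heK' : e ∈ normalizer (cj e⁻¹ K : Set G) :=
    hF.claim (hF.bad hD hD4 hc hc1 hz hzc hK' hzK') he
  rw [mem_normalizer_iff_cj, hK'K] at heK'
  rw [← heK'] at hzK'
  exact hzK' hzK

end Frame

end Cfsg.Agent.UGT.L2Inner
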