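import Cfsg.Agent.UGT.L2Inner.WBBase

/-!
# UGT, inner L2: `(*)`

`Y` a four-group commuting with `M`; for `y ∈ Y#` the group `M` covers `L / O(L) ≅ PSL(2,F)`, `L` a 2-component of
`C(y)`; all triples are of type `PSL(2,F)` or `A₇` (`YFrame M Y`).

* `YFrame.star`: `t ∈ M` an involution, `c ∈ Y`, `y ∈ Y#`, `I` a 2-component of `C(c t) ∩ C(y)`: `C_M(t)` fixes `I`.
-/

set_option autoImplicit false

open Cfsg Subgroup
open Cfsg.Agent.SignalizersComponents Cfsg.Agent.Lib
open Cfsg.Agent.SignalizersComponents.IntrinsicBasic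
open Cfsg.Agent.SignalizersComponents.PLayerAut
open Cfsg.Agent.Intrinsic.Basic Cfsg.Agent.Intrinsic.Cen Cfsg.Agent.Intrinsic.Diag
open Cfsg.Agent.McLLyComp.Act
open Cfsg.Agent.UGT.Triple Cfsg.Agent.UGT.TriBase
open Cfsg.Agent.GH.L2Aut (Four)
open scoped commutatorElement

namespace Cfsg.Agent.UGT.L2Inner

variable {G : Type*} [Group G]

/-- The frame without the four-group of `M`. -/
structure YFrame (M Y : Subgroup G) : Prop where
  ysq : ∀ y ∈ Y, y * y = 1
  ycard : Nat.card Y = 4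
  ym : ∀ y ∈ Y, ∀ m ∈ M, y * m = m * y
  comp : ∀ y ∈ Y, y ≠ 1 → ∃ L, IsComp (centralizer ({y} : Set G)) L ∧ M ≤ L ∧ M ⊔ core L = L ∧ L2T L
  rep : ∀ (x a : G) (K : Subgroup G), IsTriple x a K → T27 K

theorem Frame.yFrame {M Y P : Subgroup G} (hF : Frame M Y P) : YFrame M Y :=
  ⟨hF.ysq, hF.ycard, hF.ym, hF.comp, hF.rep⟩

theorem YFrame.frame {M Y P : Subgroup G} (hF : YFrame M Y) (psq : ∀ p ∈ P, p * p = 1)
    (pcard : Nat.card P = 4) (pm : P ≤ M) : Frame M Y P :=
  ⟨hF.ysq, hF.ycard, psq, pcard, hF.ym, pm, hF.comp, hF.rep⟩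

/-- the order of a four-group -/
theorem card_four {a b : G} (h : Four a b) : Nat.card h.sub = 4 := by
  have h1 : ((h.sub : Subgroup G) : Set G) = {1, a, b, a * b} := by
    ext x
    rfl
  have h2 : Nat.card h.sub = ((h.sub : Subgroup G) : Set G).ncard := (Nat.card_coe_set_eq _).symm
  rw [h2, h1, Set.ncard_insert_of_notMem, Set.ncard_insert_of_notMem, Set.ncard_insert_of_notMem,
    Set.ncard_singleton]
  · intro h3
    exact h.a1 (mul_eq_right.mp (Set.mem_singleton_iff.mp h3).symm)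
  · rintro (h3 | h3)
    · exact h.ne h3
    · exact h.b1 (left_eq_mul.mp h3)
  · rintro (h3 | h3 | h3)
    · exact h.a1 h3.symm
    · exact h.b1 h3.symm
    · exact h.right.b1 h3.symm

theorem sq_four {a b : G} (h : Four a b) : ∀ p ∈ h.sub, p * p = 1 := by
  rintro p (rfl | rfl | rfl | rfl)
  · rw [mul_one]
  · exact h.aa
  · exact h.bb
  · exact h.right.bb

variable [Finite G]

namespace YFrame

variable {M Y : Subgroup G} (hF : YFrame M Y)

include hF

/-- `Y` fixes `L_y` -/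
theorem fixes_Y {y c t : G} (hy : y ∈ Y) (hc : c ∈ Y) (ht : t ∈ M) (htt : t * t = 1) (ht1 : t ≠ 1)
    {L : Subgroup G} (hL : IsComp (centralizer ({y} : Set G)) L) (hML : M ≤ L)
    (hs : M ⊔ core L = L) (hT : L2T L) : Fixes c L := by
  have hcL : c ∈ normalizer (L : Set G) :=
    normalizes_of_comm hL hT.t27 (hML ht) htt ht1 (mem_c (comm_of_sq hF.ysq hc hy)) (hF.ym c hc t ht)
  have hcM : Fixes c M := fixes_self' fun m hm => mem_c (hF.ym c hc m hm).symm
  exact (fixes_iff_of_sup hs hcM.1 hcL).mp hcM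

omit [Finite G] in
theorem sq_mul {c t : G} (hc : c ∈ Y) (ht : t ∈ M) (htt : t * t = 1) : c * t * (c * t) = 1 := by
  calc c * t * (c * t) = c * (t * c) * t := by group
    _ = c * (c * t) * t := by rw [hF.ym c hc t ht]
    _ = (c * c) * (t * t) := by group
    _ = 1 := by rw [hF.ysq c hc, htt, one_mul]

/-- **(*)** -/
theorem star {t c y m : G} {I : Subgroup G} (ht : t ∈ M) (htt : t * t = 1) (ht1 : t ≠ 1) (hc : c ∈ Y)
    (hy : y ∈ Y) (hy1 : y ≠ 1)
    (hI : IsComp (centralizer ({c * t} : Set G) ⊓ centralizer ({y} : Set G)) I) (hm : m ∈ M)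
    (hmt : m * t = t * m) : Fixes m I := by
  obtain ⟨L, hL, hML, hs, hT⟩ := hF.comp y hy hy1
  have hcyX : c * t * y = y * (c * t) := by
    calc c * t * y = c * (t * y) := by group
      _ = (c * y) * t := by rw [← hF.ym y hy t ht]; group
      _ = y * (c * t) := by rw [comm_of_sq hF.ysq hc hy]; group
  have hI' := hI
  rw [inf_comm] at hI'
  have hIN : I ≤ normalizer (L : Set G) :=
    (isComp_le_L2 (mem_c hcyX) (hF.sq_mul hc ht htt) hI').trans hL.L2_le_normalizer
  have htL : t ∈ L := hML ht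
  have hcL : Fixes c L := hF.fixes_Y hy hc ht htt ht1 hL hML hs hT
  have hft := not_fixes_of_mem hT.t27 htL htt ht1
  obtain ⟨F, _, _, ⟨R⟩⟩ := hT
  have hctL : c * t ∈ normalizer (L : Set G) := mul_mem hcL.1 (le_normalizer htL)
  have hact : act L ⟨c * t, hctL⟩ = MulAut.conj (QuotientGroup.mk ⟨t, htL⟩) := by
    rw [act_mul hcL.1 (le_normalizer htL), (act_eq_one_iff hcL.1).mpr hcL, one_mul, act_of_mem htL]
  let f : ↥I →* MulAut (↥L ⧸ oddCore ↥L) := (act L).comp (Subgroup.inclusion hIN)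
  have hperf : ⁅f.range, f.range⁆ = f.range := by
    have h5 : Group.IsPerfect ↥I := by
      rw [isPerfect_iff]
      exact hI.perfect
    have h6 : ⁅(⊤ : Subgroup ↥I), ⊤⁆ = ⊤ := h5.commutator_eq_top
    rw [MonoidHom.range_eq_map, ← map_commutator, h6]
  have hbot : f.range = ⊥ := by
    refine WBAut.perfect_comm R (φ := act L ⟨c * t, hctL⟩) ?_ ?_ ?_ hperf ?_
    · rw [hact]
      exact R.conj_mem_PGL _
    · rw [hact]
      intro h
      apply hft
      rw [← act_eq_one_iff (le_normalizer htL), act_of_mem htL]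
      exact h
    · rw [← map_mul]
      have h7 : (⟨c * t, hctL⟩ : ↥(normalizer (L : Set G))) * ⟨c * t, hctL⟩ = 1 :=
        Subtype.ext (hF.sq_mul hc ht htt)
      rw [h7, map_one]
    · rintro _ ⟨⟨i, hi⟩, rfl⟩
      change act L ⟨i, hIN hi⟩ * _ = _ * act L ⟨i, hIN hi⟩
      rw [← map_mul, ← map_mul]
      congr 1
      exact Subtype.ext (comm_c (hI.le hi).1)
  have hmc : m ∈ centralizer ({c * t} : Set G) := by
    apply mem_c
    calc m * (c * t) = (m * c) * t := by group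
      _ = c * (m * t) := by rw [← hF.ym c hc m hm]; group
      _ = c * t * m := by rw [hmt]; group
  refine fixes_of_comm_core hI ⟨hmc, mem_c (hF.ym y hy m hm).symm⟩ fun i hi => ?_
  have hiL : Fixes i L := by
    rw [← act_eq_one_iff (hIN hi)]
    have h5 : f ⟨i, hi⟩ ∈ f.range := ⟨_, rfl⟩
    rw [hbot, mem_bot] at h5
    exact h5
  refine inf_le_core ?_ ?_
  · have h5 := hL.core_le_core (hiL.2 m (hML hm))
    have h6 : ⁅m, i⁆ = ⁅i, m⁆⁻¹ := (commutatorElement_inv i m).symm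
    rw [h6]
    exact inv_mem h5
  · rw [commutatorElement_def]
    exact mul_mem (mul_mem (mul_mem hmc (hI.le hi).1) (inv_mem hmc)) (inv_mem (hI.le hi).1)

end YFrame

end Cfsg.Agent.UGT.L2Inner
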